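/-
The principal block of a Sylow subgroup of prime order, as lists with signs read off the degrees.
-/
import Cfsg.Agent.Lib.SimpleM22.Chars
import Cfsg.Agent.Lib.SmallSylow.Block

set_option autoImplicit false
set_option linter.style.haveILetI false
set_option linter.unusedSectionVars false

namespace CfsgSimpleM22

open Cfsg CfsgLib.CharTheory CfsgLib.Blocks CfsgSimpleM11
open CfsgLib.SmallSylow (inIdx)

universe u
variable {G : Type u} [Group G] [Fintype G] {p : ℕ} [Fact p.Prime]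

/-- The sign of a character of degree congruent to one or minus one. -/
def sgn (p d : ℕ) : ℤ := if d % p = 1 then 1 else -1

/-- The sign of an exceptional character. -/
def sgE (p e f : ℕ) : ℤ := if f % p = e % p then -1 else 1

theorem sgn_eq (hp : 2 < p) {d : ℕ} {s : ℤ} (hs : s = 1 ∨ s = -1) (h : (d : ℤ) ≡ s [ZMOD p]) :
    sgn p d = s ∧ (d % p = 1 ∨ d % p = p - 1) := by
  unfold sgn
  rcases hs with rfl | rfl
  · have h1 : d % p = 1 := by
      have : d ≡ 1 [MOD p] := Int.natCast_modEq_iff.mp (by exact_mod_cast h)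
      rw [this, Nat.mod_eq_of_lt (by omega)]
    exact ⟨if_pos h1, Or.inl h1⟩
  · have h1 : d % p = p - 1 := by
      have : d ≡ p - 1 [MOD p] := Int.natCast_modEq_iff.mp (by
        refine h.trans ?_
        rw [Int.modEq_iff_dvd, Nat.cast_sub (by omega : 1 ≤ p)]
        exact ⟨1, by push_cast; ring⟩)
      rw [this, Nat.mod_eq_of_lt (by omega)]
    exact ⟨if_neg (by omega), Or.inr h1⟩

theorem sgE_eq (hp : 2 < p) {e f : ℕ} (he0 : 0 < e) (he : e < p) {s : ℤ} (hs : s = 1 ∨ s = -1)
    (h : (f : ℤ) ≡ -s * e [ZMOD p]) :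
    sgE p e f = s ∧ (f % p = e ∨ f % p = p - e) := by
  unfold sgE
  rw [Nat.mod_eq_of_lt he]
  rcases hs with rfl | rfl
  · have h1 : f % p = p - e := by
      have : f ≡ p - e [MOD p] := Int.natCast_modEq_iff.mp (by
        refine h.trans ?_
        rw [Int.modEq_iff_dvd, Nat.cast_sub (by omega : e ≤ p)]
        exact ⟨1, by push_cast; ring⟩)
      rw [this, Nat.mod_eq_of_lt (by omega)]
    refine ⟨if_neg fun h2 => ?_, Or.inr h1⟩
    rcases (Fact.out : p.Prime).eq_two_or_odd' with e2 | ⟨k, hk⟩ <;> omega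
  · have h1 : f % p = e := by
      have : f ≡ e [MOD p] := Int.natCast_modEq_iff.mp (by simpa using h)
      rw [this, Nat.mod_eq_of_lt he]
    exact ⟨if_pos h1, Or.inl h1⟩

/-- The characters of the principal block other than the trivial one. -/
structure BL (P : Sylow p G) where
  xs : List (IrrCharacter G)
  ys : List (IrrCharacter G)
  f : ℕ
  nodup : (triv G :: (xs ++ ys)).Nodup
  len_xs : xs.length + 1 = inIdx P
  len_ys : ys.length * inIdx P = p - 1
  modX : ∀ χ ∈ xs, dg χ % p = 1 ∨ dg χ % p = p - 1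
  valX : ∀ χ ∈ xs, ∀ x ∈ (P : Subgroup G), x ≠ 1 →
    ∀ y ∈ Subgroup.centralizer ((P : Subgroup G) : Set G), ¬ p ∣ orderOf y →
      (χ : G → ℂ) (x * y) = (sgn p (dg χ) : ℂ)
  degY : ∀ η ∈ ys, dg η = f
  modf : f % p = inIdx P ∨ f % p = p - inIdx P
  sumY : ∀ x ∈ (P : Subgroup G), x ≠ 1 → ∀ y ∈ Subgroup.centralizer ((P : Subgroup G) : Set G), ¬ p ∣ orderOf y →
    (ys.map fun η : IrrCharacter G => (η : G → ℂ) (x * y)).sum = (sgE p (inIdx P) f : ℂ)
  agree : ∀ η ∈ ys, ∀ η' ∈ ys, ∀ g : G, ¬ p ∣ orderOf g → (η : G → ℂ) g = (η' : G → ℂ) g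
  rel : ∀ η ∈ ys, ∀ g : G, ¬ p ∣ orderOf g →
    1 + (xs.map fun χ : IrrCharacter G => (sgn p (dg χ) : ℂ) * (χ : G → ℂ) g).sum +
      (sgE p (inIdx P) f : ℂ) * (η : G → ℂ) g = 0
  dvdX : ∀ χ ∈ xs, dg χ ∣ inIdx P * Nat.card (Sylow p G)
  dvdY : f ∣ inIdx P * Nat.card (Sylow p G)
  closed : Subgroup.centralizer ((P : Subgroup G) : Set G) = (P : Subgroup G) →
    ∀ χ, χ ∉ triv G :: (xs ++ ys) →
      (∀ x ∈ (P : Subgroup G), x ≠ 1 → (χ : G → ℂ) x = 0) ∧ p ∣ dg χ

theorem inIdx_pos (P : Sylow p G) : 0 < inIdx P :=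
  Nat.pos_of_ne_zero Subgroup.index_ne_zero_of_finite

theorem BL.exists_eta {P : Sylow p G} (B : BL P) : ∃ η, η ∈ B.ys := by
  rcases B.ys.eq_nil_or_concat with h | ⟨l, a, h⟩
  · have := B.len_ys
    rw [h, List.length_nil, zero_mul] at this
    have := (Fact.out : p.Prime).two_le
    omega
  · exact ⟨a, by simp [h]⟩

theorem exists_BL (hodd : p ≠ 2) (P : Sylow p G) (hP : Nat.card P = p) (h2 : 2 ≤ inIdx P) :
    Nonempty (BL P) := by
  classical
  have hp : p.Prime := Fact.out
  have hp2 : 2 < p := lt_of_le_of_ne hp.two_le (Ne.symm hodd)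
  obtain ⟨M, hM⟩ := exists_pModular hp
  obtain ⟨X₀, Y₀, δ₀, σ₀, D₀⟩ := CfsgLib.SmallSylow.exists_data hM hodd P hP
  have hdvd : inIdx P ∣ p - 1 := ⟨Y₀.card, by rw [← D₀.cardY, mul_comm]⟩
  have hlt : inIdx P < p := by
    have := Nat.le_of_dvd (by omega) hdvd
    omega
  obtain ⟨X, Y, hXY, hdisj, hcX, hcY, εX, ε, hX, hε, hYdeg, hagree, hrel⟩ :=
    Cfsg.Agent.S4441.result p M hM hodd P hP (inIdx P) rfl
  have hreg1 : ¬ p ∣ orderOf (1 : G) := by rw [orderOf_one]; exact hp.not_dvd_one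
  have hdisj' : Disjoint X.toFinset Y.toFinset := Set.disjoint_toFinset.2 hdisj
  have hcX' : X.toFinset.card = inIdx P := by rw [← Nat.card_eq_card_toFinset]; exact hcX
  have hcY' : Y.toFinset.card * inIdx P = p - 1 := by
    rw [← Nat.card_eq_card_toFinset, hcY, Nat.div_mul_cancel hdvd]
  have hsum : ∀ x ∈ (P : Subgroup G), x ≠ 1 → ∀ y ∈ Subgroup.centralizer ((P : Subgroup G) : Set G), ¬ p ∣ orderOf y →
      ∑ η ∈ Y.toFinset, (η : G → ℂ) (x * y) = ((-ε : ℤ) : ℂ) := by
    intro x hx hx1 y hy hyp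
    obtain ⟨η₀, hη₀⟩ : Y.toFinset.Nonempty := by
      rw [← Finset.card_pos]
      rcases Nat.eq_zero_or_pos Y.toFinset.card with h | h
      · rw [h, zero_mul] at hcY'; omega
      · exact h
    have hη₀' := Set.mem_toFinset.1 hη₀
    have hpx : p ∣ orderOf (x * y) := by
      have hcm : Commute x y := Subgroup.mem_centralizer_iff.mp hy x hx
      have hox := CfsgLib.SmallSylow.orderOf_mem P hP hx hx1
      rw [hcm.orderOf_mul_eq_mul_orderOf_of_coprime (by rw [hox]; exact (hp.coprime_iff_not_dvd).2 hyp), hox]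
      exact dvd_mul_right p _
    have h0 := weak_orth hM (principalBlock_isPBlock (M := M) (G := G)) hreg1 hpx
    have hb : bset (principalBlock M G) = X.toFinset ∪ Y.toFinset := by
      ext χ
      rw [mem_bset, hXY]
      simp
    have e1 : ∑ χ ∈ X.toFinset, (χ : G → ℂ) 1 * (χ : G → ℂ) (x * y) =
        (ε : ℂ) * (η₀ : G → ℂ) 1 := by
      rw [hrel η₀ hη₀' 1 hreg1, finsum_mem_eq_toFinset_sum]
      refine Finset.sum_congr rfl fun χ hχ => ?_
      rw [(hX χ (Set.mem_toFinset.1 hχ)).2.2 x hx hx1 y hy hyp, mul_comm]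
    have e2 : ∑ η ∈ Y.toFinset, (η : G → ℂ) 1 * (η : G → ℂ) (x * y) =
        (η₀ : G → ℂ) 1 * ∑ η ∈ Y.toFinset, (η : G → ℂ) (x * y) := by
      rw [Finset.mul_sum]
      exact Finset.sum_congr rfl fun η hη => by
        rw [hagree η (Set.mem_toFinset.1 hη) η₀ hη₀' 1 hreg1]
    rw [hb, Finset.sum_union hdisj', e1, e2] at h0
    have h1 : (η₀ : G → ℂ) 1 * ((ε : ℂ) + ∑ η ∈ Y.toFinset, (η : G → ℂ) (x * y)) = 0 := by
      linear_combination h0
    rw [Int.cast_neg, eq_neg_iff_add_eq_zero, add_comm]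
    exact (mul_eq_zero.1 h1).resolve_left (irr_one_ne_zero η₀)
  -- arrange the trivial character among the rational ones
  suffices h : ∃ (A B : Finset (IrrCharacter G)) (δ : IrrCharacter G → ℤ) (σ : ℤ), triv G ∈ A ∧
      Disjoint A B ∧ (∀ χ, χ ∈ A ∪ B ↔ χ ∈ principalBlock M G) ∧ A.card = inIdx P ∧
      B.card * inIdx P = p - 1 ∧
      (∀ χ ∈ A, (δ χ = 1 ∨ δ χ = -1) ∧ (dg χ : ℤ) ≡ δ χ [ZMOD p] ∧ ∀ x ∈ (P : Subgroup G), x ≠ 1 →
        ∀ y ∈ Subgroup.centralizer ((P : Subgroup G) : Set G), ¬ p ∣ orderOf y →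
          (χ : G → ℂ) (x * y) = (δ χ : ℂ)) ∧
      (σ = 1 ∨ σ = -1) ∧ (∀ η ∈ B, (dg η : ℤ) ≡ -σ * (inIdx P : ℤ) [ZMOD p]) ∧
      (∀ η ∈ B, ∀ η' ∈ B, ∀ g : G, ¬ p ∣ orderOf g → (η : G → ℂ) g = (η' : G → ℂ) g) ∧
      (∀ x ∈ (P : Subgroup G), x ≠ 1 → ∀ y ∈ Subgroup.centralizer ((P : Subgroup G) : Set G), ¬ p ∣ orderOf y →
        ∑ η ∈ B, (η : G → ℂ) (x * y) = (σ : ℂ)) ∧
      (∀ η ∈ B, ∀ g : G, ¬ p ∣ orderOf g →
        ∑ χ ∈ A, (δ χ : ℂ) * (χ : G → ℂ) g + (σ : ℂ) * (η : G → ℂ) g = 0) by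
    obtain ⟨A, B, δ, σ, htA, hAB, hmem, hcA, hcB, hA, hσ, hB, hBag, hBsum, hBrel⟩ := h
    obtain ⟨η₁, hη₁⟩ : B.Nonempty := by
      rw [← Finset.card_pos]
      rcases Nat.eq_zero_or_pos B.card with h | h
      · rw [h, zero_mul] at hcB; omega
      · exact h
    have hsgn : ∀ χ ∈ A, sgn p (dg χ) = δ χ ∧ (dg χ % p = 1 ∨ dg χ % p = p - 1) := fun χ hχ =>
      sgn_eq hp2 (hA χ hχ).1 (hA χ hχ).2.1
    have hf : ∀ η ∈ B, dg η = dg η₁ := fun η hη => by
      have := hBag η hη η₁ hη₁ 1 hreg1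
      rw [irr_degree, irr_degree] at this
      exact_mod_cast this
    obtain ⟨hsE, hmodf⟩ := sgE_eq hp2 (inIdx_pos P) hlt hσ (hB η₁ hη₁)
    have hδ1 : δ (triv G) = 1 := by
      rw [← (hsgn _ htA).1, dg_triv, sgn, if_pos (Nat.mod_eq_of_lt (by omega))]
    obtain ⟨x, hx, hx1⟩ := CfsgLib.SmallSylow.exists_mem_ne P hP
    refine ⟨{
      xs := (A.erase (triv G)).toList
      ys := B.toList
      f := dg η₁
      nodup := ?_
      len_xs := by
        rw [Finset.length_toList, Finset.card_erase_of_mem htA, hcA]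
        have := inIdx_pos P
        omega
      len_ys := by rw [Finset.length_toList, hcB]
      modX := fun χ hχ => (hsgn χ (Finset.mem_of_mem_erase (Finset.mem_toList.1 hχ))).2
      valX := fun χ hχ x' hx' hx1' y hy hy' => by
        have hm := Finset.mem_of_mem_erase (Finset.mem_toList.1 hχ)
        rw [(hsgn χ hm).1]
        exact (hA χ hm).2.2 x' hx' hx1' y hy hy'
      degY := fun η hη => hf η (Finset.mem_toList.1 hη)
      modf := hmodf
      sumY := fun x' hx' hx1' y hy hy' => by rw [Finset.sum_map_toList, hsE]; exact hBsum x' hx' hx1' y hy hy'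
      agree := fun η hη η' hη' => hBag η (Finset.mem_toList.1 hη) η' (Finset.mem_toList.1 hη')
      rel := fun η hη g hg => by
        have h := hBrel η (Finset.mem_toList.1 hη) g hg
        rw [← Finset.add_sum_erase A _ htA, hδ1, triv_apply, Int.cast_one, one_mul] at h
        rw [hsE, Finset.sum_map_toList, Finset.sum_congr rfl fun χ hχ => by
          rw [(hsgn χ (Finset.mem_of_mem_erase hχ)).1]]
        exact h
      dvdX := fun χ hχ => ?_
      dvdY := ?_
      closed := fun hC χ hχ => CfsgLib.SmallSylow.outside hM P hP hC fun hin => hχ ?_ }⟩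
    · rw [List.nodup_cons, List.nodup_append]
      refine ⟨?_, (Finset.nodup_toList _), (Finset.nodup_toList _), fun a ha b hb e => ?_⟩
      · simp only [List.mem_append, Finset.mem_toList, not_or]
        exact ⟨Finset.notMem_erase _ _, Finset.disjoint_left.1 hAB htA⟩
      · subst e
        exact Finset.disjoint_left.1 hAB (Finset.mem_of_mem_erase (Finset.mem_toList.1 ha))
          (Finset.mem_toList.1 hb)
    · obtain ⟨h1, h2, h3⟩ := hA χ (Finset.mem_of_mem_erase (Finset.mem_toList.1 hχ))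
      have hf0 : charDegree (χ : G → ℂ) ≠ 0 := (irr_charDegree_pos χ).ne'
      refine CfsgLib.SmallSylow.natDegree_dvd_of_isIntegral hf0 ?_
      have h7 := isIntegral_clv x χ
      have h8 := h3 x hx hx1 1 (Subgroup.one_mem _) hreg1
      rw [mul_one] at h8
      rw [clv, centralChar, CfsgLib.SmallSylow.index_centralizer P hP hx hx1, h8,
        ← irr_charDegree_cast] at h7
      rcases h1 with h | h
      · rw [h, Int.cast_one, mul_one] at h7; exact h7
      · rw [h, Int.cast_neg, Int.cast_one, mul_neg, mul_one, neg_div] at h7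
        simpa using h7.neg
    · have hf0 : charDegree (η₁ : G → ℂ) ≠ 0 := (irr_charDegree_pos η₁).ne'
      refine CfsgLib.SmallSylow.natDegree_dvd_of_isIntegral hf0 ?_
      have h7 : IsIntegral ℤ (∑ η ∈ B, clv x η) := IsIntegral.sum _ fun η _ => isIntegral_clv x η
      rw [Finset.sum_congr rfl (g := fun η : IrrCharacter G =>
          ((inIdx P * Nat.card (Sylow p G) : ℕ) : ℂ) / (charDegree (η₁ : G → ℂ) : ℂ) * (η : G → ℂ) x)
          (fun η hη => by
            rw [clv, centralChar, CfsgLib.SmallSylow.index_centralizer P hP hx hx1, irr_degree,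
              show charDegree (η : G → ℂ) = charDegree (η₁ : G → ℂ) from hf η hη]
            ring), ← Finset.mul_sum] at h7
      have h9 := hBsum x hx hx1 1 (Subgroup.one_mem _) hreg1
      simp only [mul_one] at h9
      rw [h9] at h7
      rcases hσ with h | h
      · rw [h, Int.cast_one, mul_one] at h7; exact h7
      · rw [h, Int.cast_neg, Int.cast_one, mul_neg, mul_one] at h7
        simpa using h7.neg
    · have := (hmem χ).2 hin
      by_cases e : χ = triv G
      · simp [e]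
      · simp only [List.mem_cons, List.mem_append, Finset.mem_toList, Finset.mem_erase]
        rcases Finset.mem_union.1 this with h | h
        · exact Or.inr (Or.inl ⟨e, h⟩)
        · exact Or.inr (Or.inr h)
  have hX' : ∀ χ ∈ X.toFinset, (εX χ = 1 ∨ εX χ = -1) ∧ (dg χ : ℤ) ≡ εX χ [ZMOD p] ∧
      ∀ x ∈ (P : Subgroup G), x ≠ 1 → ∀ y ∈ Subgroup.centralizer ((P : Subgroup G) : Set G),
        ¬ p ∣ orderOf y → (χ : G → ℂ) (x * y) = (εX χ : ℂ) := fun χ hχ => hX χ (Set.mem_toFinset.1 hχ)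
  have hrel' : ∀ η ∈ Y, ∀ g : G, ¬ p ∣ orderOf g →
      (ε : ℂ) * (η : G → ℂ) g = ∑ χ ∈ X.toFinset, (εX χ : ℂ) * (χ : G → ℂ) g := fun η hη g hg => by
    rw [hrel η hη g hg, finsum_mem_eq_toFinset_sum]
  have hmemXY : ∀ χ, χ ∈ X.toFinset ∪ Y.toFinset ↔ χ ∈ principalBlock M G := fun χ => by
    rw [hXY]; simp
  rcases (hXY ▸ oneIrr_mem hM : oneIrr G ∈ X ∪ Y) with ht | ht
  · exact ⟨X.toFinset, Y.toFinset, εX, -ε, Set.mem_toFinset.2 ht, hdisj', hmemXY, hcX', hcY', hX',
      by rcases hε with h | h <;> simp [h],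
      fun η hη => by rw [neg_neg]; exact hYdeg η (Set.mem_toFinset.1 hη),
      fun η hη η' hη' => hagree η (Set.mem_toFinset.1 hη) η' (Set.mem_toFinset.1 hη'), hsum,
      fun η hη g hg => by rw [← hrel' η (Set.mem_toFinset.1 hη) g hg]; push_cast; ring⟩
  · -- the inertial index is p - 1: exchange the trivial character with a rational one
    have h1 := hYdeg _ ht
    rw [show charDegree (oneIrr G : G → ℂ) = 1 from dg_triv, Nat.cast_one] at h1
    obtain ⟨hεm, hem⟩ : ε = -1 ∧ inIdx P = p - 1 := by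
      rw [Int.modEq_iff_dvd] at h1
      obtain ⟨k, hk⟩ := h1
      rcases hε with rfl | rfl
      · exfalso
        have hk' : (inIdx P : ℤ) = p * k + 1 := by linarith
        have ha : k = 0 := by nlinarith [Int.natCast_nonneg (inIdx P), (by exact_mod_cast hlt : (inIdx P : ℤ) < p)]
        rw [ha, mul_zero, zero_add] at hk'
        omega
      · refine ⟨rfl, ?_⟩
        have hk' : (inIdx P : ℤ) = -(p * k) - 1 := by linarith
        have ha : k = -1 := by nlinarith [Int.natCast_nonneg (inIdx P), (by exact_mod_cast hlt : (inIdx P : ℤ) < p)]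
        rw [ha] at hk'
        omega
    subst hεm
    have hY1 : Y.toFinset = {triv G} := by
      have hc : Y.toFinset.card = 1 := by
        rw [hem] at hcY'
        nlinarith
      obtain ⟨a, ha⟩ := Finset.card_eq_one.1 hc
      have : triv G ∈ ({a} : Finset _) := ha ▸ Set.mem_toFinset.2 ht
      rw [ha, Finset.mem_singleton.1 this]
    have htX : triv G ∉ X.toFinset := fun h =>
      Finset.disjoint_left.1 hdisj' h (by rw [hY1]; simp)
    obtain ⟨χ₀, hχ₀⟩ : X.toFinset.Nonempty := by rw [← Finset.card_pos, hcX']; exact inIdx_pos P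
    have hne : χ₀ ≠ triv G := fun e => htX (e ▸ hχ₀)
    obtain ⟨hs0, hd0, hv0⟩ := hX' χ₀ hχ₀
    refine ⟨insert (triv G) (X.toFinset.erase χ₀), {χ₀}, fun χ => if χ = triv G then 1 else εX χ, εX χ₀,
      Finset.mem_insert_self _ _, ?_, ?_, ?_, ?_, ?_, hs0, ?_, ?_, ?_, ?_⟩
    · simp [hne]
    · intro χ
      rw [← hmemXY, hY1]
      simp only [Finset.mem_union, Finset.mem_insert, Finset.mem_erase, Finset.mem_singleton]
      constructor
      · rintro ((h | h) | h)
        · exact Or.inr h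
        · exact Or.inl h.2
        · exact Or.inl (h ▸ hχ₀)
      · rintro (h | h)
        · by_cases e : χ = χ₀
          · exact Or.inr e
          · exact Or.inl (Or.inr ⟨e, h⟩)
        · exact Or.inl (Or.inl h)
    · rw [Finset.card_insert_of_notMem (fun h => htX (Finset.mem_of_mem_erase h)),
        Finset.card_erase_of_mem hχ₀, hcX']
      have := inIdx_pos P
      omega
    · rw [Finset.card_singleton, one_mul, hem]
    · intro χ hχ
      by_cases e : χ = triv G
      · subst e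
        refine ⟨Or.inl (if_pos rfl), by simp [dg_triv], fun x _ _ y _ _ => ?_⟩
        simp [triv_apply]
      · simp only [if_neg e]
        exact hX' χ (Finset.mem_of_mem_erase ((Finset.mem_insert.1 hχ).resolve_left e))
    · intro η hη
      rw [Finset.mem_singleton.1 hη, hem, Nat.cast_sub (by omega : 1 ≤ p)]
      refine hd0.trans ?_
      rw [Int.modEq_iff_dvd]
      exact ⟨-εX χ₀, by push_cast; ring⟩
    · intro η hη η' hη' g _
      rw [Finset.mem_singleton.1 hη, Finset.mem_singleton.1 hη']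
    · intro x hx hx1 y hy hyp
      rw [Finset.sum_singleton]
      exact hv0 x hx hx1 y hy hyp
    · intro η hη g hg
      rw [Finset.mem_singleton.1 hη, Finset.sum_insert (fun h => htX (Finset.mem_of_mem_erase h))]
      simp only []
      rw [if_pos trivial, triv_apply, Int.cast_one, one_mul,
        Finset.sum_congr rfl (g := fun χ => (εX χ : ℂ) * (χ : G → ℂ) g) (fun χ hχ => by
          rw [if_neg (fun e : χ = triv G => htX (e ▸ Finset.mem_of_mem_erase hχ))]),
        add_assoc, Finset.sum_erase_add _ _ hχ₀, ← hrel' _ ht g hg,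
        show ((oneIrr G : IrrCharacter G) : G → ℂ) g = 1 from rfl]
      push_cast
      ring

/-- The same block with the rational characters listed in another order. -/
def BL.permute {P : Sylow p G} (B : BL P) (l : List (IrrCharacter G)) (h : l.Perm B.xs) : BL P where
  xs := l
  ys := B.ys
  f := B.f
  nodup := (((h.append_right B.ys).cons (triv G)).nodup_iff).2 B.nodup
  len_xs := by rw [h.length_eq]; exact B.len_xs
  len_ys := B.len_ys
  modX χ hχ := B.modX χ (h.subset hχ)
  valX χ hχ := B.valX χ (h.subset hχ)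
  degY := B.degY
  modf := B.modf
  sumY := B.sumY
  agree := B.agree
  rel η hη g hg := by
    rw [(h.map fun χ : IrrCharacter G => (sgn p (dg χ) : ℂ) * (χ : G → ℂ) g).sum_eq]
    exact B.rel η hη g hg
  dvdX χ hχ := B.dvdX χ (h.subset hχ)
  dvdY := B.dvdY
  closed hC χ hχ := B.closed hC χ fun hm => hχ ((((h.append_right B.ys).cons (triv G)).mem_iff).2 hm)

end CfsgSimpleM22
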