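/-
Elementary searches over lists of degrees and of integral values.
-/
import Mathlib.Data.List.Perm.Basic
import Mathlib.Data.List.Forall2
import Mathlib.Tactic

set_option autoImplicit false

namespace CfsgSimpleM22

/-- The multisets of size `k` over a list, as lists. -/
def multis {α : Type*} : List α → ℕ → List (List α)
  | [], 0 => [[]]
  | [], _ + 1 => []
  | c :: cs, k => (List.range (k + 1)).flatMap fun j =>
      (multis cs (k - j)).map fun r => List.replicate j c ++ r

theorem exists_mem_multis {α : Type*} [DecidableEq α] : ∀ {cs l : List α}, (∀ a ∈ l, a ∈ cs) →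
    ∃ l' ∈ multis cs l.length, l'.Perm l
  | [], [], _ => ⟨[], by simp [multis], List.Perm.refl _⟩
  | [], a :: l, h => absurd (h a (by simp)) (by simp)
  | c :: cs, l, h => by
    set r := l.filter fun a => decide (a ≠ c) with hr
    obtain ⟨r', hr', hp⟩ := exists_mem_multis (cs := cs) (l := r) fun a ha => by
      obtain ⟨h1, h2⟩ := List.mem_filter.1 ha
      exact ((List.mem_cons.1 (h a h1)).resolve_left (by simpa using h2))
    have hl : (List.replicate (l.count c) c ++ r).Perm l := by
      rw [← List.filter_eq c, hr]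
      have := List.filter_append_perm (fun a => decide (a = c)) l
      convert this using 3 <;> simp
    refine ⟨List.replicate (l.count c) c ++ r', ?_, (hp.append_left _).trans hl⟩
    rw [multis, List.mem_flatMap]
    refine ⟨l.count c, List.mem_range.2 (Nat.lt_succ_of_le List.count_le_length), List.mem_map.2 ⟨r', ?_, rfl⟩⟩
    have hlen := hl.length_eq
    rw [List.length_append, List.length_replicate] at hlen
    rwa [show l.length - l.count c = r.length by omega]

/-- A list can be reordered to match a reordering of its image. -/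
theorem exists_map_perm {α β : Type*} {f : α → β} {m : List β} {l : List α} (h : m.Perm (l.map f)) :
    ∃ l' : List α, l'.Perm l ∧ l'.map f = m := by
  generalize hn : l.map f = n at h
  induction h generalizing l with
  | nil => exact ⟨l, List.Perm.refl _, hn⟩
  | cons x h ih =>
    cases l with
    | nil => simp at hn
    | cons a t =>
      simp only [List.map_cons, List.cons.injEq] at hn
      obtain ⟨l', hl', hm⟩ := ih hn.2
      exact ⟨a :: l', hl'.cons a, by simp [hn.1, hm]⟩
  | swap x y t =>
    match l, hn with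
    | a :: b :: r, hn =>
      simp only [List.map_cons, List.cons.injEq] at hn
      exact ⟨b :: a :: r, List.Perm.swap a b r, by simp [hn.1, hn.2.1, hn.2.2]⟩
  | trans h1 h2 ih1 ih2 =>
    obtain ⟨l', hl', hm⟩ := ih2 hn
    obtain ⟨l'', hl'', hm'⟩ := ih1 hm
    exact ⟨l'', hl''.trans hl', hm'⟩

/-- A place in a search: the linear weight, the quadratic weight, the weight of the norm and the values. -/
structure Slot where
  s : ℤ
  w : ℤ
  m : ℕ
  dom : List ℤ

/-- The linear form. -/
def linSum : List Slot → List ℤ → ℤ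
  | σ :: r, v :: vs => σ.s * v + linSum r vs
  | _, _ => 0

/-- The quadratic form. -/
def quadSum : List Slot → List ℤ → ℤ
  | σ :: r, v :: vs => σ.w * (v * v) + quadSum r vs
  | _, _ => 0

/-- The norm. -/
def normSum : List Slot → List ℤ → ℤ
  | σ :: r, v :: vs => (σ.m : ℤ) * (v * v) + normSum r vs
  | _, _ => 0

/-- All tuples with prescribed linear and quadratic form and bounded norm. -/
def sols : List Slot → ℤ → ℤ → ℤ → List (List ℤ)
  | [], lin, q, _ => if lin == 0 && q == 0 then [[]] else []
  | [σ], lin, q, b =>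
      if σ.s == 1 || σ.s == -1 then
        let v := -(σ.s * lin)
        if decide ((σ.m : ℤ) * (v * v) ≤ b) && (q + σ.w * (v * v) == 0) && σ.dom.contains v then [[v]] else []
      else
        (σ.dom.filter fun v =>
          decide ((σ.m : ℤ) * (v * v) ≤ b) && (lin + σ.s * v == 0) && (q + σ.w * (v * v) == 0)).map fun v => [v]
  | σ :: r, lin, q, b => σ.dom.flatMap fun v =>
      if (σ.m : ℤ) * (v * v) ≤ b then
        (sols r (lin + σ.s * v) (q + σ.w * (v * v)) (b - (σ.m : ℤ) * (v * v))).map fun t => v :: t
      else []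

theorem normSum_nonneg : ∀ (r : List Slot) (vs : List ℤ), 0 ≤ normSum r vs
  | [], _ => by simp [normSum]
  | _ :: _, [] => by simp [normSum]
  | σ :: r, v :: vs => by
    have := normSum_nonneg r vs
    have := mul_nonneg (Int.natCast_nonneg σ.m) (mul_self_nonneg v)
    simp only [normSum]
    omega

theorem mem_sols : ∀ {r : List Slot} {vs : List ℤ} {lin q b : ℤ},
    List.Forall₂ (fun σ v => v ∈ σ.dom) r vs → lin + linSum r vs = 0 → q + quadSum r vs = 0 →
    normSum r vs ≤ b → vs ∈ sols r lin q b := by
  intro r vs lin q b h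
  induction h generalizing lin q b with
  | nil => intro h1 h2 _; simp [linSum, quadSum] at h1 h2; simp [sols, h1, h2]
  | @cons σ v r vs hv hrest ih =>
    intro h1 h2 h3
    simp only [linSum, quadSum, normSum] at h1 h2 h3
    have := normSum_nonneg r vs
    cases hrest with
    | nil =>
      simp only [linSum, quadSum, normSum, add_zero] at h1 h2 h3
      simp only [sols]
      split_ifs with hs hc
      · have hv' : v = -(σ.s * lin) := by
          simp only [Bool.or_eq_true, beq_iff_eq] at hs
          rcases hs with e | e <;> rw [e] at h1 ⊢ <;> linarith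
        rw [← hv']
        exact List.mem_singleton_self _
      · exfalso
        apply hc
        have hv' : v = -(σ.s * lin) := by
          simp only [Bool.or_eq_true, beq_iff_eq] at hs
          rcases hs with e | e <;> rw [e] at h1 ⊢ <;> linarith
        simp only [← hv', Bool.and_eq_true, decide_eq_true_eq, beq_iff_eq, List.contains_iff_mem]
        exact ⟨⟨h3, h2⟩, hv⟩
      · simp only [List.mem_map, List.mem_filter, Bool.and_eq_true, decide_eq_true_eq, beq_iff_eq]
        exact ⟨v, ⟨hv, ⟨h3, h1⟩, h2⟩, rfl⟩
    | @cons a b l₁ l₂ h h' =>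
      rw [sols, List.mem_flatMap]
      · refine ⟨v, hv, ?_⟩
        rw [if_pos (by omega)]
        exact List.mem_map.2 ⟨b :: l₂, ih (by linarith) (by linarith) (by linarith), rfl⟩
      · simp

/-- A bound for the square root. -/
def bnd (C : ℕ) : ℕ :=
  if C ≤ 100 then 10 else if C ≤ 625 then 25 else if C ≤ 2025 then 45
  else if C ≤ 10000 then 100 else 201

/-- The possible values congruent to `d` modulo `q` of a character of degree `d` at an element whose
centraliser has order `C`. -/
def dom (q C d : ℕ) : List ℤ :=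
  ((List.range (2 * bnd C / q + 1)).map fun i : ℕ =>
      -(bnd C : ℤ) + (((d + bnd C) % q + q * i : ℕ) : ℤ)).filter
    fun v => decide (v.natAbs * v.natAbs ≤ C) && decide (v.natAbs < d) &&
      ((443520 / C) * v.natAbs % d == 0)

theorem le_bnd {C a : ℕ} (hC : C ≤ 40320) (h : a * a ≤ C) : a ≤ bnd C := by
  unfold bnd
  split_ifs with h1 h2 h3 h4 <;> nlinarith

theorem mem_dom {q C d : ℕ} {v : ℤ} (hq : 0 < q) (hC : C ≤ 40320) (hmod : (q : ℤ) ∣ v - d)
    (hsq : v * v ≤ (C : ℤ)) (hlt : v.natAbs < d) (hdvd : (d : ℤ) ∣ ((443520 / C : ℕ) : ℤ) * v) :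
    v ∈ dom q C d := by
  have hsq' : v.natAbs * v.natAbs ≤ C := by
    have : ((v.natAbs * v.natAbs : ℕ) : ℤ) ≤ (C : ℤ) := by rw [Int.natAbs_mul_self]; exact hsq
    exact_mod_cast this
  have hb := le_bnd hC hsq'
  rw [dom, List.mem_filter]
  refine ⟨List.mem_map.2 ?_, ?_⟩
  · set K := (v + bnd C).toNat with hK
    have hK' : (K : ℤ) = v + bnd C := Int.toNat_of_nonneg (by omega)
    have hKle : K ≤ 2 * bnd C := by omega
    have hKmod : K % q = (d + bnd C) % q := by
      refine (Nat.modEq_iff_dvd.2 ?_ : K ≡ d + bnd C [MOD q])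
      push_cast
      rw [hK']
      exact dvd_sub_comm.1 (by rwa [show v + (bnd C : ℤ) - ((d : ℤ) + bnd C) = v - d by ring])
    refine ⟨K / q, List.mem_range.2 (Nat.lt_succ_of_le (Nat.div_le_div_right hKle)), ?_⟩
    rw [← hKmod, Nat.mod_add_div]
    omega
  · simp only [Bool.and_eq_true, decide_eq_true_eq, beq_iff_eq]
    refine ⟨⟨hsq', hlt⟩, Nat.mod_eq_zero_of_dvd ?_⟩
    have h := Int.natAbs_dvd_natAbs.2 hdvd
    rwa [Int.natAbs_natCast, Int.natAbs_mul, Int.natAbs_natCast] at h

end CfsgSimpleM22
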