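/-
Sylow subgroups of order five, seven and eleven in a simple group of order 443520.
-/
import Cfsg.Agent.Lib.SimpleM22.BlockList
import Cfsg.Agent.Lib.SimpleM22.Search
import Cfsg.Agent.Lib.SmallSylow.Degrees

set_option autoImplicit false
set_option linter.style.haveILetI false
set_option linter.unusedSectionVars false

namespace CfsgSimpleM22

open Cfsg CfsgLib.CharTheory CfsgSimpleM11
open scoped commutatorElement
open CfsgLib.SmallSylow (inIdx)

universe u
variable {G : Type u} [Group G] [Fintype G]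

/-- The degrees of the nontrivial characters. -/
abbrev degs : List ℕ := [2, 3, 4, 5, 6, 7, 8, 9, 10, 11, 12, 14, 15, 16, 18, 20, 21, 22, 24, 28, 30, 32, 33, 35,
  36, 40, 42, 44, 45, 48, 55, 56, 60, 63, 64, 66, 70, 72, 77, 80, 84, 88, 90, 96, 99, 105, 110, 112, 120, 126, 128,
  132, 140, 144, 154, 160, 165, 168, 176, 180, 192, 198, 210, 220, 224, 231, 240, 252, 264, 280, 288, 308, 315, 320,
  330, 336, 352, 360, 384, 385, 396, 420, 440, 448, 462, 480, 495, 504, 528, 560, 576, 616, 630, 640, 660]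

theorem degs_aux : ((List.range 666).all fun d =>
    decide (d < 2) || (443520 % d != 0 || degs.contains d)) = true := by decide +kernel

theorem two_le_dg (hG : IsM22 G) {χ : IrrCharacter G} (h : χ ≠ triv G) : 2 ≤ dg χ := by
  have := CfsgLib.Blocks.irr_charDegree_pos χ
  by_contra h'
  exact h (eq_triv_of_dg_one hG (by simp only [dg] at *; omega))

theorem dg_mem (hG : IsM22 G) {χ : IrrCharacter G} (h : χ ≠ triv G) : dg χ ∈ degs := by
  have h1 := List.all_eq_true.1 degs_aux (dg χ) (List.mem_range.2 (Nat.lt_succ_of_le (dg_le hG χ)))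
  simp only [Bool.or_eq_true, bne_iff_ne, ne_eq, decide_eq_true_eq, List.contains_iff_mem] at h1
  rcases h1 with h2 | h2 | h2
  · have := two_le_dg hG h
    omega
  · exact absurd (Nat.mod_eq_zero_of_dvd (dg_dvd' hG χ)) h2
  · exact h2

theorem commutator_top (hG : IsM22 G) : commutator G = ⊤ := by
  rcases normal_cases hG (inferInstance : (commutator G).Normal) with h | h
  · exfalso
    obtain ⟨a, b, hab⟩ := exists_noncomm hG
    have hm : ⁅a, b⁆ ∈ commutator G :=
      Subgroup.commutator_mem_commutator (Subgroup.mem_top a) (Subgroup.mem_top b)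
    rw [h, Subgroup.mem_bot, commutatorElement_eq_one_iff_mul_comm] at hm
    exact hab hm
  · exact h

section
variable {p : ℕ} [Fact p.Prime]

theorem two_le_e (hG : IsM22 G) (P : Sylow p G) (hP : Nat.card P = p) : 2 ≤ inIdx P :=
  CfsgLib.SmallSylow.two_le_inIdx (commutator_top hG) P hP

theorem e_dvd (hG : IsM22 G) (hodd : p ≠ 2) (P : Sylow p G) (hP : Nat.card P = p) : inIdx P ∣ p - 1 := by
  obtain ⟨M, hM⟩ := CfsgLib.Blocks.exists_pModular (Fact.out : p.Prime)
  obtain ⟨X, Y, δ, σ, D⟩ := CfsgLib.SmallSylow.exists_data hM hodd P hP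
  exact D.inIdx_dvd

/-- The arithmetic of a Sylow subgroup of prime order. -/
theorem setting (hG : IsM22 G) (hodd : p ≠ 2) (P : Sylow p G) (hP : Nat.card P = p) :
    443520 = Nat.card (Subgroup.centralizer ((P : Subgroup G) : Set G)) * inIdx P * Nat.card (Sylow p G) ∧
      p ∣ Nat.card (Subgroup.centralizer ((P : Subgroup G) : Set G)) ∧
      2 ≤ inIdx P ∧ inIdx P ∣ p - 1 ∧ Nat.card (Sylow p G) % p = 1 ∧ 1 < Nat.card (Sylow p G) := by
  have hp := (Fact.out : p.Prime)
  refine ⟨(card_eq hG).symm.trans (CfsgLib.SmallSylow.card_eq_mul P), ?_, two_le_e hG P hP, e_dvd hG hodd P hP,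
    ?_, ?_⟩
  · haveI : IsCyclic (P : Subgroup G) := isCyclic_of_prime_card (show Nat.card (P : Subgroup G) = p from hP)
    have hle : (P : Subgroup G) ≤ Subgroup.centralizer ((P : Subgroup G) : Set G) :=
      Subgroup.le_centralizer (P : Subgroup G)
    have := Subgroup.card_dvd_of_le hle
    rwa [show Nat.card (P : Subgroup G) = p from hP] at this
  · have h1 : Nat.card (Sylow p G) % p = 1 % p := card_sylow_modEq_one p G
    rwa [Nat.mod_eq_of_lt hp.one_lt] at h1
  · refine Nat.lt_of_le_of_ne Nat.card_pos (Ne.symm (sylow_ne_one hG P ?_ ?_))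
    · rw [show Nat.card (P : Subgroup G) = p from hP]; exact hp.one_lt
    · rw [show Nat.card (P : Subgroup G) = p from hP]
      have : p ∣ 443520 := by
        rw [← card_eq hG, ← hP]; exact Subgroup.card_subgroup_dvd_card _
      rcases (Nat.le_of_dvd (by norm_num) this).lt_or_eq with h | h
      · exact h
      · exfalso; rw [h] at hp; norm_num at hp

/-- A value at an involution from the value at its product with a generator. -/
theorem value_mod_of (hG : IsM22 G) (hodd : p ≠ 2) {P : Sylow p G} (hP : Nat.card P = p) {x : G}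
    (hx : x ∈ (P : Subgroup G)) (hx1 : x ≠ 1)
    {t : G} (ht : orderOf t = 2) (htC : t ∈ Subgroup.centralizer ((P : Subgroup G) : Set G))
    (χ : IrrCharacter G) {s : ℤ} (hxt : (χ : G → ℂ) (x * t) = (s : ℂ)) (hs : (dg χ : ℤ) ≡ s [ZMOD p])
    {v : ℤ} (hv : (χ : G → ℂ) t = v) : ((4 * p : ℕ) : ℤ) ∣ v - dg χ := by
  have hp := (Fact.out : p.Prime)
  have hxo := CfsgLib.SmallSylow.orderOf_mem P hP hx hx1
  have hcomm : Commute x t := Subgroup.mem_centralizer_iff.mp htC x hx
  have hz : ∃ c : ℤ, (χ : G → ℂ) (t ^ p) = c := by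
    obtain ⟨k, -, hk, -⟩ := two_mults χ (t := t ^ p) (by
      rw [← pow_add, ← two_mul, pow_mul, ← ht, pow_orderOf_eq_one, one_pow])
    exact ⟨_, hk⟩
  have h1 := modEq_mul χ (by rw [← hxo, pow_orderOf_eq_one]) hcomm hz hxt hv
  obtain ⟨w, hw, h4, -⟩ := involution_int hG χ ht
  have hwv : w = v := by exact_mod_cast hw.symm.trans hv
  subst hwv
  have hdp : (p : ℤ) ∣ w - dg χ := Int.modEq_iff_dvd.mp (hs.trans h1)
  have hd4 : (4 : ℤ) ∣ w - dg χ := by omega
  push_cast
  refine IsCoprime.mul_dvd ?_ hd4 hdp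
  rw [Int.isCoprime_iff_nat_coprime]
  exact (Nat.Prime.coprime_iff_not_dvd hp).mpr (fun h => by
    rcases (Nat.dvd_prime_pow Nat.prime_two).mp (show p ∣ 2 ^ 2 from h) with ⟨i, hi, e⟩
    interval_cases i
    · exact hp.ne_one (by simpa using e)
    · exact hodd (by simpa using e)
    · rw [e] at hp; norm_num at hp) |>.symm

/-- The degree is congruent to the sign. -/
theorem modEq_sgn {d : ℕ} (h : d % p = 1 ∨ d % p = p - 1) : (d : ℤ) ≡ sgn p d [ZMOD p] := by
  have h2 := (Fact.out : p.Prime).two_le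
  have := Nat.mod_add_div d p
  have hc : ((d % p : ℕ) : ℤ) + (p : ℤ) * ((d / p : ℕ) : ℤ) = (d : ℤ) := by exact_mod_cast this
  by_cases e : d % p = 1
  · rw [sgn, if_pos e]
    refine Int.modEq_iff_dvd.2 ⟨-((d / p : ℕ) : ℤ), ?_⟩
    rw [e] at hc
    push_cast at hc ⊢
    linear_combination hc
  · have e' := h.resolve_left e
    rw [sgn, if_neg e]
    refine Int.modEq_iff_dvd.2 ⟨-((d / p : ℕ) : ℤ) - 1, ?_⟩
    rw [e', Nat.cast_sub (by omega : 1 ≤ p)] at hc
    push_cast at hc ⊢
    linear_combination hc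

/-- A value at an involution centralising the Sylow subgroup. -/
theorem BL.value_mod (hG : IsM22 G) (hodd : p ≠ 2) {P : Sylow p G} (hP : Nat.card P = p) (B : BL P)
    {t : G} (ht : orderOf t = 2) (htC : t ∈ Subgroup.centralizer ((P : Subgroup G) : Set G))
    {χ : IrrCharacter G} (hχ : χ ∈ B.xs) {v : ℤ} (hv : (χ : G → ℂ) t = v) :
    ((4 * p : ℕ) : ℤ) ∣ v - dg χ := by
  obtain ⟨x, hx, hx1⟩ := CfsgLib.SmallSylow.exists_mem_ne P hP
  have hno : ¬ p ∣ orderOf t := by
    rw [ht]
    intro h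
    rcases (Nat.dvd_prime Nat.prime_two).mp h with e | e
    · exact (Fact.out : p.Prime).ne_one e
    · exact hodd e
  exact value_mod_of hG hodd hP hx hx1 ht htC χ (B.valX χ hχ x hx hx1 t htC hno) (modEq_sgn (B.modX χ hχ)) hv

theorem exists_involution {H : Subgroup G} (h : 2 ∣ Nat.card H) : ∃ t ∈ H, orderOf t = 2 :=
  exists_order Nat.prime_two h

/-- The values at an involution centralising the Sylow subgroup lie in the domains. -/
theorem mem_dom_involution (hG : IsM22 G) {χ : IrrCharacter G} (hne : χ ≠ triv G) {t : G} (ht : orderOf t = 2)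
    {q : ℕ} (hq : 0 < q) {v : ℤ} (hv : (χ : G → ℂ) t = v) (hmod : (q : ℤ) ∣ v - dg χ) :
    v ∈ dom q (cc t) (dg χ) := by
  obtain ⟨w, hw, -, hlo, -, hlt⟩ := involution_int hG χ ht
  have : w = v := by exact_mod_cast hw.symm.trans hv
  subst this
  have ht1 : t ≠ 1 := fun e => by rw [e, orderOf_one] at ht; norm_num at ht
  refine mem_dom hq (cent_le hG ht1) hmod ?_ ?_ (dg_dvd_index_mul hG χ hv)
  · have := norm_le (s := {χ}) (g := t) (fun _ => w) (by simp [hv])
    simpa [pow_two] using this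
  · have h1 := hlt hne
    have h2 : w ≠ -(dg χ : ℤ) := fun e => neg_degree_ne hG hne ht1 (by rw [hv, e]; push_cast; ring)
    omega

end

end CfsgSimpleM22
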