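/-
An involution centralising a Sylow subgroup of prime order: exclusion by the degrees.
-/
import Cfsg.Agent.Lib.SimpleM22.Setting

set_option autoImplicit false
set_option linter.style.haveILetI false
set_option linter.unusedSectionVars false

namespace CfsgSimpleM22

open Cfsg CfsgLib.CharTheory CfsgSimpleM11
open CfsgLib.SmallSylow (inIdx)

universe u
variable {G : Type u} [Group G] [Fintype G] {p : ℕ} [Fact p.Prime]

/-- The candidates for the degrees of the rational characters of the block. -/
def candX (p e n lo : ℕ) : List ℕ :=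
  degs.filter fun d => (e * n % d == 0) && decide (lo ≤ d) && ((d % p == 1) || (d % p == p - 1))

/-- The signed sum of the degrees of the rational characters. -/
def sumX (p : ℕ) : List ℕ → ℤ
  | [] => 1
  | d :: l => sgn p d * (d : ℤ) + sumX p l

/-- The degree of the exceptional characters fits. -/
def okEta (p e n : ℕ) (S : ℤ) : Bool :=
  degs.contains S.natAbs && (e * n % S.natAbs == 0) &&
    ((S.natAbs % p == e) || (S.natAbs % p == p - e)) && (sgE p e S.natAbs * (S.natAbs : ℤ) == -S)

/-- The slots of a column at an involution centralising the Sylow subgroup. -/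
def invSlots (p e C : ℕ) (l : List ℕ) (f : ℕ) : List Slot :=
  (l.map fun d => ⟨sgn p d, 0, 1, dom (4 * p) C d⟩) ++ [⟨sgE p e f, 0, 1, dom 4 C f⟩]

/-- No degrees and values at an involution. -/
def noColumn (p e n : ℕ) (Cs : List ℕ) : Bool :=
  (multis (candX p e n (2 * p)) (e - 1)).all fun l =>
    !(okEta p e n (sumX p l)) ||
      Cs.all fun C => (sols (invSlots p e C l (sumX p l).natAbs) 1 0 ((C : ℤ) - 1)).isEmpty

theorem sumX_eq (p : ℕ) : ∀ l : List (IrrCharacter G),
    ((sumX p (l.map fun χ : IrrCharacter G => dg χ) : ℤ) : ℂ) =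
      1 + (l.map fun χ : IrrCharacter G => (sgn p (dg χ) : ℂ) * (χ : G → ℂ) 1).sum
  | [] => by simp [sumX]
  | χ :: l => by
    simp only [List.map_cons, sumX, List.sum_cons, irr_degree]
    push_cast
    rw [sumX_eq p l]
    simp only [irr_degree]
    ring

theorem sgE_sign (p e f : ℕ) : sgE p e f = 1 ∨ sgE p e f = -1 := by unfold sgE; split_ifs <;> simp

theorem sgn_sign (p d : ℕ) : sgn p d = 1 ∨ sgn p d = -1 := by unfold sgn; split_ifs <;> simp

/-- The degrees of the exceptional characters are determined by the others. -/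
theorem BL.degree (hG : IsM22 G) {P : Sylow p G} (B : BL P) :
    okEta p (inIdx P) (Nat.card (Sylow p G)) (sumX p (B.xs.map fun χ : IrrCharacter G => dg χ)) = true ∧
      (sumX p (B.xs.map fun χ : IrrCharacter G => dg χ)).natAbs = B.f := by
  obtain ⟨η, hη⟩ := B.exists_eta
  have hp := (Fact.out : p.Prime)
  have h := B.rel η hη 1 (by rw [orderOf_one]; exact hp.not_dvd_one)
  rw [← sumX_eq p B.xs, irr_degree, show charDegree (η : G → ℂ) = B.f from B.degY η hη] at h
  have h' : sumX p (B.xs.map fun χ : IrrCharacter G => dg χ) + sgE p (inIdx P) B.f * (B.f : ℤ) = 0 := by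
    exact_mod_cast h
  have habs : (sumX p (B.xs.map fun χ : IrrCharacter G => dg χ)).natAbs = B.f := by
    rcases sgE_sign p (inIdx P) B.f with e | e <;> rw [e] at h' <;> omega
  refine ⟨?_, habs⟩
  have hne : η ≠ triv G := fun e => by
    have := (List.nodup_cons.1 B.nodup).1
    exact this (List.mem_append_right _ (e ▸ hη))
  simp only [okEta, habs, Bool.and_eq_true, Bool.or_eq_true, beq_iff_eq, List.contains_iff_mem]
  exact ⟨⟨⟨B.degY η hη ▸ dg_mem hG hne, Nat.mod_eq_zero_of_dvd B.dvdY⟩, B.modf⟩, by linarith⟩

theorem BL.xs_ne_triv {P : Sylow p G} (B : BL P) {χ : IrrCharacter G} (h : χ ∈ B.xs) : χ ≠ triv G := fun e =>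
  (List.nodup_cons.1 B.nodup).1 (List.mem_append_left _ (e ▸ h))

theorem BL.ys_ne_triv {P : Sylow p G} (B : BL P) {χ : IrrCharacter G} (h : χ ∈ B.ys) : χ ≠ triv G := fun e =>
  (List.nodup_cons.1 B.nodup).1 (List.mem_append_right _ (e ▸ h))

theorem sumX_perm (p : ℕ) {l m : List ℕ} (h : l.Perm m) : sumX p l = sumX p m := by
  induction h with
  | nil => rfl
  | cons x _ ih => simp [sumX, ih]
  | swap x y t => simp only [sumX]; ring
  | trans _ _ h1 h2 => exact h1.trans h2

/-- A column at an involution centralising the Sylow subgroup. -/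
theorem false_of_noColumn (hG : IsM22 G) (hodd : p ≠ 2) (P : Sylow p G) (hP : Nat.card P = p)
    {e n : ℕ} (he : inIdx P = e) (hn : Nat.card (Sylow p G) = n) {Cs : List ℕ}
    {t : G} (ht : orderOf t = 2) (htC : t ∈ Subgroup.centralizer ((P : Subgroup G) : Set G))
    (hCs : cc t ∈ Cs) (hcheck : noColumn p e n Cs = true) : False := by
  classical
  subst he hn
  have hp := (Fact.out : p.Prime)
  obtain ⟨B⟩ := exists_BL hodd P hP (two_le_e hG P hP)
  obtain ⟨hok, habs⟩ := B.degree hG
  obtain ⟨η, hη⟩ := B.exists_eta
  set D := B.xs.map fun χ : IrrCharacter G => dg χ with hD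
  have hval : ∀ χ : IrrCharacter G, ∃ v : ℤ, (χ : G → ℂ) t = v := fun χ => by
    obtain ⟨v, hv, -⟩ := involution_int hG χ ht; exact ⟨v, hv⟩
  choose v hv using hval
  have hmem : ∀ d ∈ D, d ∈ candX p (inIdx P) (Nat.card (Sylow p G)) (2 * p) := by
    intro d hd
    obtain ⟨χ, hχ, rfl⟩ := List.mem_map.1 hd
    have hdiv := B.value_mod hG hodd hP ht htC hχ (hv χ)
    obtain ⟨w, hw, -, -, -, hlt⟩ := involution_int hG χ ht
    have hwv : w = v χ := by exact_mod_cast hw.symm.trans (hv χ)
    subst hwv
    have hne := B.xs_ne_triv hχ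
    have h1 := hlt hne
    have ht1 : t ≠ 1 := fun e => by rw [e, orderOf_one] at ht; norm_num at ht
    have h2 : v χ ≠ -(dg χ : ℤ) := fun e => neg_degree_ne hG hne ht1 (by rw [hv, e]; push_cast; ring)
    obtain ⟨k, hk⟩ := hdiv
    have hlo : 2 * p ≤ dg χ := by
      obtain ⟨-, -, -, hlo, -⟩ := involution_int hG χ ht
      push_cast at hk
      by_contra hcon
      have : (v χ : ℤ) - dg χ < 0 := by linarith
      have hk0 : k ≤ -1 := by nlinarith
      obtain ⟨w', hw', -, hlo', -⟩ := involution_int hG χ ht
      have : w' = v χ := by exact_mod_cast hw'.symm.trans (hv χ)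
      subst this
      nlinarith
    simp only [candX, List.mem_filter, Bool.and_eq_true, Bool.or_eq_true, beq_iff_eq, decide_eq_true_eq]
    exact ⟨dg_mem hG hne, ⟨Nat.mod_eq_zero_of_dvd (B.dvdX χ hχ), hlo⟩, B.modX χ hχ⟩
  obtain ⟨D', hD', hperm⟩ := exists_mem_multis hmem
  have hlen : D.length = inIdx P - 1 := by
    rw [hD, List.length_map]; have := B.len_xs; omega
  rw [hlen] at hD'
  obtain ⟨xs', hxs', hmap⟩ := exists_map_perm (f := fun χ : IrrCharacter G => dg χ) hperm
  have hS : sumX p D' = sumX p D := sumX_perm p hperm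
  have h1 := List.all_eq_true.1 hcheck D' hD'
  rw [hS, hok, Bool.not_true, Bool.false_or] at h1
  have h2 := List.all_eq_true.1 h1 _ hCs
  rw [List.isEmpty_iff, habs] at h2
  have hmem2 : (xs'.map v) ++ [v η] ∈ sols (invSlots p (inIdx P) (cc t) D' B.f) 1 0 ((cc t : ℤ) - 1) := by
    apply mem_sols
    · rw [invSlots, ← hmap, List.map_map]
      refine List.rel_append ?_ (List.Forall₂.cons ?_ List.Forall₂.nil)
      · rw [List.forall₂_map_left_iff, List.forall₂_map_right_iff, List.forall₂_same]
        intro χ hχ
        have hχ' := hxs'.subset hχ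
        exact mem_dom_involution hG (B.xs_ne_triv hχ') ht (by have := hp.pos; omega) (hv χ)
          (B.value_mod hG hodd hP ht htC hχ' (hv χ))
      · obtain ⟨w, hw, h4, -⟩ := involution_int hG η ht
        have : w = v η := by exact_mod_cast hw.symm.trans (hv η)
        subst this
        have := mem_dom_involution hG (B.ys_ne_triv hη) ht (q := 4) (by norm_num) (hv η) (by push_cast; omega)
        rwa [B.degY η hη] at this
    · have hno : ¬ p ∣ orderOf t := by
        rw [ht]
        intro h
        rcases (Nat.dvd_prime Nat.prime_two).mp h with e | e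
        · exact hp.ne_one e
        · exact hodd e
      have h := B.rel η hη t hno
      rw [hv, ← ((hxs'.map fun χ : IrrCharacter G => (sgn p (dg χ) : ℂ) * (χ : G → ℂ) t)).sum_eq] at h
      have key : ∀ l : List (IrrCharacter G),
          ((linSum (invSlots p (inIdx P) (cc t) (l.map fun χ : IrrCharacter G => dg χ) B.f) (l.map v ++ [v η]) : ℤ) : ℂ) =
            (l.map fun χ : IrrCharacter G => (sgn p (dg χ) : ℂ) * (χ : G → ℂ) t).sum +
              (sgE p (inIdx P) B.f : ℂ) * (v η : ℂ) := by
        intro l
        induction l with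
        | nil => simp [invSlots, linSum]
        | cons χ r ih =>
          simp only [invSlots, List.map_cons, List.cons_append, linSum, List.sum_cons, Int.cast_add, Int.cast_mul] at ih ⊢
          rw [ih, hv]
          ring
      have key' := key xs'
      rw [hmap] at key'
      have : ((1 + linSum (invSlots p (inIdx P) (cc t) D' B.f) (xs'.map v ++ [v η]) : ℤ) : ℂ) = ((0 : ℤ) : ℂ) := by
        push_cast
        rw [key', ← h]
        ring
      exact_mod_cast this
    · have key : ∀ (a : List ℕ) (b : List ℤ), quadSum (invSlots p (inIdx P) (cc t) a B.f) b = 0 := by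
        intro a
        induction a with
        | nil => intro b; rcases b with _ | ⟨x, _ | ⟨y, r⟩⟩ <;> simp [invSlots, quadSum]
        | cons d r ih =>
          intro b
          rcases b with _ | ⟨x, b⟩
          · simp [quadSum]
          · simp only [invSlots, List.map_cons, List.cons_append, quadSum, zero_mul, zero_add] at ih ⊢
            exact ih b
      rw [key]
      norm_num
    · have key : ∀ l : List (IrrCharacter G),
          normSum (invSlots p (inIdx P) (cc t) (l.map fun χ : IrrCharacter G => dg χ) B.f) (l.map v ++ [v η]) =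
            ((l ++ [η]).map fun χ => v χ ^ 2).sum := by
        intro l
        induction l with
        | nil => simp [invSlots, normSum, pow_two]
        | cons χ r ih =>
          simp only [invSlots, List.map_cons, List.cons_append, normSum, List.sum_cons] at ih ⊢
          rw [ih]
          push_cast
          ring
      have key' := key xs'
      rw [hmap] at key'
      rw [key']
      have hnd : (triv G :: (xs' ++ [η])).Nodup := by
        have hs : List.Sublist (triv G :: (B.xs ++ [η])) (triv G :: (B.xs ++ B.ys)) :=
          (List.Sublist.append_left (List.singleton_sublist.2 hη) _).cons₂ _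
        exact (((hxs'.append_right [η]).cons (triv G)).nodup_iff).2 (hs.nodup B.nodup)
      have hb := norm_le (s := (triv G :: (xs' ++ [η])).toFinset) (g := t) v (fun χ _ => hv χ)
      rw [List.sum_toFinset _ hnd, List.map_cons, List.sum_cons] at hb
      have hvt : v (triv G) = 1 := by
        have := hv (triv G)
        rw [triv_apply] at this
        exact_mod_cast this.symm
      rw [hvt] at hb
      linarith
  rw [h2] at hmem2
  exact absurd hmem2 List.not_mem_nil

end CfsgSimpleM22
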