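/-
The Sylow subgroups of order eleven are self-centralising, with inertial index five.
-/
import Cfsg.Agent.Lib.SimpleM22.Exclude

set_option autoImplicit false
set_option linter.style.haveILetI false
set_option linter.unusedSectionVars false

namespace CfsgSimpleM22

open Cfsg CfsgLib.CharTheory CfsgSimpleM11
open CfsgLib.SmallSylow (inIdx)

universe u
variable {G : Type u} [Group G] [Fintype G]

/-- The possible orders of the centraliser of an involution commuting with an element of order eleven. -/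
abbrev cents11 : List ℕ := [22, 44, 66, 88, 110, 132, 154, 176, 198, 220, 264, 308, 330, 352, 396, 440, 462, 528,
  616, 660, 704, 770, 792, 880, 924, 990, 1056, 1232, 1320, 1386, 1408, 1540, 1584, 1760, 1848, 1980, 2112, 2310,
  2464, 2640, 2772, 3080, 3168, 3520, 3696, 3960, 4224, 4620, 4928, 5280, 5544, 6160, 6336, 6930, 7040, 7392, 7920,
  9240, 9856, 10560, 11088, 12320, 12672, 13860, 14784, 15840, 18480, 21120, 22176, 24640, 27720, 29568, 31680, 36960]

theorem cents11_aux : ((List.range 3666).all fun k =>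
    (k == 0) || (443520 % (11 * k) != 0) || decide (40320 < 11 * k) || (11 * k % 22 != 0) ||
      cents11.contains (11 * k)) = true := by decide +kernel

theorem mem_cents11 {C : ℕ} (h1 : C ∣ 443520) (h2 : C ≤ 40320) (h3 : 22 ∣ C) : C ∈ cents11 := by
  obtain ⟨k, rfl⟩ := (show 11 ∣ C from dvd_trans ⟨2, rfl⟩ h3)
  have h := List.all_eq_true.1 cents11_aux k (List.mem_range.2 (by omega))
  simp only [Bool.or_eq_true, beq_iff_eq, bne_iff_ne, ne_eq, decide_eq_true_eq, List.contains_iff_mem] at h
  rcases h with (((h | h) | h) | h) | h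
  · subst h
    simp at h1
  · exact absurd (Nat.mod_eq_zero_of_dvd h1) h
  · omega
  · exact absurd (Nat.mod_eq_zero_of_dvd h3) h
  · exact h

/-- The degrees fit. -/
def noDegrees (p e n lo : ℕ) : Bool :=
  (multis (candX p e n lo) (e - 1)).all fun l => !(okEta p e n (sumX p l))

theorem false_of_noDegrees (hG : IsM22 G) {p : ℕ} [Fact p.Prime] (hodd : p ≠ 2) (P : Sylow p G)
    (hP : Nat.card P = p) {e n : ℕ} (he : inIdx P = e) (hn : Nat.card (Sylow p G) = n)
    (hcheck : noDegrees p e n 2 = true) : False := by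
  subst he hn
  obtain ⟨B⟩ := exists_BL hodd P hP (two_le_e hG P hP)
  obtain ⟨hok, -⟩ := B.degree hG
  have hmem : ∀ d ∈ B.xs.map (fun χ : IrrCharacter G => dg χ),
      d ∈ candX p (inIdx P) (Nat.card (Sylow p G)) 2 := by
    intro d hd
    obtain ⟨χ, hχ, rfl⟩ := List.mem_map.1 hd
    simp only [candX, List.mem_filter, Bool.and_eq_true, Bool.or_eq_true, beq_iff_eq, decide_eq_true_eq]
    exact ⟨dg_mem hG (B.xs_ne_triv hχ), ⟨Nat.mod_eq_zero_of_dvd (B.dvdX χ hχ), two_le_dg hG (B.xs_ne_triv hχ)⟩,
      B.modX χ hχ⟩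
  obtain ⟨D', hD', hperm⟩ := exists_mem_multis hmem
  rw [List.length_map, show B.xs.length = inIdx P - 1 by have := B.len_xs; omega] at hD'
  have h1 := List.all_eq_true.1 hcheck D' hD'
  rw [sumX_perm p hperm, hok] at h1
  exact absurd h1 (by simp)

theorem cases_aux : ∀ e ∈ ([2, 5, 10] : List ℕ), ((List.range 3666).all fun k =>
    (40320 % ((11 * k + 1) * e) != 0) || (k == 0) ||
      (if 40320 / ((11 * k + 1) * e) % 2 == 0 then noColumn 11 e (11 * k + 1) cents11
        else noDegrees 11 e (11 * k + 1) 2 || ((e == 5) && (k == 733)))) = true := by decide +kernel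

/-- The Sylow subgroups of order eleven. -/
theorem eleven (hG : IsM22 G) (P : Sylow 11 G) :
    Subgroup.centralizer ((P : Subgroup G) : Set G) = (P : Subgroup G) ∧ inIdx P = 5 ∧
      Nat.card (Sylow 11 G) = 8064 := by
  haveI : Fact (Nat.Prime 11) := ⟨by norm_num⟩
  have hP : Nat.card P = 11 := card_sylow11 hG P
  obtain ⟨heq, ⟨H, hH⟩, he2, hed, hmod, hn1⟩ := setting hG (by norm_num) P hP
  obtain ⟨n, hn⟩ : ∃ n, Nat.card (Sylow 11 G) = n := ⟨_, rfl⟩
  obtain ⟨e, he⟩ : ∃ e, inIdx P = e := ⟨_, rfl⟩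
  rw [he, hn] at heq
  rw [hn] at hmod hn1 ⊢
  rw [he] at he2 hed ⊢
  have h40 : 40320 = H * e * n := by
    rw [hH] at heq
    apply Nat.eq_of_mul_eq_mul_left (show 0 < 11 by norm_num)
    linarith
  have hmem : e ∈ ([2, 5, 10] : List ℕ) := by
    have := Nat.le_of_dvd (by norm_num) hed
    interval_cases e <;> simp_all
  obtain ⟨k, hk⟩ : ∃ k, n = 11 * k + 1 := ⟨n / 11, by omega⟩
  have hle : n ≤ 40320 := Nat.le_of_dvd (by norm_num) (Dvd.intro_left _ h40.symm)
  have h := List.all_eq_true.1 (cases_aux e hmem) k (List.mem_range.2 (by omega))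
  rw [← hk] at h
  have hpos : 0 < n * e := Nat.mul_pos (by omega) (by omega)
  simp only [Bool.or_eq_true, bne_iff_ne, ne_eq, beq_iff_eq] at h
  have hH' : 40320 / (n * e) = H :=
    Nat.div_eq_of_eq_mul_left hpos (by rw [h40]; ring)
  rcases h with (h | h) | h
  · exact absurd (Nat.mod_eq_zero_of_dvd (Dvd.intro_left H (by rw [h40]; ring))) h
  · omega
  rw [hH'] at h
  split_ifs at h with hev
  · exfalso
    obtain ⟨t, htC, ht⟩ := exists_involution (H := Subgroup.centralizer ((P : Subgroup G) : Set G)) (by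
      rw [hH]; exact dvd_mul_of_dvd_right (Nat.dvd_of_mod_eq_zero hev) _)
    have hPle : (P : Subgroup G) ≤ Subgroup.centralizer ({t} : Set G) := fun x hx =>
      Subgroup.mem_centralizer_singleton_iff.mpr (Subgroup.mem_centralizer_iff.mp htC x hx)
    have h11 : 11 ∣ cc t := by
      have := Subgroup.card_dvd_of_le hPle
      rwa [show Nat.card (P : Subgroup G) = 11 from hP] at this
    have h2 : 2 ∣ cc t := ht ▸ Subgroup.orderOf_dvd_natCard _ (Subgroup.mem_centralizer_singleton_iff.mpr rfl)
    refine false_of_noColumn hG (by norm_num) P hP he hn ht htC (mem_cents11 ?_ ?_ ?_) h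
    · rw [← card_eq hG]; exact Subgroup.card_subgroup_dvd_card _
    · exact cent_le hG (fun e1 => by rw [e1, orderOf_one] at ht; norm_num at ht)
    · exact Nat.Coprime.mul_dvd_of_dvd_of_dvd (by norm_num : Nat.Coprime 2 11) h2 h11
  · simp only [Bool.or_eq_true, Bool.and_eq_true, beq_iff_eq] at h
    rcases h with h | ⟨he5, hk5⟩
    · exact (false_of_noDegrees hG (by norm_num) P hP he hn h).elim
    · have hn5 : n = 8064 := by omega
      refine ⟨?_, he5, hn5⟩
      rw [he5, hn5] at h40
      refine (Subgroup.eq_of_le_of_card_ge ?_ ?_).symm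
      · haveI : IsCyclic (P : Subgroup G) := isCyclic_of_prime_card (show Nat.card (P : Subgroup G) = 11 from hP)
        exact Subgroup.le_centralizer (P : Subgroup G)
      · rw [show Nat.card (P : Subgroup G) = 11 from hP, hH]
        omega

end CfsgSimpleM22
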