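/-
A self-centralising Sylow subgroup of prime order: column relations.
-/
import Cfsg.Agent.Lib.SimpleM22.Exclude

set_option autoImplicit false
set_option linter.style.haveILetI false
set_option linter.unusedSectionVars false

namespace CfsgSimpleM22

open Cfsg CfsgLib.CharTheory CfsgLib.Blocks CfsgSimpleM11
open CfsgLib.SmallSylow (inIdx)
open scoped ComplexConjugate

universe u
variable {G : Type u} [Group G] [Fintype G] {p : ℕ} [Fact p.Prime] {P : Sylow p G}

/-- With odd inertial index no involution inverts a generator. -/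
theorem not_inverted (hodd : p ≠ 2) (hP : Nat.card P = p) (he : inIdx P % 2 = 1) {x : G}
    (hx : x ∈ (P : Subgroup G)) (hx1 : x ≠ 1) {i : G} (hi : i * i = 1) : i * x * i⁻¹ ≠ x⁻¹ := by
  intro h
  have hz : Subgroup.zpowers x = (P : Subgroup G) :=
    (CfsgLib.Blocks.DefectOne.zpowers_eq (CfsgLib.Blocks.DefectOne.setup_sylow P hP) hP hx hx1).1
  have hiN : i ∈ Subgroup.normalizer ((P : Subgroup G) : Set G) := by
    have hmap : (P : Subgroup G).map (MulAut.conj i).toMonoidHom = (P : Subgroup G) := by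
      rw [← hz, MonoidHom.map_zpowers]
      show Subgroup.zpowers (i * x * i⁻¹) = _
      rw [h, Subgroup.zpowers_inv]
    exact Subgroup.mem_normalizer_iff.mpr fun n => by
      constructor
      · intro hn
        rw [← hmap]
        exact Subgroup.mem_map_of_mem _ hn
      · intro hn
        rw [← hmap] at hn
        obtain ⟨m, hm, hm'⟩ := hn
        simp only [MulEquiv.coe_toMonoidHom, MulAut.conj_apply, mul_left_inj, mul_right_inj] at hm'
        exact hm' ▸ hm
  set f := Subgroup.normalizerMonoidHom (P : Subgroup G) with hf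
  have hcard : Nat.card f.range = inIdx P := by
    rw [← Subgroup.index_ker, hf, Subgroup.normalizerMonoidHom_ker]
    rfl
  have h2 : (⟨f ⟨i, hiN⟩, ⟨_, rfl⟩⟩ : f.range) ^ 2 = 1 := by
    refine Subtype.ext ?_
    show f ⟨i, hiN⟩ ^ 2 = 1
    rw [← map_pow, show (⟨i, hiN⟩ : Subgroup.normalizer ((P : Subgroup G) : Set G)) ^ 2 = 1 from
      Subtype.ext (by rw [SubmonoidClass.coe_pow, pow_two]; exact hi), map_one]
  have h1 : (⟨f ⟨i, hiN⟩, ⟨_, rfl⟩⟩ : f.range) = 1 := by
    have ha : orderOf (⟨f ⟨i, hiN⟩, ⟨_, rfl⟩⟩ : f.range) ∣ 2 := orderOf_dvd_of_pow_eq_one h2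
    have hb : orderOf (⟨f ⟨i, hiN⟩, ⟨_, rfl⟩⟩ : f.range) ∣ inIdx P := hcard ▸ orderOf_dvd_natCard _
    rcases (Nat.dvd_prime Nat.prime_two).mp ha with e | e
    · exact orderOf_eq_one_iff.mp e
    · rw [e] at hb; omega
  have hker : (⟨i, hiN⟩ : Subgroup.normalizer ((P : Subgroup G) : Set G)) ∈ f.ker :=
    MonoidHom.mem_ker.mpr (congrArg Subtype.val h1)
  rw [hf, Subgroup.normalizerMonoidHom_ker, Subgroup.mem_subgroupOf] at hker
  have hc : x * i = i * x := Subgroup.mem_centralizer_iff.mp hker x hx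
  rw [← hc, mul_inv_cancel_right] at h
  have h4 : x ^ 2 = 1 := by rw [pow_two]; nth_rw 2 [h]; exact mul_inv_cancel x
  have := orderOf_dvd_of_pow_eq_one h4
  rw [CfsgLib.SmallSylow.orderOf_mem P hP hx hx1] at this
  rcases (Nat.dvd_prime Nat.prime_two).mp this with e | e
  · exact (Fact.out : p.Prime).ne_one e
  · exact hodd e

theorem pairCount_zero (hodd : p ≠ 2) (hP : Nat.card P = p) (he : inIdx P % 2 = 1) {x : G}
    (hx : x ∈ (P : Subgroup G)) (hx1 : x ≠ 1) {s t : G} (hs : orderOf s = 2) (ht : orderOf t = 2) :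
    pairCount s t x = 0 := by
  rw [pairCount, Nat.card_eq_zero]
  refine Or.inl ⟨fun ⟨y, hy1, hy2⟩ => ?_⟩
  have e1 : y * y = 1 := by
    rw [← pow_two, ← (orderOf_of_isConj hy1).trans hs, pow_orderOf_eq_one]
  have e2 : (y⁻¹ * x) * (y⁻¹ * x) = 1 := by
    rw [← pow_two, ← (orderOf_of_isConj hy2).trans ht, pow_orderOf_eq_one]
  have e3 : y⁻¹ = y := inv_eq_of_mul_eq_one_left e1
  rw [e3] at e2
  refine not_inverted hodd hP he hx hx1 e1 ?_
  rw [e3]
  exact eq_inv_of_mul_eq_one_left (by simpa [mul_assoc] using e2)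

variable (B : BL P)

/-- The characters of the block. -/
noncomputable def BL.chars : List (IrrCharacter G) := triv G :: (B.xs ++ B.ys)

theorem BL.not_dvd_dg (hodd : p ≠ 2) (he : inIdx P < p) {χ : IrrCharacter G} (h : χ ∈ B.chars) : ¬ p ∣ dg χ := by
  have hp := (Fact.out : p.Prime)
  have h2 := hp.two_le
  intro hd
  have h0 := Nat.mod_eq_zero_of_dvd hd
  rcases List.mem_cons.1 h with e | h
  · rw [e, dg_triv, Nat.mod_eq_of_lt hp.one_lt] at h0
    exact absurd h0 one_ne_zero
  rcases List.mem_append.1 h with h | h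
  · have := B.modX χ h; omega
  · rw [B.degY χ h] at h0
    have := B.modf
    have := inIdx_pos P
    omega

theorem BL.mem_of_not_dvd (hC : Subgroup.centralizer ((P : Subgroup G) : Set G) = (P : Subgroup G))
    {χ : IrrCharacter G} (h : ¬ p ∣ dg χ) : χ ∈ B.chars :=
  by_contra fun hn => h (B.closed hC χ hn).2

theorem BL.sum_split (F : IrrCharacter G → ℂ) (h : ∀ χ, χ ∉ B.chars → F χ = 0) :
    ∑ χ : IrrCharacter G, F χ = F (triv G) + (B.xs.map F).sum + (B.ys.map F).sum := by
  classical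
  rw [← Finset.sum_subset (Finset.subset_univ B.chars.toFinset) fun χ _ hχ =>
    h χ fun hm => hχ (List.mem_toFinset.2 hm), BL.chars, List.sum_toFinset _ B.nodup, List.map_cons,
    List.sum_cons, List.map_append, List.sum_append, add_assoc]

/-- The number of representations of a generator as a product of members of two classes. -/
theorem BL.count (hG : IsM22 G) (hodd : p ≠ 2) (hP : Nat.card P = p)
    (hC : Subgroup.centralizer ((P : Subgroup G) : Set G) = (P : Subgroup G)) {x : G}
    (hx : x ∈ (P : Subgroup G)) (hx1 : x ≠ 1) {g h : G} (hg : ¬ p ∣ orderOf g) (hh : ¬ p ∣ orderOf h)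
    {η : IrrCharacter G} (hη : η ∈ B.ys) :
    (pairCount g h x : ℂ) * (cc g : ℂ) * (cc h : ℂ) = 443520 * (1 +
      (B.xs.map fun χ : IrrCharacter G =>
        (sgn p (dg χ) : ℂ) * (χ : G → ℂ) g * (χ : G → ℂ) h / (dg χ : ℂ)).sum +
      (sgE p (inIdx P) B.f : ℂ) * (η : G → ℂ) g * (η : G → ℂ) h / (B.f : ℂ)) := by
  classical
  have hxi : x⁻¹ ∈ (P : Subgroup G) := inv_mem hx
  have hxi1 : x⁻¹ ≠ 1 := by simpa using hx1
  have H := pairCount_mul g h x
  simp only [clv, centralChar, ← CfsgSimpleM11.irr_inv] at H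
  rw [B.sum_split _ (fun χ hn => by rw [(B.closed hC χ hn).1 _ hxi hxi1, mul_zero, mul_zero])] at H
  have hm : ((Subgroup.centralizer ({g} : Set G)).index : ℂ) * (cc g : ℂ) = 443520 := by
    rw [← Nat.cast_mul, Subgroup.index_mul_card, card_eq hG]; norm_num
  rw [mul_right_comm, H, ← hm, mul_right_comm _ (cc g : ℂ)]
  congr 1
  rw [triv_apply, triv_apply, triv_apply, triv_apply,
    List.map_congr_left (l := B.xs) (g := fun χ : IrrCharacter G => ((Subgroup.centralizer ({g} : Set G)).index : ℂ) *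
      ((sgn p (dg χ) : ℂ) * (χ : G → ℂ) g * (χ : G → ℂ) h / (dg χ : ℂ))) (fun χ hχ => by
        have h1 := B.valX χ hχ _ hxi hxi1 1 (Subgroup.one_mem _) (by rw [orderOf_one]; exact (Fact.out : p.Prime).not_dvd_one)
        rw [mul_one] at h1
        rw [h1, irr_degree]
        ring),
    List.map_congr_left (l := B.ys) (g := fun η' : IrrCharacter G => ((Subgroup.centralizer ({g} : Set G)).index : ℂ) *
      ((η : G → ℂ) g * (η : G → ℂ) h / (B.f : ℂ)) * (η' : G → ℂ) x⁻¹) (fun η' hη' => by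
        rw [B.agree η' hη' η hη g hg, B.agree η' hη' η hη h hh, irr_degree,
          show charDegree (η' : G → ℂ) = B.f from B.degY η' hη']
        ring),
    List.sum_map_mul_left, List.sum_map_mul_left]
  have hs := B.sumY _ hxi hxi1 1 (Subgroup.one_mem _) (by rw [orderOf_one]; exact (Fact.out : p.Prime).not_dvd_one)
  simp only [mul_one] at hs
  rw [hs]
  ring

end CfsgSimpleM22
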