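/-
The column of a generator of a self-centralising Sylow subgroup: rows at involutions.
-/
import Cfsg.Agent.Lib.SimpleM22.SelfCentral

set_option autoImplicit false
set_option linter.style.haveILetI false
set_option linter.unusedSectionVars false

namespace CfsgSimpleM22

open Cfsg CfsgLib.CharTheory CfsgSimpleM11
open CfsgLib.SmallSylow (inIdx)

universe u

section defs
variable {G : Type u} [Group G] [Fintype G]

open Classical in
/-- The value of a character where it is an integer. -/
noncomputable def ival (χ : IrrCharacter G) (g : G) : ℤ :=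
  if h : ∃ v : ℤ, (χ : G → ℂ) g = v then h.choose else 0

theorem ival_spec {χ : IrrCharacter G} {g : G} {v : ℤ} (h : (χ : G → ℂ) g = v) :
    (χ : G → ℂ) g = (ival χ g : ℂ) := by
  unfold ival
  rw [dif_pos ⟨v, h⟩]
  exact (Exists.choose_spec (⟨v, h⟩ : ∃ v : ℤ, (χ : G → ℂ) g = v))

theorem ival_eq {χ : IrrCharacter G} {g : G} {v : ℤ} (h : (χ : G → ℂ) g = v) : ival χ g = v := by
  exact_mod_cast (ival_spec h).symm.trans h

theorem ival_triv (g : G) : ival (triv G) g = 1 := ival_eq (by rw [triv_apply, Int.cast_one])

theorem ival_inv (hG : IsM22 G) (χ : IrrCharacter G) {t : G} (ht : orderOf t = 2) :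
    (χ : G → ℂ) t = (ival χ t : ℂ) := by
  obtain ⟨v, hv, -⟩ := involution_int hG χ ht
  exact ival_spec hv

theorem ival_conj (χ : IrrCharacter G) {g k : G} (hgh : IsConj g k) :
    ival χ g = ival χ k := by
  unfold ival
  have h := irr_of_isConj χ hgh
  by_cases hg : ∃ v : ℤ, (χ : G → ℂ) g = v
  · rw [dif_pos hg, dif_pos (h ▸ hg)]
    have h1 := hg.choose_spec
    have h2 := (h ▸ hg : ∃ v : ℤ, (χ : G → ℂ) k = v).choose_spec
    exact_mod_cast h1.symm.trans (h.trans h2)
  · rw [dif_neg hg, dif_neg (fun hh => hg (h ▸ hh))]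

theorem not_dvd_two {p : ℕ} [Fact p.Prime] (hodd : p ≠ 2) {t : G} (ht : orderOf t = 2) : ¬ p ∣ orderOf t := by
  rw [ht]
  intro h
  rcases (Nat.dvd_prime Nat.prime_two).mp h with e | e
  · exact (Fact.out : p.Prime).ne_one e
  · exact hodd e

end defs

/-- The degree of the exceptional characters. -/
def fOf (p : ℕ) (D : List ℕ) : ℕ := (sumX p D).natAbs

/-- The slots of a row at an involution. -/
def colSlots (p e t C f : ℕ) (D : List ℕ) : List Slot :=
  (D.map fun d => ⟨sgn p d, sgn p d * ((443520 / d : ℕ) : ℤ), 1, dom 4 C d⟩) ++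
    [⟨sgE p e f, sgE p e f * ((443520 / f : ℕ) : ℤ), t, dom 4 C f⟩]

/-- The rows at an involution with centraliser of order `C`. -/
def rows (p e t : ℕ) (D : List ℕ) (C : ℕ) : List (List ℤ) :=
  sols (colSlots p e t C (fOf p D) D) 1 443520 ((C : ℤ) - 1)

/-- The bilinear form on rows. -/
def biSum (p e : ℕ) (f : ℕ) : List ℕ → List ℤ → List ℤ → ℤ
  | [], [v], [w] => sgE p e f * ((443520 / f : ℕ) : ℤ) * (v * w) + 443520
  | d :: D, v :: vs, w :: ws => sgn p d * ((443520 / d : ℕ) : ℤ) * (v * w) + biSum p e f D vs ws
  | _, _, _ => 0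

/-- The degrees with their values, exceptional ones repeated. -/
def expand (t f : ℕ) : List ℕ → List ℤ → List (ℕ × ℤ)
  | [], [v] => List.replicate t (f, v)
  | d :: D, v :: vs => (d, v) :: expand t f D vs
  | _, _ => []

/-- A self-centralising Sylow subgroup with a chosen block. -/
structure Frame (G : Type u) [Group G] [Fintype G] (p : ℕ) [Fact p.Prime] (e : ℕ) where
  P : Sylow p G
  hP : Nat.card P = p
  hC : Subgroup.centralizer ((P : Subgroup G) : Set G) = (P : Subgroup G)
  he : inIdx P = e
  x : G
  hx : x ∈ (P : Subgroup G)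
  hx1 : x ≠ 1
  B : BL P

namespace Frame

variable {G : Type u} [Group G] [Fintype G] {p : ℕ} [Fact p.Prime] {e : ℕ} (F : Frame G p e)

/-- An exceptional character. -/
noncomputable def eta : IrrCharacter G := F.B.exists_eta.choose

theorem eta_mem : F.eta ∈ F.B.ys := F.B.exists_eta.choose_spec

/-- The degrees of the rational characters. -/
noncomputable def D : List ℕ := F.B.xs.map fun χ : IrrCharacter G => dg χ

/-- The number of exceptional characters. -/
noncomputable def t : ℕ := F.B.ys.length

/-- The row of an element. -/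
noncomputable def row (g : G) : List ℤ := (F.B.xs.map fun χ : IrrCharacter G => ival χ g) ++ [ival F.eta g]

theorem t_mul : F.t * e = p - 1 := (congrArg (F.B.ys.length * ·) F.he).symm.trans F.B.len_ys

theorem fOf_eq (hG : IsM22 G) : fOf p F.D = F.B.f := (F.B.degree hG).2

theorem row_mem (hG : IsM22 G) (hodd : p ≠ 2) (hev : e % 2 = 1) {s : G} (hs : orderOf s = 2) :
    F.row s ∈ rows p e F.t F.D (cc s) := by
  classical
  have hη := F.eta_mem
  have hno : ¬ p ∣ orderOf s := not_dvd_two hodd hs
  have hd : ∀ χ : IrrCharacter G, ((4 : ℕ) : ℤ) ∣ ival χ s - dg χ := fun χ => by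
    obtain ⟨v, hv, h4, -⟩ := involution_int hG χ hs
    rw [ival_eq hv]
    push_cast
    omega
  rw [rows, F.fOf_eq hG, Frame.row, Frame.D]
  apply mem_sols
  · rw [colSlots, List.map_map]
    refine List.rel_append ?_ (List.Forall₂.cons ?_ List.Forall₂.nil)
    · rw [List.forall₂_map_left_iff, List.forall₂_map_right_iff, List.forall₂_same]
      exact fun χ hχ => mem_dom_involution hG (F.B.xs_ne_triv hχ) hs (by norm_num) (ival_inv hG χ hs) (hd χ)
    · have h := mem_dom_involution hG (F.B.ys_ne_triv hη) hs (by norm_num) (ival_inv hG F.eta hs) (hd F.eta)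
      rw [F.B.degY _ hη] at h
      exact h
  · have h := F.B.rel _ hη s hno
    rw [F.he, ival_inv hG F.eta hs, List.map_congr_left fun χ _ => by rw [ival_inv hG χ hs]] at h
    have key : ∀ l : List (IrrCharacter G),
        ((linSum (colSlots p e F.t (cc s) F.B.f (l.map fun χ : IrrCharacter G => dg χ))
          ((l.map fun χ : IrrCharacter G => ival χ s) ++ [ival F.eta s]) : ℤ) : ℂ) =
          (l.map fun χ : IrrCharacter G => (sgn p (dg χ) : ℂ) * (ival χ s : ℂ)).sum +
            (sgE p e F.B.f : ℂ) * (ival F.eta s : ℂ) := by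
      intro l
      induction l with
      | nil => simp [colSlots, linSum]
      | cons χ r ih =>
        simp only [colSlots, List.map_cons, List.cons_append, linSum, List.sum_cons, Int.cast_add,
          Int.cast_mul] at ih ⊢
        rw [ih]
        ring
    have : ((1 + linSum (colSlots p e F.t (cc s) F.B.f (F.B.xs.map fun χ : IrrCharacter G => dg χ))
          ((F.B.xs.map fun χ : IrrCharacter G => ival χ s) ++ [ival F.eta s]) : ℤ) : ℂ) = ((0 : ℤ) : ℂ) := by
      rw [Int.cast_add, key, Int.cast_one, Int.cast_zero]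
      linear_combination h
    exact_mod_cast this
  · have h := F.B.count hG hodd F.hP F.hC F.hx F.hx1 hno hno hη
    rw [pairCount_zero hodd F.hP (by rw [F.he]; exact hev) F.hx F.hx1 hs hs, F.he] at h
    simp only [Nat.cast_zero, zero_mul] at h
    have hdiv : ∀ χ : IrrCharacter G, (((443520 / dg χ : ℕ) : ℤ) : ℂ) = 443520 / (dg χ : ℂ) := fun χ => by
      rw [Int.cast_natCast, Nat.cast_div (dg_dvd' hG χ)
        (by exact_mod_cast (CfsgLib.Blocks.irr_charDegree_pos χ).ne')]
      norm_num
    have key : ∀ l : List (IrrCharacter G),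
        ((quadSum (colSlots p e F.t (cc s) F.B.f (l.map fun χ : IrrCharacter G => dg χ))
          ((l.map fun χ : IrrCharacter G => ival χ s) ++ [ival F.eta s]) : ℤ) : ℂ) =
          443520 * ((l.map fun χ : IrrCharacter G =>
            (sgn p (dg χ) : ℂ) * (χ : G → ℂ) s * (χ : G → ℂ) s / (dg χ : ℂ)).sum +
          (sgE p e F.B.f : ℂ) * (F.eta : G → ℂ) s * (F.eta : G → ℂ) s / (F.B.f : ℂ)) := by
      intro l
      induction l with
      | nil =>
        simp only [colSlots, List.map_nil, List.nil_append, quadSum, List.sum_nil, zero_add, add_zero,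
          Int.cast_mul]
        rw [← F.B.degY _ hη, hdiv, ival_inv hG F.eta hs]
        ring
      | cons χ r ih =>
        simp only [colSlots, List.map_cons, List.cons_append, quadSum, List.sum_cons, Int.cast_add,
          Int.cast_mul] at ih ⊢
        rw [ih, hdiv, ival_inv hG χ hs]
        ring
    have : ((443520 + quadSum (colSlots p e F.t (cc s) F.B.f (F.B.xs.map fun χ : IrrCharacter G => dg χ))
          ((F.B.xs.map fun χ : IrrCharacter G => ival χ s) ++ [ival F.eta s]) : ℤ) : ℂ) = ((0 : ℤ) : ℂ) := by
      rw [Int.cast_add, key, Int.cast_zero, Int.cast_ofNat]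
      linear_combination -h
    exact_mod_cast this
  · have key : ∀ l : List (IrrCharacter G),
        normSum (colSlots p e F.t (cc s) F.B.f (l.map fun χ : IrrCharacter G => dg χ))
          ((l.map fun χ : IrrCharacter G => ival χ s) ++ [ival F.eta s]) =
          ((l ++ F.B.ys).map fun χ : IrrCharacter G => ival χ s ^ 2).sum := by
      intro l
      induction l with
      | nil =>
        simp only [colSlots, List.map_nil, List.nil_append, normSum, add_zero]
        rw [List.map_congr_left (g := fun _ => ival F.eta s ^ 2) fun η' hη' => by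
          have h := F.B.agree η' hη' F.eta hη s hno
          rw [ival_inv hG η' hs, ival_inv hG F.eta hs] at h
          rw [show ival η' s = ival F.eta s by exact_mod_cast h]]
        rw [List.map_const', List.sum_replicate, nsmul_eq_mul]
        simp only [Frame.t, pow_two]
      | cons χ r ih =>
        simp only [colSlots, List.map_cons, List.cons_append, normSum, List.sum_cons] at ih ⊢
        rw [ih]
        push_cast
        ring
    rw [key]
    have hb := norm_le (s := (triv G :: (F.B.xs ++ F.B.ys)).toFinset) (g := s) (fun χ => ival χ s)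
      (fun χ _ => ival_inv hG χ hs)
    rw [List.sum_toFinset _ F.B.nodup, List.map_cons, List.sum_cons, ival_triv] at hb
    linarith

/-- Two rows are orthogonal for the quadratic form. -/
theorem bi_zero (hG : IsM22 G) (hodd : p ≠ 2) (hev : e % 2 = 1) {s u : G} (hs : orderOf s = 2)
    (hu : orderOf u = 2) : biSum p e (fOf p F.D) F.D (F.row s) (F.row u) = 0 := by
  have hη := F.eta_mem
  have hno : ¬ p ∣ orderOf s := not_dvd_two hodd hs
  have hnu : ¬ p ∣ orderOf u := not_dvd_two hodd hu
  have h := F.B.count hG hodd F.hP F.hC F.hx F.hx1 hno hnu hη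
  rw [pairCount_zero hodd F.hP (by rw [F.he]; exact hev) F.hx F.hx1 hs hu, F.he] at h
  simp only [Nat.cast_zero, zero_mul] at h
  rw [F.fOf_eq hG, Frame.row, Frame.row, Frame.D]
  have hdiv : ∀ χ : IrrCharacter G, (((443520 / dg χ : ℕ) : ℤ) : ℂ) = 443520 / (dg χ : ℂ) := fun χ => by
    rw [Int.cast_natCast, Nat.cast_div (dg_dvd' hG χ)
      (by exact_mod_cast (CfsgLib.Blocks.irr_charDegree_pos χ).ne')]
    norm_num
  have key : ∀ l : List (IrrCharacter G),
      ((biSum p e F.B.f (l.map fun χ : IrrCharacter G => dg χ)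
        ((l.map fun χ : IrrCharacter G => ival χ s) ++ [ival F.eta s])
        ((l.map fun χ : IrrCharacter G => ival χ u) ++ [ival F.eta u]) : ℤ) : ℂ) =
        443520 * (1 + (l.map fun χ : IrrCharacter G =>
          (sgn p (dg χ) : ℂ) * (χ : G → ℂ) s * (χ : G → ℂ) u / (dg χ : ℂ)).sum +
        (sgE p e F.B.f : ℂ) * (F.eta : G → ℂ) s * (F.eta : G → ℂ) u / (F.B.f : ℂ)) := by
    intro l
    induction l with
    | nil =>
      simp only [List.map_nil, List.nil_append, biSum, List.sum_nil, add_zero, Int.cast_add, Int.cast_mul,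
        Int.cast_ofNat]
      rw [← F.B.degY _ hη, hdiv, ival_inv hG F.eta hs, ival_inv hG F.eta hu]
      ring
    | cons χ r ih =>
      simp only [List.map_cons, List.cons_append, biSum, List.sum_cons, Int.cast_add, Int.cast_mul] at ih ⊢
      rw [ih, hdiv, ival_inv hG χ hs, ival_inv hG χ hu]
      ring
  have h2 := key F.B.xs
  rw [← h] at h2
  exact_mod_cast h2

/-- The degrees and values of the characters of the block other than the trivial one. -/
theorem expand_eq (hG : IsM22 G) {s : G} (hs : ¬ p ∣ orderOf s) (hsv : ∀ χ : IrrCharacter G, ∃ v : ℤ, (χ : G → ℂ) s = v) :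
    ((F.B.xs ++ F.B.ys).map fun χ : IrrCharacter G => (dg χ, ival χ s)) =
      expand F.t (fOf p F.D) F.D (F.row s) := by
  rw [F.fOf_eq hG, Frame.row, Frame.D]
  have key : ∀ l : List (IrrCharacter G), ((l ++ F.B.ys).map fun χ : IrrCharacter G => (dg χ, ival χ s)) =
      expand F.t F.B.f (l.map fun χ : IrrCharacter G => dg χ)
        ((l.map fun χ : IrrCharacter G => ival χ s) ++ [ival F.eta s]) := by
    intro l
    induction l with
    | nil =>
      simp only [List.map_nil, List.nil_append, expand]
      rw [List.map_congr_left (g := fun _ => (F.B.f, ival F.eta s)) fun η' hη' => by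
        obtain ⟨v, hv⟩ := hsv η'
        obtain ⟨w, hw⟩ := hsv F.eta
        have h := F.B.agree η' hη' F.eta F.eta_mem s hs
        rw [hv, hw] at h
        rw [F.B.degY η' hη', ival_eq hv, ival_eq hw, show v = w by exact_mod_cast h]]
      rw [List.map_const']
      rfl
    | cons χ r ih =>
      simp only [List.map_cons, List.cons_append, expand] at ih ⊢
      rw [ih]
  exact key F.B.xs

end Frame

end CfsgSimpleM22
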