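/-
The possible degrees of the characters of full column at an element of order eleven.
-/
import Mathlib.Tactic

set_option autoImplicit false

namespace CfsgSimpleM22

/-- The degrees of the four nontrivial rational characters of the principal block at the prime eleven. -/
def A11 : List (List ℕ) := [
  [10, 10, 10, 45], [10, 10, 12, 12], [10, 10, 12, 21], [10, 10, 21, 32], [10, 10, 21, 45],
  [10, 10, 21, 56], [10, 10, 21, 120], [10, 10, 21, 320], [10, 10, 32, 45], [10, 10, 32, 56],
  [10, 10, 120, 144], [10, 12, 12, 21], [10, 12, 12, 45], [10, 12, 12, 120], [10, 12, 21, 144],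
  [10, 12, 21, 210], [10, 12, 32, 45], [10, 12, 45, 120], [10, 12, 45, 144], [10, 12, 45, 384],
  [10, 12, 144, 252], [10, 21, 21, 21], [10, 21, 21, 45], [10, 21, 21, 56], [10, 21, 32, 56],
  [10, 21, 45, 45], [10, 21, 45, 120], [10, 21, 120, 144], [10, 21, 120, 210], [10, 21, 210, 252],
  [10, 32, 32, 32], [10, 32, 32, 45], [10, 32, 45, 56], [10, 32, 56, 120], [10, 32, 320, 384],
  [10, 45, 45, 45], [10, 45, 56, 120], [10, 45, 56, 252], [10, 45, 120, 144], [10, 45, 120, 210],
  [10, 45, 120, 252], [10, 45, 144, 252], [10, 45, 210, 252], [10, 45, 320, 384], [10, 56, 210, 252],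
  [10, 120, 120, 144], [10, 144, 144, 384], [12, 12, 12, 21], [12, 12, 12, 32], [12, 12, 21, 32],
  [12, 12, 21, 56], [12, 12, 45, 56], [12, 12, 45, 210], [12, 21, 21, 45], [12, 21, 32, 32],
  [12, 21, 32, 45], [12, 21, 32, 56], [12, 21, 32, 120], [12, 21, 32, 320], [12, 21, 56, 120],
  [12, 21, 56, 144], [12, 21, 56, 384], [12, 21, 120, 144], [12, 21, 120, 320], [12, 21, 144, 144],
  [12, 21, 252, 320], [12, 21, 320, 384], [12, 32, 32, 45], [12, 32, 32, 56], [12, 32, 120, 144],
  [12, 45, 56, 120], [12, 45, 210, 252], [12, 45, 252, 320], [12, 45, 320, 384], [12, 56, 56, 120],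
  [12, 56, 210, 384], [12, 56, 320, 384], [21, 21, 21, 56], [21, 21, 32, 32], [21, 21, 32, 45],
  [21, 21, 45, 56], [21, 21, 56, 120], [21, 21, 320, 384], [21, 32, 32, 56], [21, 32, 32, 144],
  [21, 32, 32, 210], [21, 32, 32, 252], [21, 32, 56, 56], [21, 32, 120, 144], [21, 32, 144, 252],
  [21, 32, 252, 320], [21, 45, 45, 56], [21, 45, 45, 210], [21, 56, 56, 120], [21, 56, 56, 252],
  [21, 56, 120, 144], [21, 56, 120, 210], [21, 56, 120, 252], [21, 56, 144, 252], [21, 56, 210, 252],
  [21, 56, 320, 384], [21, 120, 120, 320], [21, 120, 210, 210], [21, 120, 252, 320], [21, 144, 144, 252],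
  [21, 144, 252, 320], [21, 144, 320, 384], [21, 210, 210, 384], [21, 210, 320, 384], [32, 32, 45, 144],
  [32, 32, 45, 210], [32, 32, 210, 252], [32, 32, 252, 320], [32, 45, 56, 56], [32, 45, 56, 210],
  [32, 45, 210, 252], [32, 45, 210, 384], [32, 144, 144, 252], [32, 210, 210, 384], [45, 45, 45, 56],
  [45, 45, 45, 120], [45, 45, 45, 144], [45, 45, 56, 252], [45, 56, 120, 144], [45, 56, 120, 210],
  [45, 56, 144, 252], [45, 56, 210, 252], [45, 56, 210, 384], [45, 120, 120, 210], [45, 120, 120, 320],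
  [45, 120, 144, 210], [45, 120, 252, 320], [45, 144, 210, 384], [45, 144, 210, 560], [45, 144, 320, 384],
  [45, 210, 320, 384], [56, 56, 144, 252], [56, 120, 210, 252], [56, 120, 252, 320], [144, 210, 210, 560],
  [210, 252, 320, 384], [252, 320, 320, 384]]

end CfsgSimpleM22
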