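/-
The column of an element of order eleven.
-/
import Cfsg.Agent.Lib.SimpleM22.ElevenCent
import Cfsg.Agent.Lib.SimpleM22.Frame
import Cfsg.Agent.Lib.SimpleM22.Lists

set_option autoImplicit false
set_option linter.style.haveILetI false
set_option linter.unusedSectionVars false

namespace CfsgSimpleM22

open Cfsg CfsgLib.CharTheory CfsgSimpleM11
open CfsgLib.SmallSylow (inIdx)

universe u
variable {G : Type u} [Group G] [Fintype G]

/-- The multisets of four degrees with a fitting exceptional degree and bounded sum of squares are listed. -/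
theorem A11_aux : ((multis (candX 11 5 8064 2) 4).all fun l =>
    !(okEta 11 5 8064 (sumX 11 l)) ||
      decide (443520 < 1 + (l.map fun d => d * d).sum + 2 * (fOf 11 l * fOf 11 l)) ||
      A11.any fun m => m.isPerm l) = true := by
  decide +kernel

instance : Fact (Nat.Prime 11) := ⟨by norm_num⟩

/-- The column at the prime eleven, with the degrees listed in a fixed order. -/
theorem exists_eleven (hG : IsM22 G) : ∃ F : Frame G 11 5, F.D ∈ A11 ∧ F.t = 2 := by
  classical
  obtain ⟨P⟩ := (inferInstance : Nonempty (Sylow 11 G))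
  obtain ⟨hC, he, hn⟩ := eleven hG P
  have hP : Nat.card P = 11 := card_sylow11 hG P
  obtain ⟨B⟩ := exists_BL (by norm_num) P hP (two_le_e hG P hP)
  obtain ⟨hok, habs⟩ := B.degree hG
  rw [he, hn] at hok
  set l := B.xs.map fun χ : IrrCharacter G => dg χ with hl
  have hmem : ∀ d ∈ l, d ∈ candX 11 5 8064 2 := by
    intro d hd
    obtain ⟨χ, hχ, rfl⟩ := List.mem_map.1 hd
    simp only [candX, List.mem_filter, Bool.and_eq_true, Bool.or_eq_true, beq_iff_eq, decide_eq_true_eq]
    have h1 := B.dvdX χ hχ
    rw [he, hn] at h1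
    exact ⟨dg_mem hG (B.xs_ne_triv hχ), ⟨Nat.mod_eq_zero_of_dvd h1, two_le_dg hG (B.xs_ne_triv hχ)⟩,
      B.modX χ hχ⟩
  obtain ⟨D', hD', hperm⟩ := exists_mem_multis hmem
  have hlx : B.xs.length = 4 := by have := B.len_xs; omega
  rw [hl, List.length_map, hlx] at hD'
  have h1 := List.all_eq_true.1 A11_aux D' hD'
  rw [sumX_perm 11 hperm, hok, Bool.not_true, Bool.false_or, Bool.or_eq_true] at h1
  have hly : B.ys.length = 2 := by have := B.len_ys; rw [he] at this; omega
  rcases h1 with h1 | h1
  · exfalso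
    rw [decide_eq_true_eq, show fOf 11 D' = B.f by rw [fOf, sumX_perm 11 hperm]; exact habs,
      (hperm.map fun d => d * d).sum_eq, hl, List.map_map] at h1
    have hs := Finset.sum_le_sum_of_subset_of_nonneg (f := fun χ : IrrCharacter G => dg χ ^ 2)
      (Finset.subset_univ (triv G :: (B.xs ++ B.ys)).toFinset) (fun _ _ _ => Nat.zero_le _)
    rw [sum_dg_sq hG, List.sum_toFinset _ B.nodup, List.map_cons, List.sum_cons, List.map_append,
      List.sum_append, List.map_congr_left (l := B.ys) (g := fun _ => B.f ^ 2) (fun η hη => by rw [B.degY η hη]),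
      List.map_const', List.sum_replicate, hly, dg_triv, smul_eq_mul] at hs
    have e : ((fun d : ℕ => d * d) ∘ fun χ : IrrCharacter G => dg χ) = fun χ : IrrCharacter G => dg χ ^ 2 :=
      funext fun χ => (pow_two (dg χ)).symm
    rw [e] at h1
    nlinarith
  · obtain ⟨m, hm, hp⟩ := List.any_eq_true.1 h1
    have hmp : m.Perm l := (List.isPerm_iff.1 hp).trans hperm
    obtain ⟨xs', hxs', hmap⟩ := exists_map_perm (f := fun χ : IrrCharacter G => dg χ) (l := B.xs) hmp
    obtain ⟨x, hx, hx1⟩ := CfsgLib.SmallSylow.exists_mem_ne P hP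
    exact ⟨⟨P, hP, hC, he, x, hx, hx1, B.permute xs' hxs'⟩,
      show xs'.map (fun χ : IrrCharacter G => dg χ) ∈ A11 from hmap ▸ hm, hly⟩

end CfsgSimpleM22
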