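/-
The multiplicities of the characters of elementary abelian subgroups of order four and eight.
-/
import Cfsg.Agent.Lib.SimpleM22.Chars
import Mathlib.LinearAlgebra.Trace

set_option autoImplicit false
set_option linter.style.haveILetI false
set_option linter.unusedSectionVars false

namespace CfsgSimpleM22

open Cfsg CfsgLib.CharTheory CfsgSimpleM11

universe u
variable {G : Type u} [Group G] [Fintype G]

theorem idem_half {R : Type*} [Ring R] [Algebra ℂ R] {a : R} (ha : a * a = 1) {c : ℤ} (hc : c = 1 ∨ c = -1) :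
    IsIdempotentElem ((1 / 2 : ℂ) • (1 + (c : ℂ) • a)) := by
  unfold IsIdempotentElem
  rw [smul_mul_smul_comm, add_mul, mul_add, mul_add, one_mul, mul_one, one_mul, smul_mul_smul_comm, ha]
  rcases hc with rfl | rfl <;> module

theorem trace_idem {d : ℕ} {E : (Fin d → ℂ) →ₗ[ℂ] (Fin d → ℂ)} (h : IsIdempotentElem E) :
    ∃ m : ℕ, LinearMap.trace ℂ _ E = (m : ℂ) :=
  ⟨_, ((LinearMap.isProj_range_iff_isIdempotentElem E).2 h).trace⟩

/-- The multiplicity of a character of a group generated by two commuting involutions. -/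
theorem four_mult (χ : IrrCharacter G) {a b : G} (ha : a * a = 1) (hb : b * b = 1) (hab : Commute a b)
    {c e : ℤ} (hc : c = 1 ∨ c = -1) (he : e = 1 ∨ e = -1) {va vb vab : ℤ}
    (hva : (χ : G → ℂ) a = va) (hvb : (χ : G → ℂ) b = vb) (hvab : (χ : G → ℂ) (a * b) = vab) :
    ∃ m : ℕ, (dg χ : ℤ) + c * va + e * vb + c * e * vab = 4 * m := by
  obtain ⟨d, ρ, -, hρ⟩ := χ.2
  have hd : (χ : G → ℂ) 1 = (d : ℂ) := by rw [← hρ, Representation.char_one, Module.finrank_fin_fun]
  set A := ρ a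
  set B := ρ b
  have hA : A * A = 1 := by rw [← map_mul, ha, map_one]
  have hB : B * B = 1 := by rw [← map_mul, hb, map_one]
  have hAB : Commute A B := hab.map ρ
  have hE := (idem_half hA hc).mul_of_commute
    (((Commute.one_left _).add_left (((Commute.one_right _).add_right (hAB.smul_right (e : ℂ))).smul_left (c : ℂ))
      ).smul_left (1 / 2 : ℂ) |>.smul_right (1 / 2 : ℂ)) (idem_half hB he)
  obtain ⟨m, hm⟩ := trace_idem hE
  refine ⟨m, ?_⟩
  rw [smul_mul_smul_comm, add_mul, mul_add, mul_add, one_mul, mul_one, one_mul, smul_mul_smul_comm, ← map_mul,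
    map_smul, map_add, map_add, map_add, map_smul, map_smul, map_smul,
    show (1 : (Fin d → ℂ) →ₗ[ℂ] (Fin d → ℂ)) = ρ 1 from (map_one ρ).symm] at hm
  change (1 / 2 * (1 / 2) : ℂ) • (ρ.character 1 + (e : ℂ) • ρ.character b +
    ((c : ℂ) • ρ.character a + ((c : ℂ) * e) • ρ.character (a * b))) = m at hm
  simp only [hρ, hva, hvb, hvab, hd, smul_eq_mul] at hm
  have h : ((((dg χ : ℤ) + c * va + e * vb + c * e * vab : ℤ)) : ℂ) = ((4 * m : ℤ) : ℂ) := by
    rw [irr_degree] at hd
    push_cast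
    rw [show ((dg χ : ℕ) : ℂ) = (d : ℂ) from hd]
    linear_combination 4 * hm
  exact_mod_cast h

/-- The multiplicity of a character of a group generated by three commuting involutions. -/
theorem eight_mult (χ : IrrCharacter G) {a b w : G} (ha : a * a = 1) (hb : b * b = 1) (hw : w * w = 1)
    (hab : Commute a b) (haw : Commute a w) (hbw : Commute b w)
    {c e k : ℤ} (hc : c = 1 ∨ c = -1) (he : e = 1 ∨ e = -1) (hk : k = 1 ∨ k = -1) {va vb vw vab vaw vbw vabw : ℤ}
    (hva : (χ : G → ℂ) a = va) (hvb : (χ : G → ℂ) b = vb) (hvw : (χ : G → ℂ) w = vw)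
    (hvab : (χ : G → ℂ) (a * b) = vab) (hvaw : (χ : G → ℂ) (a * w) = vaw) (hvbw : (χ : G → ℂ) (b * w) = vbw)
    (hvabw : (χ : G → ℂ) (a * b * w) = vabw) :
    ∃ m : ℕ, (dg χ : ℤ) + c * va + e * vb + k * vw + c * e * vab + c * k * vaw + e * k * vbw
      + c * e * k * vabw = 8 * m := by
  obtain ⟨d, ρ, -, hρ⟩ := χ.2
  have hd : (χ : G → ℂ) 1 = (d : ℂ) := by rw [← hρ, Representation.char_one, Module.finrank_fin_fun]
  set A := ρ a
  set B := ρ b
  set W := ρ w
  have hA : A * A = 1 := by rw [← map_mul, ha, map_one]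
  have hB : B * B = 1 := by rw [← map_mul, hb, map_one]
  have hW : W * W = 1 := by rw [← map_mul, hw, map_one]
  have hq : ∀ {R T : (Fin d → ℂ) →ₗ[ℂ] (Fin d → ℂ)} (x y : ℂ), Commute R T →
      Commute ((1 / 2 : ℂ) • (1 + x • R)) ((1 / 2 : ℂ) • (1 + y • T)) := fun x y h =>
    (((Commute.one_left _).add_left (((Commute.one_right _).add_right (h.smul_right y)).smul_left x)).smul_left
      (1 / 2 : ℂ)).smul_right (1 / 2 : ℂ)
  have hE := ((idem_half hA hc).mul_of_commute (hq _ _ (hab.map ρ)) (idem_half hB he)).mul_of_commute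
    (Commute.mul_left (hq _ _ (haw.map ρ)) (hq _ _ (hbw.map ρ))) (idem_half hW hk)
  obtain ⟨m, hm⟩ := trace_idem hE
  refine ⟨m, ?_⟩
  simp only [smul_mul_smul_comm, add_mul, mul_add, one_mul, mul_one, smul_add, smul_smul, map_add, map_smul,
    smul_eq_mul, A, B, W, ← map_mul, show (1 : (Fin d → ℂ) →ₗ[ℂ] (Fin d → ℂ)) = ρ 1 from (map_one ρ).symm] at hm
  have htr : ∀ g, LinearMap.trace ℂ (Fin d → ℂ) (ρ g) = (χ : G → ℂ) g := fun g => congrFun hρ g
  simp only [htr, hva, hvb, hvw, hvab, hvaw, hvbw, hvabw, hd, mul_one, one_mul] at hm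
  have h : ((((dg χ : ℤ) + c * va + e * vb + k * vw + c * e * vab + c * k * vaw + e * k * vbw
      + c * e * k * vabw : ℤ)) : ℂ) = ((8 * m : ℤ) : ℂ) := by
    rw [irr_degree] at hd
    push_cast
    rw [show ((dg χ : ℕ) : ℂ) = (d : ℂ) from hd]
    linear_combination 8 * hm
  exact_mod_cast h

end CfsgSimpleM22
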