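/-
An involution centralising a Sylow subgroup of order seven: joining the blocks at seven and eleven.
-/
import Cfsg.Agent.Lib.SimpleM22.Eleven

set_option autoImplicit false
set_option linter.style.haveILetI false
set_option linter.unusedSectionVars false

namespace CfsgSimpleM22

open Cfsg CfsgLib.CharTheory CfsgSimpleM11
open CfsgLib.SmallSylow (inIdx)

universe u
variable {G : Type u} [Group G] [Fintype G]

/-- A degree compatible with the column at eleven. -/
def ok11 (d : ℕ) : Bool :=
  d % 11 == 0 || ((40320 % d == 0) && ([1, 10, 5, 6] : List ℕ).contains (d % 11))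

theorem ok11_of (hG : IsM22 G) (F : Frame G 11 5) (χ : IrrCharacter G) : ok11 (dg χ) = true := by
  by_cases h : 11 ∣ dg χ
  · simp [ok11, Nat.mod_eq_zero_of_dvd h]
  · have hm := F.B.mem_of_not_dvd F.hC h
    have h40 : dg χ ∣ 40320 := dvd_40320 (dg_dvd' hG χ) h
    simp only [ok11, Bool.or_eq_true, beq_iff_eq, Bool.and_eq_true, List.contains_iff_mem, List.mem_cons,
      List.not_mem_nil, or_false]
    refine Or.inr ⟨Nat.mod_eq_zero_of_dvd h40, ?_⟩
    rcases List.mem_cons.1 hm with e | hm
    · subst e; rw [dg_triv]; exact Or.inl rfl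
    rcases List.mem_append.1 hm with hm | hm
    · rcases F.B.modX χ hm with e | e
      · exact Or.inl e
      · exact Or.inr (Or.inl e)
    · rw [F.B.degY χ hm]
      have := F.B.modf
      rw [F.he] at this
      rcases this with e | e
      · exact Or.inr (Or.inr (Or.inl e))
      · exact Or.inr (Or.inr (Or.inr e))

/-- The candidates for the degrees at seven. -/
def cand7 (e n lo : ℕ) : List ℕ := (candX 7 e n lo).filter ok11

/-- The possible degrees of the block at seven. -/
def lists7 (e n lo : ℕ) : List (List ℕ) :=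
  (multis (cand7 e n lo) (e - 1)).filter fun l => okEta 7 e n (sumX 7 l) && ok11 (fOf 7 l)

theorem cand_mem (hG : IsM22 G) (F : Frame G 11 5) {P : Sylow 7 G} [Fact (Nat.Prime 7)] (B : BL P) {lo : ℕ}
    (hlo : ∀ χ ∈ B.xs, lo ≤ dg χ) :
    ∀ d ∈ B.xs.map (fun χ : IrrCharacter G => dg χ), d ∈ cand7 (inIdx P) (Nat.card (Sylow 7 G)) lo := by
  intro d hd
  obtain ⟨χ, hχ, rfl⟩ := List.mem_map.1 hd
  simp only [cand7, candX, List.mem_filter, Bool.and_eq_true, Bool.or_eq_true, beq_iff_eq, decide_eq_true_eq]
  exact ⟨⟨dg_mem hG (B.xs_ne_triv hχ), ⟨Nat.mod_eq_zero_of_dvd (B.dvdX χ hχ), hlo χ hχ⟩, B.modX χ hχ⟩,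
    ok11_of hG F χ⟩

theorem lists7_mem (hG : IsM22 G) (F : Frame G 11 5) {P : Sylow 7 G} [Fact (Nat.Prime 7)] (B : BL P) {lo : ℕ}
    (hlo : ∀ χ ∈ B.xs, lo ≤ dg χ) :
    ∃ xs' : List (IrrCharacter G), xs'.Perm B.xs ∧
      xs'.map (fun χ : IrrCharacter G => dg χ) ∈ lists7 (inIdx P) (Nat.card (Sylow 7 G)) lo ∧
      fOf 7 (xs'.map fun χ : IrrCharacter G => dg χ) = B.f := by
  obtain ⟨hok, habs⟩ := B.degree hG
  obtain ⟨D', hD', hperm⟩ := exists_mem_multis (cand_mem hG F B hlo)
  rw [List.length_map, show B.xs.length = inIdx P - 1 by have := B.len_xs; omega] at hD'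
  obtain ⟨xs', hxs', hmap⟩ := exists_map_perm (f := fun χ : IrrCharacter G => dg χ) hperm
  have hf : fOf 7 (xs'.map fun χ : IrrCharacter G => dg χ) = B.f := by
    rw [hmap, fOf, sumX_perm 7 hperm]; exact habs
  refine ⟨xs', hxs', ?_, hf⟩
  rw [lists7, List.mem_filter, Bool.and_eq_true]
  refine ⟨hmap ▸ hD', ?_, ?_⟩
  · rw [hmap, sumX_perm 7 hperm]; exact hok
  · rw [hf]
    obtain ⟨η, hη⟩ := B.exists_eta
    exact B.degY η hη ▸ ok11_of hG F η

/-- The values available to a degree prime to eleven. -/
def avail (E : List (ℕ × ℤ)) (q d : ℕ) : List ℤ :=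
  ((E.filter fun a => a.1 == d).map Prod.snd).filter fun v => (v - (d : ℤ)) % (q : ℤ) == 0

/-- A slot of the block at seven. -/
def slot7 (E : List (ℕ × ℤ)) (C q : ℕ) (s : ℤ) (t d : ℕ) : Slot :=
  if d % 11 == 0 then ⟨s, 0, t, dom q C d⟩ else ⟨s, 0, 0, avail E q d⟩

/-- The congruence at the exceptional characters. -/
def etaMod (e : ℕ) : ℕ := if e == 6 then 28 else 4

/-- The multiplicities fit. -/
def countOk (E : List (ℕ × ℤ)) (e : ℕ) (l : List ℕ) (f : ℕ) : Bool :=
  (l ++ List.replicate (6 / e) f).all fun d =>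
    d % 11 == 0 || decide ((l ++ List.replicate (6 / e) f).count d ≤ (E.map Prod.fst).count d)

/-- A row at eleven extends to a block at seven with one of the given lists of degrees. -/
def joinsL (L : List (List ℕ)) (e C : ℕ) (D : List ℕ) (x : List ℤ) : Bool :=
  let E := expand 2 (fOf 11 D) D x
  L.any fun l =>
    countOk E e l (fOf 7 l) &&
    !(sols ((l.map fun d => slot7 E C 28 (sgn 7 d) 1 d) ++
        [slot7 E C (etaMod e) (sgE 7 e (fOf 7 l)) (6 / e) (fOf 7 l)]) 1 0
      ((C : ℤ) - 1 - (E.map fun a => a.2 * a.2).sum)).isEmpty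

/-- A row at eleven extends to the block at seven. -/
def joins (e n C : ℕ) (D : List ℕ) (x : List ℤ) : Bool := joinsL (lists7 e n 14) e C D x

variable [Fact (Nat.Prime 7)] {P : Sylow 7 G}

theorem lo_of_involution (hG : IsM22 G) (hP : Nat.card P = 7) (B : BL P) {t : G} (ht : orderOf t = 2)
    (htC : t ∈ Subgroup.centralizer ((P : Subgroup G) : Set G)) : ∀ χ ∈ B.xs, 14 ≤ dg χ := by
  intro χ hχ
  have hne := B.xs_ne_triv hχ
  obtain ⟨v, hv, -, hlo, -, hlt⟩ := involution_int hG χ ht
  have hdiv := B.value_mod hG (by norm_num) hP ht htC hχ hv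
  have h1 := hlt hne
  have ht1 : t ≠ 1 := fun e => by rw [e, orderOf_one] at ht; norm_num at ht
  have h2 : v ≠ -(dg χ : ℤ) := fun e => neg_degree_ne hG hne ht1 (by rw [hv, e]; push_cast; ring)
  omega

/-- The row of an involution centralising a Sylow subgroup of order seven extends to its block. -/
theorem joins_of_involution (hG : IsM22 G) (F : Frame G 11 5) (hFt : F.t = 2) (hP : Nat.card P = 7) {e n : ℕ}
    (he : inIdx P = e) (hn : Nat.card (Sylow 7 G) = n) {t : G} (ht : orderOf t = 2)
    (htC : t ∈ Subgroup.centralizer ((P : Subgroup G) : Set G)) :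
    joins e n (cc t) F.D (F.row t) = true := by
  classical
  subst he hn
  obtain ⟨B⟩ := exists_BL (by norm_num) P hP (two_le_e hG P hP)
  obtain ⟨xs', hxs', hl, hf⟩ := lists7_mem hG F B (lo_of_involution hG hP B ht htC)
  obtain ⟨η, hη⟩ := B.exists_eta
  have hno11 : ¬ 11 ∣ orderOf t := not_dvd_two (by norm_num) ht
  have hno7 : ¬ 7 ∣ orderOf t := not_dvd_two (by norm_num) ht
  have hE : ((F.B.xs ++ F.B.ys).map fun χ : IrrCharacter G => (dg χ, ival χ t)) =
      expand 2 (fOf 11 F.D) F.D (F.row t) := by
    rw [← hFt]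
    exact F.expand_eq hG hno11 fun χ => by obtain ⟨v, hv, -⟩ := involution_int hG χ ht; exact ⟨v, hv⟩
  set E := expand 2 (fOf 11 F.D) F.D (F.row t) with hEdef
  set L11 := F.B.xs ++ F.B.ys with hL11
  set L7 := xs' ++ B.ys with hL7
  have hnd7 : (triv G :: L7).Nodup := (((hxs'.append_right B.ys).cons (triv G)).nodup_iff).2 B.nodup
  have hsub : ∀ χ ∈ L7, ¬ 11 ∣ dg χ → χ ∈ L11 := fun χ hχ h =>
    (List.mem_cons.1 (F.B.mem_of_not_dvd F.hC h)).resolve_left fun e => (List.nodup_cons.1 hnd7).1 (e ▸ hχ)
  have hdivs : inIdx P ∣ 6 := e_dvd hG (by norm_num) P hP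
  have hys : B.ys.length = 6 / inIdx P :=
    (Nat.div_eq_of_eq_mul_left (inIdx_pos P) (B.len_ys).symm).symm
  have hdegY : B.ys.map (fun χ : IrrCharacter G => dg χ) = List.replicate (6 / inIdx P) B.f := by
    rw [← hys, List.map_congr_left (g := fun _ => B.f) fun χ hχ => B.degY χ hχ, List.map_const']
  rw [joins, joinsL, List.any_eq_true]
  refine ⟨xs'.map fun χ : IrrCharacter G => dg χ, hl, ?_⟩
  rw [← hEdef, hf, Bool.and_eq_true]
  constructor
  · rw [countOk, ← hdegY, ← List.map_append, List.all_eq_true]
    intro d hd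
    rw [Bool.or_eq_true, beq_iff_eq, decide_eq_true_eq]
    by_cases h0 : d % 11 = 0
    · exact Or.inl h0
    · right
      have hfst : E.map Prod.fst = L11.map fun χ : IrrCharacter G => dg χ := by
        rw [← hE, List.map_map]; rfl
      rw [hfst, List.count_eq_countP, List.count_eq_countP, List.countP_map, List.countP_map, List.countP_eq_length_filter,
        List.countP_eq_length_filter]
      refine (List.Nodup.subperm ((List.nodup_cons.1 hnd7).2.filter _) ?_).length_le
      intro χ hχ
      obtain ⟨h1, h2⟩ := List.mem_filter.1 hχ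
      have h3 : dg χ = d := by simpa using h2
      exact List.mem_filter.2 ⟨hsub χ h1 fun h => h0 (h3 ▸ Nat.mod_eq_zero_of_dvd h), h2⟩
  · rw [Bool.not_eq_true', List.isEmpty_eq_false_iff]
    refine List.ne_nil_of_mem (a := (xs'.map fun χ : IrrCharacter G => ival χ t) ++ [ival η t]) (mem_sols ?_ ?_ ?_ ?_)
    · have hslot : ∀ (χ : IrrCharacter G) (q : ℕ) (s : ℤ) (m : ℕ), χ ∈ L7 → 0 < q → (q : ℤ) ∣ ival χ t - dg χ →
          ival χ t ∈ (slot7 E (cc t) q s m (dg χ)).dom := by
        intro χ q s m hχ hq hdiv
        unfold slot7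
        split
        · exact mem_dom_involution hG (fun e => (List.nodup_cons.1 hnd7).1 (e ▸ hχ)) ht hq (ival_inv hG χ ht) hdiv
        · rename_i h0
          simp only [avail, List.mem_filter, List.mem_map, beq_iff_eq]
          refine ⟨⟨(dg χ, ival χ t), ⟨?_, rfl⟩, rfl⟩, Int.emod_eq_zero_of_dvd hdiv⟩
          rw [← hE]
          exact List.mem_map.2 ⟨χ, hsub χ hχ fun h => h0 (by simp [Nat.mod_eq_zero_of_dvd h]), rfl⟩
      refine List.rel_append ?_ (List.Forall₂.cons ?_ List.Forall₂.nil)
      · rw [List.map_map, List.forall₂_map_left_iff, List.forall₂_map_right_iff, List.forall₂_same]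
        intro χ hχ
        refine hslot χ 28 _ _ (List.mem_append_left _ hχ) (by norm_num) ?_
        exact B.value_mod hG (by norm_num) hP ht htC (hxs'.subset hχ) (ival_inv hG χ ht)
      · have hfη : dg η = B.f := B.degY η hη
        rw [← hfη]
        refine hslot η _ _ _ (List.mem_append_right _ hη) (by unfold etaMod; split_ifs <;> norm_num) ?_
        unfold etaMod
        split_ifs with h6
        · rw [beq_iff_eq] at h6
          obtain ⟨x, hx, hx1⟩ := CfsgLib.SmallSylow.exists_mem_ne P hP
          have hs := B.sumY x hx hx1 t htC hno7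
          obtain ⟨a, ha⟩ := List.length_eq_one_iff.1 (show B.ys.length = 1 by rw [hys, h6])
          have hη' : η = a := by simpa [ha] using hη
          subst hη'
          rw [ha, List.map_singleton, List.sum_singleton] at hs
          refine value_mod_of hG (by norm_num) hP hx hx1 ht htC η hs ?_ (ival_inv hG η ht)
          have hm := B.modf
          rw [h6] at hm
          rw [hfη, h6, sgE]
          rcases hm with e | e
          · rw [if_pos (by rw [e]), Int.modEq_iff_dvd]; omega
          · rw [if_neg (by rw [e]; norm_num), Int.modEq_iff_dvd]; omega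
        · obtain ⟨v, hv, h4, -⟩ := involution_int hG η ht
          rw [ival_eq hv]
          push_cast
          omega
    · have h := B.rel η hη t hno7
      rw [ival_inv hG η ht, ← (hxs'.map fun χ : IrrCharacter G => (sgn 7 (dg χ) : ℂ) * (χ : G → ℂ) t).sum_eq,
        List.map_congr_left fun χ _ => by rw [ival_inv hG χ ht]] at h
      have key : ∀ l : List (IrrCharacter G), ((linSum ((l.map fun χ : IrrCharacter G =>
          slot7 E (cc t) 28 (sgn 7 (dg χ)) 1 (dg χ)) ++
          [slot7 E (cc t) (etaMod (inIdx P)) (sgE 7 (inIdx P) B.f) (6 / inIdx P) B.f])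
          ((l.map fun χ : IrrCharacter G => ival χ t) ++ [ival η t]) : ℤ) : ℂ) =
          (l.map fun χ : IrrCharacter G => (sgn 7 (dg χ) : ℂ) * (ival χ t : ℂ)).sum +
            (sgE 7 (inIdx P) B.f : ℂ) * (ival η t : ℂ) := by
        have hs : ∀ C q s m d, (slot7 E C q s m d).s = s := fun C q s m d => by unfold slot7; split <;> rfl
        intro l
        induction l with
        | nil => simp [linSum, hs]
        | cons χ r ih =>
          simp only [List.map_cons, List.cons_append, linSum, List.sum_cons, Int.cast_add, Int.cast_mul, hs] at ih ⊢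
          rw [ih]
          ring
      have : ((1 + linSum ((xs'.map fun χ : IrrCharacter G => dg χ).map (fun d => slot7 E (cc t) 28 (sgn 7 d) 1 d) ++
          [slot7 E (cc t) (etaMod (inIdx P)) (sgE 7 (inIdx P) B.f) (6 / inIdx P) B.f])
          ((xs'.map fun χ : IrrCharacter G => ival χ t) ++ [ival η t]) : ℤ) : ℂ) = ((0 : ℤ) : ℂ) := by
        rw [List.map_map, Int.cast_add, Int.cast_one, Int.cast_zero]
        erw [key]
        linear_combination h
      exact_mod_cast this
    · have hw : ∀ C q s m d, (slot7 E C q s m d).w = 0 := fun C q s m d => by unfold slot7; split <;> rfl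
      have key : ∀ (a : List ℕ) (b : List ℤ), quadSum ((a.map fun d => slot7 E (cc t) 28 (sgn 7 d) 1 d) ++
          [slot7 E (cc t) (etaMod (inIdx P)) (sgE 7 (inIdx P) B.f) (6 / inIdx P) B.f]) b = 0 := by
        intro a
        induction a with
        | nil => intro b; rcases b with _ | ⟨x, _ | ⟨y, r⟩⟩ <;> simp [quadSum, hw]
        | cons d r ih =>
          intro b
          rcases b with _ | ⟨x, b⟩
          · simp [quadSum]
          · simp only [List.map_cons, List.cons_append, quadSum, hw, zero_mul, zero_add]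
            exact ih b
      rw [key]
      norm_num
    · -- the norm
      have hm : ∀ C q s m d, ((slot7 E C q s m d).m : ℤ) = if d % 11 = 0 then (m : ℤ) else 0 := fun C q s m d => by
        unfold slot7; by_cases h : d % 11 = 0 <;> simp [h]
      set φ : IrrCharacter G → ℤ := fun χ => if dg χ % 11 = 0 then ival χ t * ival χ t else 0 with hφ
      have key : ∀ l : List (IrrCharacter G), normSum ((l.map fun χ : IrrCharacter G =>
          slot7 E (cc t) 28 (sgn 7 (dg χ)) 1 (dg χ)) ++
          [slot7 E (cc t) (etaMod (inIdx P)) (sgE 7 (inIdx P) B.f) (6 / inIdx P) B.f])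
          ((l.map fun χ : IrrCharacter G => ival χ t) ++ [ival η t]) = ((l ++ B.ys).map φ).sum := by
        intro l
        induction l with
        | nil =>
          simp only [List.map_nil, List.nil_append, normSum, add_zero, hm]
          rw [List.map_congr_left (g := fun _ => if B.f % 11 = 0 then ival η t * ival η t else 0) fun η' hη' => by
            have h := B.agree η' hη' η hη t hno7
            rw [ival_inv hG η' ht, ival_inv hG η ht] at h
            simp only [hφ, B.degY η' hη', show ival η' t = ival η t by exact_mod_cast h]]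
          rw [List.map_const', List.sum_replicate, hys, nsmul_eq_mul]
          split_ifs <;> simp [pow_two]
        | cons χ r ih =>
          simp only [List.map_cons, List.cons_append, normSum, List.sum_cons, hm] at ih ⊢
          rw [ih]
          simp only [hφ]
          split_ifs <;> simp
      rw [List.map_map]
      refine le_of_eq_of_le (key xs') ?_
      rw [← hE, List.map_map]
      set M := L7.filter fun χ : IrrCharacter G => decide (dg χ % 11 = 0) with hM
      have e1 : (L7.map φ).sum = (M.map fun χ : IrrCharacter G => ival χ t ^ 2).sum := by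
        rw [hM]
        clear_value L7
        clear hnd7 hsub hL7 hM M
        induction L7 with
        | nil => rfl
        | cons χ r ih =>
          by_cases h : dg χ % 11 = 0 <;> simp [hφ, h, pow_two] at ih ⊢ <;> linarith
      rw [e1]
      have hdis : ∀ χ ∈ L11, ∀ ψ ∈ M, χ ≠ ψ := fun χ hχ ψ hψ e => by
        subst e
        obtain ⟨-, h⟩ := List.mem_filter.1 hψ
        exact F.B.not_dvd_dg (by norm_num) (by rw [F.he]; norm_num) (List.mem_cons_of_mem _ hχ)
          (Nat.dvd_of_mod_eq_zero (by simpa using h))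
      have hnd : (triv G :: (L11 ++ M)).Nodup := by
        rw [List.nodup_cons, List.nodup_append]
        refine ⟨fun h => ?_, (List.nodup_cons.1 F.B.nodup).2, (List.nodup_cons.1 hnd7).2.filter _, hdis⟩
        rcases List.mem_append.1 h with h | h
        · exact (List.nodup_cons.1 F.B.nodup).1 h
        · exact (List.nodup_cons.1 hnd7).1 (List.mem_of_mem_filter h)
      have hb := norm_le (s := (triv G :: (L11 ++ M)).toFinset) (g := t) (fun χ => ival χ t)
        (fun χ _ => ival_inv hG χ ht)
      rw [List.sum_toFinset _ hnd, List.map_cons, List.sum_cons, ival_triv, List.map_append, List.sum_append] at hb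
      have e2 : ((fun a : ℕ × ℤ => a.2 * a.2) ∘ fun χ : IrrCharacter G => (dg χ, ival χ t)) =
          fun χ : IrrCharacter G => ival χ t ^ 2 := funext fun χ => (pow_two _).symm
      rw [e2]
      linarith

end CfsgSimpleM22
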