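/-
The possibilities for the normaliser of a Sylow subgroup of order seven.
-/
import Cfsg.Agent.Lib.SimpleM22.SevenJoin

set_option autoImplicit false
set_option linter.style.haveILetI false
set_option linter.unusedSectionVars false

namespace CfsgSimpleM22

open Cfsg CfsgLib.CharTheory CfsgSimpleM11
open CfsgLib.SmallSylow (inIdx)

universe u
variable {G : Type u} [Group G] [Fintype G]

instance : Fact (Nat.Prime 7) := ⟨by norm_num⟩

/-- An element of order eleven is self-centralising. -/
theorem cent11 (hG : IsM22 G) {a : G} (ha : orderOf a = 11) : cc a = 11 := by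
  have hle : IsPGroup 11 (Subgroup.zpowers a) :=
    IsPGroup.of_card (n := 1) (by rw [Nat.card_zpowers, ha, pow_one])
  obtain ⟨P, hP⟩ := hle.exists_le_sylow
  have hcard : Nat.card (P : Subgroup G) = 11 := card_sylow11 hG P
  have hz : Subgroup.zpowers a = (P : Subgroup G) :=
    Subgroup.eq_of_le_of_card_ge hP (by rw [Nat.card_zpowers, ha, hcard])
  have hC := (eleven hG P).1
  have : Subgroup.centralizer ({a} : Set G) = Subgroup.centralizer ((P : Subgroup G) : Set G) :=
    CfsgLib.SmallSylow.centralizer_eq P hcard (hz ▸ Subgroup.mem_zpowers a)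
      (fun e => by rw [e, orderOf_one] at ha; norm_num at ha)
  show Nat.card (Subgroup.centralizer ({a} : Set G)) = 11
  rw [this, hC, hcard]

theorem not_eleven_dvd (hG : IsM22 G) {g : G} (hg1 : g ≠ 1) (hg : ¬ 11 ∣ orderOf g) : ¬ 11 ∣ cc g := by
  intro h
  obtain ⟨a, ha, hao⟩ := exists_order (K := Subgroup.centralizer ({g} : Set G)) (by norm_num) h
  have hm : g ∈ Subgroup.centralizer ({a} : Set G) :=
    Subgroup.mem_centralizer_singleton_iff.mpr (Subgroup.mem_centralizer_singleton_iff.mp ha).symm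
  have := Subgroup.orderOf_dvd_natCard _ hm
  rw [show Nat.card (Subgroup.centralizer ({a} : Set G)) = 11 from cent11 hG hao] at this
  rcases (Nat.dvd_prime (by norm_num)).mp this with e | e
  · exact hg1 (orderOf_eq_one_iff.mp e)
  · exact hg (by rw [e])

/-- The possibilities for the number of Sylow subgroups of order seven and the inertial index. -/
abbrev sevenList : List (ℕ × ℕ) := [(330, 3), (1408, 3), (2640, 3), (2640, 6), (21120, 3)]

theorem cases7_aux : ∀ e ∈ ([2, 3, 6] : List ℕ), ((List.range 9052).all fun k =>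
    (63360 % ((7 * k + 1) * e) != 0) || (k == 0) || (63360 / ((7 * k + 1) * e) % 11 == 0) ||
      sevenList.contains (7 * k + 1, e) ||
      (lists7 e (7 * k + 1) (if 63360 / ((7 * k + 1) * e) % 2 == 0 then 14 else 2)).isEmpty) = true := by
  decide +kernel

theorem seven_cases (hG : IsM22 G) (F : Frame G 11 5) (P : Sylow 7 G) :
    ∃ H : ℕ, Nat.card (Subgroup.centralizer ((P : Subgroup G) : Set G)) = 7 * H ∧
      63360 = H * inIdx P * Nat.card (Sylow 7 G) ∧ (Nat.card (Sylow 7 G), inIdx P) ∈ sevenList := by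
  have hP : Nat.card P = 7 := card_sylow7 hG P
  obtain ⟨heq, ⟨H, hH⟩, he2, hed, hmod, hn1⟩ := setting hG (by norm_num) P hP
  obtain ⟨n, hn⟩ : ∃ n, Nat.card (Sylow 7 G) = n := ⟨_, rfl⟩
  obtain ⟨e, he⟩ : ∃ e, inIdx P = e := ⟨_, rfl⟩
  rw [he, hn] at heq
  rw [hn] at hmod hn1 ⊢
  rw [he] at he2 hed ⊢
  have h63 : 63360 = H * e * n := by
    rw [hH] at heq
    apply Nat.eq_of_mul_eq_mul_left (show 0 < 7 by norm_num)
    linarith
  refine ⟨H, hH, h63, ?_⟩
  have hmem : e ∈ ([2, 3, 6] : List ℕ) := by
    have := Nat.le_of_dvd (by norm_num) hed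
    interval_cases e <;> simp_all
  have h11 : ¬ 11 ∣ H := by
    intro h
    obtain ⟨a, haC, hao⟩ := exists_order (K := Subgroup.centralizer ((P : Subgroup G) : Set G)) (q := 11)
      (by norm_num) (hH ▸ dvd_mul_of_dvd_right h 7)
    have hle : (P : Subgroup G) ≤ Subgroup.centralizer ({a} : Set G) := fun x hx =>
      Subgroup.mem_centralizer_singleton_iff.mpr (Subgroup.mem_centralizer_iff.mp haC x hx)
    have := Subgroup.card_dvd_of_le hle
    rw [show Nat.card (P : Subgroup G) = 7 from hP,
      show Nat.card (Subgroup.centralizer ({a} : Set G)) = 11 from cent11 hG hao] at this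
    norm_num at this
  obtain ⟨k, hk⟩ : ∃ k, n = 7 * k + 1 := ⟨n / 7, by omega⟩
  have hle : n ≤ 63360 := Nat.le_of_dvd (by norm_num) (Dvd.intro_left _ h63.symm)
  have h := List.all_eq_true.1 (cases7_aux e hmem) k (List.mem_range.2 (by omega))
  rw [← hk] at h
  have hpos : 0 < n * e := Nat.mul_pos (by omega) (by omega)
  have hH' : 63360 / (n * e) = H := Nat.div_eq_of_eq_mul_left hpos (by rw [h63]; ring)
  rw [hH'] at h
  simp only [Bool.or_eq_true, bne_iff_ne, ne_eq, beq_iff_eq, List.contains_iff_mem, List.isEmpty_iff] at h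
  rcases h with (((h | h) | h) | h) | h
  · exact absurd (Nat.mod_eq_zero_of_dvd (Dvd.intro_left H (by rw [h63]; ring))) h
  · omega
  · exact absurd (Nat.dvd_of_mod_eq_zero h) h11
  · exact h
  · exfalso
    obtain ⟨B⟩ := exists_BL (by norm_num) P hP (two_le_e hG P hP)
    have hlo : ∀ χ ∈ B.xs, (if H % 2 == 0 then 14 else 2) ≤ dg χ := by
      intro χ hχ
      split_ifs with hev
      · obtain ⟨t, htC, ht⟩ := exists_involution (H := Subgroup.centralizer ((P : Subgroup G) : Set G)) (by
          rw [hH]; exact dvd_mul_of_dvd_right (Nat.dvd_of_mod_eq_zero (by simpa using hev)) _)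
        exact lo_of_involution hG hP B ht htC χ hχ
      · exact two_le_dg hG (B.xs_ne_triv hχ)
    obtain ⟨xs', -, hm, -⟩ := lists7_mem hG F B hlo
    rw [he, hn] at hm
    simp only [beq_iff_eq] at h hm
    rw [h] at hm
    exact absurd hm List.not_mem_nil

end CfsgSimpleM22
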