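/-
Rational characters in the column of an element of order eleven.
-/
import Cfsg.Agent.Lib.SimpleM22.SevenCases
import Cfsg.Agent.Lib.SimpleM11.Rational

set_option autoImplicit false
set_option linter.style.haveILetI false
set_option linter.unusedSectionVars false

namespace CfsgSimpleM22

open Cfsg CfsgLib.CharTheory CfsgSimpleM11

universe u
variable {G : Type u} [Group G] [Fintype G]

/-- A rational character of the column whose degree occurs once is integral away from the elements of order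
divisible by eleven. -/
theorem int_of_unique (hG : IsM22 G) (F : Frame G 11 5) {χ : IrrCharacter G} (hχ : χ ∈ F.B.xs)
    (huniq : ∀ ψ ∈ F.B.xs ++ F.B.ys, dg ψ = dg χ → ψ = χ) {g : G} (hg : ¬ 11 ∣ orderOf g) :
    ∃ v : ℤ, (χ : G → ℂ) g = v := by
  have hxo := CfsgLib.SmallSylow.orderOf_mem F.P F.hP F.hx F.hx1
  have hreg : g ^ 40320 = 1 :=
    orderOf_dvd_iff_pow_eq_one.mp (dvd_40320 (card_eq hG ▸ orderOf_dvd_natCard g) hg)
  refine rational_int_of_invariant (isCharacter_of_irr χ.2) g fun m hm => ?_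
  rw [card_eq hG] at hm
  obtain ⟨k, hk1, hk2⟩ := Nat.chineseRemainder (show Nat.Coprime 40320 11 by norm_num) m 1
  have hk : k.Coprime (Nat.card G) := by
    rw [card_eq hG, show 443520 = 40320 * 11 from rfl]
    rw [show 443520 = 40320 * 11 from rfl] at hm
    refine Nat.Coprime.mul_right ?_ ?_
    · rw [Nat.Coprime, Nat.gcd_comm, Nat.gcd_rec, hk1, ← Nat.gcd_rec, Nat.gcd_comm]
      exact hm.coprime_mul_right_right
    · rw [Nat.Coprime, Nat.gcd_comm, Nat.gcd_rec, hk2, ← Nat.gcd_rec]
      norm_num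
  have hxk : F.x ^ k = F.x := by rw [pow_red hxo (show k % 11 = 1 % 11 from hk2), pow_one]
  have he : powIrr hk χ = χ := by
    have h1 : (powIrr hk χ : G → ℂ) 1 = (χ : G → ℂ) 1 := by
      show (χ : G → ℂ) (1 ^ k) = _
      rw [one_pow]
    rw [irr_degree, irr_degree] at h1
    have hd : dg (powIrr hk χ) = dg χ := by exact_mod_cast h1
    have hnd : ¬ 11 ∣ dg χ :=
      F.B.not_dvd_dg (by norm_num) (by rw [F.he]; norm_num) (List.mem_cons_of_mem _ (List.mem_append_left _ hχ))
    have hm2 := F.B.mem_of_not_dvd F.hC (hd ▸ hnd : ¬ 11 ∣ dg (powIrr hk χ))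
    rcases List.mem_cons.1 hm2 with e | hm2
    · exfalso
      have := two_le_dg hG (F.B.xs_ne_triv hχ)
      rw [e, dg_triv] at hd
      omega
    · exact huniq _ hm2 hd
  rw [pow_eq_pow_of_modEq hk1.symm hreg]
  exact congrArg (fun ψ : IrrCharacter G => (ψ : G → ℂ) g) he

end CfsgSimpleM22
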