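/-
An involution commuting with an element of order seven: the lists of rows.
-/
import Cfsg.Agent.Lib.SimpleM22.SevenJoin

set_option autoImplicit false

namespace CfsgSimpleM22

/-- The rows with centraliser of order 56. -/
def tbl56 : List (List ℕ × List ℤ) := [
  ([10, 10, 10, 45], [-2, -2, 2, -3, 0]),
  ([10, 10, 10, 45], [-2, 2, -2, -3, 0]),
  ([10, 10, 10, 45], [2, -2, -2, -3, 0]),
  ([10, 10, 12, 12], [-2, 2, 0, 0, 1]),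
  ([10, 10, 12, 12], [2, -2, 0, 0, 1]),
  ([10, 10, 32, 56], [-2, 2, 0, 0, 1]),
  ([10, 10, 32, 56], [2, -2, 0, 0, 1]),
  ([10, 10, 120, 144], [-2, 2, 0, 0, 1]),
  ([10, 10, 120, 144], [2, -2, 0, 0, 1])]

/-- The rows with centraliser of order 168. -/
def tbl168 : List (List ℕ × List ℤ) := [
  ([10, 10, 10, 45], [-2, -2, 2, -3, 0]),
  ([10, 10, 10, 45], [-2, 2, -2, -3, 0]),
  ([10, 10, 10, 45], [2, -2, -2, -3, 0]),
  ([10, 10, 12, 12], [-2, 2, 0, 0, 1]),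
  ([10, 10, 12, 12], [2, -2, 0, 0, 1]),
  ([10, 10, 32, 56], [-2, 2, 0, 0, 1]),
  ([10, 10, 32, 56], [2, -2, 0, 0, 1]),
  ([10, 10, 120, 144], [-2, 2, 0, 0, 1]),
  ([10, 10, 120, 144], [2, -2, 0, 0, 1]),
  ([10, 12, 12, 45], [-6, -4, -4, -3, -4]),
  ([10, 12, 12, 45], [-6, -4, 4, -3, 4]),
  ([10, 12, 12, 45], [-6, 4, -4, -3, 4]),
  ([10, 45, 120, 144], [2, -3, -8, 0, 4]),
  ([12, 21, 32, 45], [-4, -7, 0, -3, 1]),
  ([12, 32, 120, 144], [-4, -8, 4, 0, 1]),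
  ([12, 32, 120, 144], [4, 0, 8, 0, -3]),
  ([12, 32, 120, 144], [4, 8, -4, 0, 1]),
  ([12, 56, 56, 120], [4, 0, 0, 8, -3]),
  ([32, 32, 252, 320], [-4, -4, 0, -8, 1]),
  ([32, 32, 252, 320], [4, 4, 0, 8, 1])]

/-- The rows with centraliser of order 448. -/
def tbl448 : List (List ℕ × List ℤ) := [
  ([10, 10, 10, 45], [-2, -2, 2, -3, 0]),
  ([10, 10, 10, 45], [-2, 2, -2, -3, 0]),
  ([10, 10, 10, 45], [2, -2, -2, -3, 0]),
  ([10, 10, 12, 12], [-2, 2, 0, 0, 1]),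
  ([10, 10, 12, 12], [2, -2, 0, 0, 1]),
  ([10, 10, 32, 56], [-2, 2, 0, 0, 1]),
  ([10, 10, 32, 56], [2, -2, 0, 0, 1]),
  ([10, 10, 120, 144], [-2, 2, 0, 0, 1]),
  ([10, 10, 120, 144], [2, -2, 0, 0, 1]),
  ([10, 12, 12, 45], [-6, -4, -4, -3, -4]),
  ([10, 12, 12, 45], [-6, -4, 4, -3, 4]),
  ([10, 12, 12, 45], [-6, 4, -4, -3, 4]),
  ([10, 12, 12, 45], [-2, 0, 0, 9, 12]),
  ([10, 12, 12, 120], [-6, -4, -4, -8, -7]),
  ([10, 12, 12, 120], [-6, 4, 4, 8, -7]),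
  ([10, 12, 45, 120], [6, 4, 9, 8, 0]),
  ([10, 21, 45, 45], [-6, -7, -15, -3, -4]),
  ([10, 21, 45, 45], [-6, -7, -3, -15, -4]),
  ([10, 21, 45, 120], [2, -7, 9, 8, -7]),
  ([10, 32, 45, 56], [-2, 0, 9, 0, 12]),
  ([10, 45, 120, 144], [-2, 5, -8, -8, 8]),
  ([10, 45, 120, 144], [-2, 5, 8, -8, -8]),
  ([10, 45, 120, 144], [-2, 5, 8, 8, 8]),
  ([10, 45, 120, 144], [-2, 9, 0, 0, 12]),
  ([10, 45, 120, 144], [-2, 9, 16, 0, -4]),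
  ([10, 45, 120, 144], [2, -7, -16, -8, 0]),
  ([10, 45, 120, 144], [2, -3, -8, 0, 4]),
  ([10, 45, 120, 144], [2, 1, 0, -8, -8]),
  ([10, 45, 120, 144], [2, 1, 0, 8, 8]),
  ([10, 45, 120, 144], [6, -11, -8, 8, 0]),
  ([10, 45, 120, 144], [6, -7, 0, 16, 4]),
  ([12, 21, 32, 45], [-4, -7, 0, -3, 1]),
  ([12, 32, 120, 144], [4, 0, 8, 0, -3]),
  ([12, 56, 56, 120], [4, 0, 0, 8, -3])]

/-- The rows with centraliser of order 840. -/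
def tbl840 : List (List ℕ × List ℤ) := [
  ([12, 21, 32, 32], [-8, -7, -8, 8, 0]),
  ([12, 21, 32, 32], [-8, -7, 8, -8, 0]),
  ([12, 21, 32, 32], [-4, -7, -8, 0, -12]),
  ([12, 21, 32, 32], [-4, -7, 0, -8, -12]),
  ([12, 21, 32, 32], [8, -7, 8, 8, 0]),
  ([12, 32, 32, 45], [-4, -16, 0, -15, 2]),
  ([12, 32, 32, 45], [-4, 0, -16, -15, 2])]

/-- The rows with centraliser of order 1344. -/
def tbl1344 : List (List ℕ × List ℤ) := [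
  ([10, 10, 10, 45], [-2, -2, 2, -3, 0]),
  ([10, 10, 10, 45], [-2, 2, -2, -3, 0]),
  ([10, 10, 10, 45], [2, -2, -2, -3, 0]),
  ([10, 10, 12, 12], [-2, 2, 0, 0, 1]),
  ([10, 10, 12, 12], [2, -2, 0, 0, 1]),
  ([10, 10, 32, 56], [-2, 2, 0, 0, 1]),
  ([10, 10, 32, 56], [2, -2, 0, 0, 1]),
  ([10, 10, 120, 144], [-2, 2, 0, 0, 1]),
  ([10, 10, 120, 144], [2, -2, 0, 0, 1]),
  ([10, 12, 12, 45], [-6, -4, -4, -3, -4]),
  ([10, 12, 12, 45], [-6, -4, 4, -3, 4]),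
  ([10, 12, 12, 45], [-6, 4, -4, -3, 4]),
  ([10, 12, 12, 45], [-6, 4, 8, -3, 16]),
  ([10, 12, 12, 45], [-6, 8, 4, -3, 16]),
  ([10, 12, 12, 45], [-2, 0, 0, 9, 12]),
  ([10, 12, 12, 120], [-6, -4, -4, -8, -7]),
  ([10, 12, 12, 120], [-6, 4, 4, 8, -7]),
  ([10, 12, 45, 120], [6, 4, 9, 8, 0]),
  ([10, 21, 45, 45], [-6, -7, -15, -3, -4]),
  ([10, 21, 45, 45], [-6, -7, -3, -15, -4]),
  ([10, 21, 45, 120], [-6, -7, -15, -8, -7]),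
  ([10, 21, 45, 120], [2, -7, 9, 8, -7]),
  ([10, 32, 45, 56], [-2, 0, 9, 0, 12]),
  ([10, 45, 120, 144], [-6, 9, -16, -24, 8]),
  ([10, 45, 120, 144], [-6, 21, 8, 0, 20]),
  ([10, 45, 120, 144], [-2, -3, -24, -24, 0]),
  ([10, 45, 120, 144], [-2, -3, -8, -24, -16]),
  ([10, 45, 120, 144], [-2, -3, 8, 24, 16]),
  ([10, 45, 120, 144], [-2, -3, 24, 24, 0]),
  ([10, 45, 120, 144], [-2, 9, 0, 0, 12]),
  ([10, 45, 120, 144], [-2, 9, 16, 0, -4]),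
  ([10, 45, 120, 144], [2, -3, -8, 0, 4]),
  ([10, 45, 120, 144], [6, -15, -16, 0, -4]),
  ([10, 45, 120, 144], [6, -3, 8, 24, 8]),
  ([12, 21, 32, 45], [-4, -7, 0, -3, 1]),
  ([12, 32, 32, 45], [-4, -16, 0, -15, 2]),
  ([12, 32, 32, 45], [-4, 0, -16, -15, 2]),
  ([12, 32, 120, 144], [-8, -16, -16, -24, 1]),
  ([12, 32, 120, 144], [0, 0, -24, -24, 1]),
  ([12, 32, 120, 144], [0, 0, 24, 24, 1]),
  ([12, 32, 120, 144], [4, 0, 8, 0, -3]),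
  ([12, 32, 120, 144], [8, 16, 16, 24, 1]),
  ([12, 56, 56, 120], [4, 0, 0, 8, -3]),
  ([21, 120, 210, 210], [-7, 8, -14, 14, 0]),
  ([21, 120, 210, 210], [-7, 8, 14, -14, 0]),
  ([45, 56, 120, 210], [-3, 0, -16, -14, 0]),
  ([45, 120, 120, 210], [-3, -16, 0, -14, 0]),
  ([45, 120, 120, 210], [-3, 0, -16, -14, 0]),
  ([45, 120, 144, 210], [-3, -16, 0, -14, 0])]

/-- The rows with centraliser of order 2016. -/
def tbl2016 : List (List ℕ × List ℤ) := [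
  ([10, 10, 12, 12], [-2, 2, 0, 0, 1]),
  ([10, 10, 12, 12], [2, -2, 0, 0, 1]),
  ([10, 10, 32, 56], [-2, 2, 0, 0, 1]),
  ([10, 10, 32, 56], [2, -2, 0, 0, 1]),
  ([10, 10, 120, 144], [-2, 2, 0, 0, 1]),
  ([10, 10, 120, 144], [2, -2, 0, 0, 1]),
  ([10, 12, 12, 45], [-2, 0, 0, 9, 12]),
  ([10, 12, 12, 120], [-2, 0, 0, 24, 21]),
  ([10, 32, 45, 56], [-2, 0, 9, 0, 12]),
  ([10, 32, 56, 120], [-2, 0, 0, 24, 21]),
  ([10, 45, 120, 144], [-2, 9, 0, 0, 12]),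
  ([10, 45, 320, 384], [-6, 9, -16, 0, 0]),
  ([10, 120, 120, 144], [-2, 0, 24, 0, 21]),
  ([10, 120, 120, 144], [-2, 24, 0, 0, 21])]

/-- The rows with centraliser of order 2520. -/
def tbl2520 : List (List ℕ × List ℤ) := [
  ]

/-- The rows with centraliser of order 6720. -/
def tbl6720 : List (List ℕ × List ℤ) := [
  ([12, 32, 32, 45], [-4, -16, 0, -15, 2]),
  ([12, 32, 32, 45], [-4, 0, -16, -15, 2])]

/-- The rows with centraliser of order 20160. -/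
def tbl20160 : List (List ℕ × List ℤ) := [
  ]

end CfsgSimpleM22
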