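/-
An involution commuting with an element of order seven: the rows, first part.
-/
import Cfsg.Agent.Lib.SimpleM22.SevenTables

set_option autoImplicit false

namespace CfsgSimpleM22

theorem tbl1344_ok : (A11.all fun D => (rows 11 5 2 D 1344).all fun x => tbl1344.contains (D, x)) = true := by
  decide +kernel

theorem tbl2520_ok : (A11.all fun D => (rows 11 5 2 D 2520).all fun x => tbl2520.contains (D, x)) = true := by
  decide +kernel

theorem tbl20160_ok : (A11.all fun D => (rows 11 5 2 D 20160).all fun x => tbl20160.contains (D, x)) = true := by
  decide +kernel

end CfsgSimpleM22
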