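/-
An involution commuting with an element of order seven: the rows, second part.
-/
import Cfsg.Agent.Lib.SimpleM22.SevenTables

set_option autoImplicit false

namespace CfsgSimpleM22

theorem tbl448_ok : (A11.all fun D => (rows 11 5 2 D 448).all fun x => tbl448.contains (D, x)) = true := by
  decide +kernel

theorem tbl840_ok : (A11.all fun D => (rows 11 5 2 D 840).all fun x => tbl840.contains (D, x)) = true := by
  decide +kernel

theorem tbl6720_ok : (A11.all fun D => (rows 11 5 2 D 6720).all fun x => tbl6720.contains (D, x)) = true := by
  decide +kernel

end CfsgSimpleM22
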