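/-
An involution commuting with an element of order seven: the rows, third part.
-/
import Cfsg.Agent.Lib.SimpleM22.SevenTables

set_option autoImplicit false

namespace CfsgSimpleM22

theorem tbl56_ok : (A11.all fun D => (rows 11 5 2 D 56).all fun x => tbl56.contains (D, x)) = true := by
  decide +kernel

theorem tbl168_ok : (A11.all fun D => (rows 11 5 2 D 168).all fun x => tbl168.contains (D, x)) = true := by
  decide +kernel

theorem tbl2016_ok : (A11.all fun D => (rows 11 5 2 D 2016).all fun x => tbl2016.contains (D, x)) = true := by
  decide +kernel

end CfsgSimpleM22
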