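/-
An involution commuting with an element of order seven: the searches.
-/
import Cfsg.Agent.Lib.SimpleM22.SevenJoin

set_option autoImplicit false

namespace CfsgSimpleM22

/-- The rows left by the blocks at seven and eleven. -/
def specials : List (List ℕ × List ℤ) := [([10, 12, 12, 120], [-6, 4, 4, 8, -7]),
  ([10, 12, 45, 120], [6, 4, 9, 8, 0]), ([10, 21, 45, 120], [2, -7, 9, 8, -7]),
  ([12, 32, 120, 144], [4, 0, 8, 0, -3]), ([12, 56, 56, 120], [4, 0, 0, 8, -3]),
  ([21, 120, 210, 210], [-7, 8, -14, 14, 0]), ([21, 120, 210, 210], [-7, 8, 14, -14, 0]),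
  ([10, 45, 120, 144], [-2, 5, 8, -8, -8]), ([10, 45, 120, 144], [-2, 5, 8, 8, 8]),
  ([10, 45, 120, 144], [6, -3, 8, 24, 8]), ([10, 45, 120, 144], [-2, -3, 8, 24, 16])]

/-- The rows left after the elementary subgroup of order eight. -/
def lastRows : List (List ℕ × List ℤ) :=
  [([10, 45, 120, 144], [6, -3, 8, 24, 8]), ([10, 45, 120, 144], [-2, -3, 8, 24, 16])]

/-- The even divisors of 40320. -/
abbrev evenCents : List ℕ := [2, 4, 6, 8, 10, 12, 14, 16, 18, 20, 24, 28, 30, 32, 36, 40, 42, 48, 56, 60, 64, 70, 72, 80, 84, 90, 96, 112, 120, 126, 128, 140, 144, 160, 168, 180, 192, 210, 224, 240, 252, 280, 288, 320, 336, 360, 384, 420, 448, 480, 504, 560, 576, 630, 640, 672, 720, 840, 896, 960, 1008, 1120, 1152, 1260, 1344, 1440, 1680, 1920, 2016, 2240, 2520, 2688, 2880, 3360, 4032, 4480, 5040, 5760, 6720, 8064, 10080, 13440, 20160, 40320]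

/-- The orders of centralisers divisible by 128. -/
abbrev cents128 : List ℕ := evenCents.filter fun C => C % 128 == 0

/-- The multiplicities of the characters of an elementary group of order eight fit. -/
def eightOk (d p v f g : ℤ) : Bool :=
  ([1, -1] : List ℤ).all fun c => ([1, -1] : List ℤ).all fun e => ([1, -1] : List ℤ).all fun k =>
    let S := d + c * p + e * p + k * p + c * e * v + c * k * v + e * k * f + c * e * k * g
    (S % 8 == 0) && decide (0 ≤ S)

/-- The multiplicities fit at every place. -/
def eightRow : List ℕ → List ℤ → List ℤ → List ℤ → List ℤ → Bool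
  | d :: D, p :: x, v :: t, f :: u, g :: w => eightOk (d : ℤ) p v f g && eightRow D x t u w
  | _, _, _, _, _ => true

/-- A row extends to an elementary group of order eight. -/
def hasEight (D : List ℕ) (x : List ℤ) : Bool :=
  let R := (evenCents.flatMap fun C => rows 11 5 2 D C).dedup.filter fun u => biSum 11 5 (fOf 11 D) D x u == 0
  let T := (cents128.flatMap fun C => rows 11 5 2 D C).dedup.filter fun u => biSum 11 5 (fOf 11 D) D x u == 0
  T.any fun t =>
    let Rt := R.filter fun u => biSum 11 5 (fOf 11 D) D t u == 0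
    Rt.any fun u => Rt.any fun w =>
      (biSum 11 5 (fOf 11 D) D u w == 0) && eightRow (D ++ [fOf 11 D]) x t u w

theorem eight_specials : specials.all (fun p => !(hasEight p.1 p.2) || lastRows.contains p) = true := by
  decide +kernel

end CfsgSimpleM22
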