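/-
An involution commuting with an element of order seven: rows not extending to the block at seven.
-/
import Cfsg.Agent.Lib.SimpleM22.SevenSweeps
import Cfsg.Agent.Lib.SimpleM22.SevenRowsA
import Cfsg.Agent.Lib.SimpleM22.SevenRowsB
import Cfsg.Agent.Lib.SimpleM22.SevenRowsC

set_option autoImplicit false

namespace CfsgSimpleM22

/-- The degree lists at seven for `e = 3`, `n = 330`. -/
def l7a : List (List ℕ) := [
  [55, 99], [22, 22]]

theorem l7a_eq : lists7 3 330 14 = l7a := by decide +kernel

/-- The degree lists at seven for `e = 3`, `n = 2640`. -/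
def l7b : List (List ℕ) := [
  [132, 176], [120, 132], [99, 120], [55, 120],
  [55, 99], [22, 22]]

theorem l7b_eq : lists7 3 2640 14 = l7b := by decide +kernel

/-- The degree lists at seven for `e = 6`, `n = 2640`. -/
def l7c : List (List ℕ) := [
  [160, 160, 330, 330, 440], [132, 160, 160, 176, 330], [132, 160, 160, 176, 176], [120, 330, 330, 440, 440],
  [120, 132, 176, 330, 440], [120, 132, 176, 176, 440], [120, 132, 132, 132, 330], [120, 132, 132, 132, 176],
  [99, 330, 330, 440, 440], [99, 160, 330, 330, 440], [99, 160, 176, 330, 440], [99, 160, 160, 330, 440],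
  [99, 160, 160, 330, 330], [99, 160, 160, 176, 176], [99, 132, 176, 176, 440], [99, 132, 160, 176, 176],
  [99, 132, 160, 160, 330], [99, 132, 160, 160, 176], [99, 132, 132, 160, 330], [99, 132, 132, 132, 176],
  [99, 120, 330, 440, 440], [99, 120, 330, 330, 440], [99, 120, 176, 176, 440], [99, 120, 132, 330, 440],
  [99, 120, 132, 176, 440], [99, 120, 132, 176, 176], [99, 120, 132, 132, 176], [99, 120, 132, 132, 132],
  [99, 99, 160, 160, 176], [99, 99, 120, 176, 440], [99, 99, 120, 132, 132], [99, 99, 99, 160, 160],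
  [99, 99, 99, 132, 160], [99, 99, 99, 120, 440], [55, 160, 330, 330, 440], [55, 160, 160, 176, 330],
  [55, 160, 160, 176, 176], [55, 132, 176, 330, 440], [55, 132, 160, 176, 330], [55, 132, 160, 176, 176],
  [55, 132, 160, 160, 330], [55, 132, 160, 160, 176], [55, 132, 132, 132, 330], [55, 120, 176, 330, 440],
  [55, 120, 176, 176, 440], [55, 120, 132, 330, 440], [55, 120, 132, 176, 440], [55, 120, 132, 176, 330],
  [55, 120, 132, 132, 330], [55, 120, 132, 132, 176], [55, 120, 132, 132, 132], [55, 99, 160, 160, 330],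
  [55, 99, 160, 160, 176], [55, 99, 120, 330, 440], [55, 99, 120, 176, 440], [55, 99, 120, 132, 132],
  [55, 99, 99, 176, 440], [55, 99, 99, 160, 176], [55, 99, 99, 160, 160], [55, 99, 99, 132, 132],
  [55, 99, 99, 120, 440], [55, 99, 99, 120, 176], [55, 99, 99, 120, 132], [55, 55, 160, 160, 330],
  [55, 55, 120, 330, 440], [55, 55, 120, 132, 176], [55, 55, 99, 330, 440], [55, 55, 99, 160, 330],
  [55, 55, 99, 160, 176], [55, 55, 99, 160, 160], [55, 55, 99, 120, 440], [55, 55, 99, 120, 330],
  [55, 55, 99, 120, 132], [55, 55, 55, 160, 330], [55, 55, 55, 132, 176], [55, 55, 55, 120, 176],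
  [55, 55, 55, 120, 132], [55, 55, 55, 99, 120], [55, 55, 55, 55, 120], [55, 55, 55, 55, 99],
  [22, 160, 160, 176, 176], [22, 132, 160, 160, 330], [22, 120, 176, 176, 440], [22, 120, 132, 330, 440],
  [22, 120, 132, 132, 176], [22, 99, 160, 160, 330], [22, 99, 160, 160, 176], [22, 99, 132, 330, 440],
  [22, 99, 132, 160, 330], [22, 99, 132, 160, 176], [22, 99, 132, 160, 160], [22, 99, 120, 330, 440],
  [22, 99, 120, 176, 440], [22, 99, 120, 132, 440], [22, 99, 120, 132, 330], [22, 99, 120, 132, 132],
  [22, 99, 99, 160, 160], [22, 99, 99, 120, 440], [22, 99, 99, 99, 440], [22, 99, 99, 99, 160],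
  [22, 99, 99, 99, 120], [22, 55, 176, 176, 440], [22, 55, 160, 176, 176], [22, 55, 160, 160, 330],
  [22, 55, 160, 160, 176], [22, 55, 132, 160, 330], [22, 55, 132, 132, 176], [22, 55, 120, 330, 440],
  [22, 55, 120, 176, 440], [22, 55, 120, 176, 176], [22, 55, 120, 132, 176], [22, 55, 120, 132, 132],
  [22, 55, 99, 120, 132], [22, 55, 99, 99, 160], [22, 55, 55, 120, 132], [22, 55, 55, 99, 132],
  [22, 55, 55, 99, 120], [22, 55, 55, 55, 120], [22, 22, 160, 160, 330], [22, 22, 160, 160, 176],
  [22, 22, 120, 330, 440], [22, 22, 120, 176, 440], [22, 22, 120, 132, 132], [22, 22, 99, 176, 440],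
  [22, 22, 99, 160, 176], [22, 22, 99, 160, 160], [22, 22, 99, 132, 132], [22, 22, 99, 120, 440],
  [22, 22, 99, 120, 176], [22, 22, 99, 120, 132], [22, 22, 55, 330, 440], [22, 22, 55, 160, 330],
  [22, 22, 55, 160, 176], [22, 22, 55, 160, 160], [22, 22, 55, 120, 440], [22, 22, 55, 120, 330],
  [22, 22, 55, 120, 132], [22, 22, 55, 55, 120], [22, 22, 55, 55, 55], [22, 22, 22, 120, 132],
  [22, 22, 22, 99, 160], [22, 22, 22, 55, 132], [22, 22, 22, 55, 120]]

theorem l7c_eq : lists7 6 2640 14 = l7c := by decide +kernel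

/-- No row of the table extends. -/
def deadT (L : List (List ℕ)) (e C : ℕ) (T : List (List ℕ × List ℤ)) : Bool :=
  T.all fun p => !(joinsL L e C p.1 p.2)

/-- Only special rows of the table extend. -/
def specT (L : List (List ℕ)) (e C : ℕ) (T : List (List ℕ × List ℤ)) : Bool :=
  T.all fun p => !(joinsL L e C p.1 p.2) || specials.contains p

theorem dead_a448 : deadT l7a 3 448 tbl448 = true := by decide +kernel

theorem dead_a1344 : deadT l7a 3 1344 tbl1344 = true := by decide +kernel

theorem dead_a6720 : deadT l7a 3 6720 tbl6720 = true := by decide +kernel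

theorem dead_a20160 : deadT l7a 3 20160 tbl20160 = true := by decide +kernel

theorem dead_b56 : deadT l7b 3 56 tbl56 = true := by decide +kernel

theorem dead_c56 : deadT l7c 6 56 tbl56 = true := by decide +kernel

theorem dead_b168 : deadT l7b 3 168 tbl168 = true := by decide +kernel

theorem dead_c168 : deadT l7c 6 168 tbl168 = true := by decide +kernel

theorem dead_b840 : deadT l7b 3 840 tbl840 = true := by decide +kernel

theorem dead_c840 : deadT l7c 6 840 tbl840 = true := by decide +kernel

theorem dead_b2016 : deadT l7b 3 2016 tbl2016 = true := by decide +kernel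

theorem dead_c2016 : deadT l7c 6 2016 tbl2016 = true := by decide +kernel

theorem dead_b2520 : deadT l7b 3 2520 tbl2520 = true := by decide +kernel

theorem dead_c2520 : deadT l7c 6 2520 tbl2520 = true := by decide +kernel

theorem dead_b6720 : deadT l7b 3 6720 tbl6720 = true := by decide +kernel

theorem dead_c6720 : deadT l7c 6 6720 tbl6720 = true := by decide +kernel

theorem dead_b20160 : deadT l7b 3 20160 tbl20160 = true := by decide +kernel

theorem dead_c20160 : deadT l7c 6 20160 tbl20160 = true := by decide +kernel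

theorem spec_b448 : specT l7b 3 448 tbl448 = true := by decide +kernel

theorem spec_c448 : specT l7c 6 448 tbl448 = true := by decide +kernel

theorem spec_b1344 : specT l7b 3 1344 tbl1344 = true := by decide +kernel

theorem spec_c1344 : specT l7c 6 1344 tbl1344 = true := by decide +kernel

theorem last_noncentral : ∀ C ∈ ([28, 84, 224, 420, 672, 1008, 1260, 3360, 8064, 10080] : List ℕ),
    ((rows 11 5 2 [10, 45, 120, 144] C).all fun x => !(joinsL l7b 3 C [10, 45, 120, 144] x)) = true := by
  decide +kernel

theorem last_not_448 : lastRows.all (fun p => !(tbl448.contains p)) = true := by decide +kernel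

theorem last_three : (tbl1344.all fun p => !(joinsL l7b 3 1344 p.1 p.2) || !(lastRows.contains p) ||
    p == (([10, 45, 120, 144] : List ℕ), ([6, -3, 8, 24, 8] : List ℤ))) = true := by decide +kernel

theorem row_of_tbl {C : ℕ} {T : List (List ℕ × List ℤ)}
    (h : (A11.all fun D => (rows 11 5 2 D C).all fun x => T.contains (D, x)) = true)
    {D : List ℕ} (hD : D ∈ A11) {x : List ℤ} (hx : x ∈ rows 11 5 2 D C) : (D, x) ∈ T :=
  List.contains_iff_mem.1 (List.all_eq_true.1 (List.all_eq_true.1 h D hD) x hx)

theorem not_joins_of_deadT {e n C : ℕ} {L : List (List ℕ)} {T : List (List ℕ × List ℤ)} (hL : lists7 e n 14 = L)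
    (h : deadT L e C T = true) {D : List ℕ} {x : List ℤ} (hT : (D, x) ∈ T) : joins e n C D x = false := by
  have h1 := List.all_eq_true.1 h (D, x) hT
  rw [Bool.not_eq_true'] at h1
  rw [joins, hL]
  exact h1

theorem special_of_specT {e n C : ℕ} {L : List (List ℕ)} {T : List (List ℕ × List ℤ)} (hL : lists7 e n 14 = L)
    (h : specT L e C T = true) {D : List ℕ} {x : List ℤ} (hT : (D, x) ∈ T) (hj : joins e n C D x = true) :
    (D, x) ∈ specials := by
  have h1 := List.all_eq_true.1 h (D, x) hT
  rw [joins, hL] at hj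
  simp only [hj, Bool.not_true, Bool.false_or] at h1
  exact List.contains_iff_mem.1 h1

end CfsgSimpleM22
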