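/-
An involution commuting with an element of order seven: local arguments.
-/
import Cfsg.Agent.Lib.SimpleM22.SevenCases
import Cfsg.Agent.Lib.ZStar.Main
import Cfsg.Agent.Lib.Elementary

set_option autoImplicit false
set_option linter.style.haveILetI false
set_option linter.unusedSectionVars false

namespace CfsgSimpleM22

open Cfsg Subgroup
open CfsgLib.SmallSylow (inIdx)

universe u
variable {G : Type u} [Group G] [Fintype G]

theorem card_normalizer_seven (hG : IsM22 G) (P : Sylow 7 G) :
    Nat.card (normalizer ((P : Subgroup G) : Set G)) * Nat.card (Sylow 7 G) = 443520 := by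
  rw [show Nat.card (Sylow 7 G) = (normalizer ((P : Subgroup G) : Set G)).index from P.card_eq_index_normalizer,
    Subgroup.card_mul_index, card_eq hG]

theorem le_cent_iff {P : Sylow 7 G} {z : G} :
    z ∈ centralizer ((P : Subgroup G) : Set G) → (P : Subgroup G) ≤ centralizer ({z} : Set G) := fun h x hx =>
  mem_centralizer_singleton_iff.mpr (mem_centralizer_iff.mp h x hx)

/-- Counting the Sylow subgroups of order seven in a centraliser. -/
theorem cent_count {P : Sylow 7 G} {z : G} (hzP : z ∈ centralizer ((P : Subgroup G) : Set G)) :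
    cc z = Nat.card (normalizer ((P : Subgroup G) : Set G) ⊓ centralizer ({z} : Set G) : Subgroup G) *
        (normalizer ((P : Subgroup G) : Set G)).relIndex (centralizer ({z} : Set G)) ∧
      (normalizer ((P : Subgroup G) : Set G)).relIndex (centralizer ({z} : Set G)) % 7 = 1 := by
  set C := centralizer ({z} : Set G)
  set N := normalizer ((P : Subgroup G) : Set G)
  constructor
  · show Nat.card C = _
    rw [← Subgroup.relIndex_bot_left (N ⊓ C), ← Subgroup.relIndex_bot_left C, ← Subgroup.inf_relIndex_right N C]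
    exact (Subgroup.relIndex_mul_relIndex ⊥ (N ⊓ C) C bot_le inf_le_right).symm
  · have hle : (P : Subgroup G) ≤ C := le_cent_iff hzP
    have h := card_sylow_modEq_one 7 C
    rw [show Nat.card (Sylow 7 C) = (normalizer (((P.subtype hle : Sylow 7 C) : Subgroup C) : Set C)).index from
        (P.subtype hle).card_eq_index_normalizer, Sylow.coe_subtype,
      ← Subgroup.subgroupOf_normalizer_eq hle] at h
    exact h

/-- A two-subgroup of the normaliser containing a central involution of the centraliser. -/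
theorem exists_good_involution (hG : IsM22 G) (P : Sylow 7 G) {k H : ℕ} (hk : 1 ≤ k)
    (hC : Nat.card (centralizer ((P : Subgroup G) : Set G)) = 7 * H) (hH : ∃ j, 1 ≤ j ∧ H = 2 ^ j)
    (hN : Nat.card (normalizer ((P : Subgroup G) : Set G)) = 21 * 2 ^ k) :
    ∃ z : G, orderOf z = 2 ∧ z ∈ centralizer ((P : Subgroup G) : Set G) ∧
      7 * 2 ^ k ∣ Nat.card (normalizer ((P : Subgroup G) : Set G) ⊓ centralizer ({z} : Set G) : Subgroup G) := by
  haveI : Fact (Nat.Prime 2) := ⟨by norm_num⟩
  set C := centralizer ((P : Subgroup G) : Set G) with hCdef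
  set N := normalizer ((P : Subgroup G) : Set G) with hNdef
  have hCN : C ≤ N := centralizer_le_normalizer _
  haveI hCn : (C.subgroupOf N).Normal := by
    rw [hCdef, hNdef, ← normalizerMonoidHom_ker]; infer_instance
  obtain ⟨Q⟩ := (inferInstance : Nonempty (Sylow 2 N))
  have hQcard : Nat.card (Q : Subgroup N) = 2 ^ k := by
    rw [Sylow.card_eq_multiplicity, hN, Nat.factorization_mul (by norm_num) (by positivity)]
    simp [Nat.Prime.factorization_pow Nat.prime_two, Nat.factorization_eq_zero_of_not_dvd]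
  -- the intersection with the centraliser
  have hne : (C.subgroupOf N ⊓ (Q : Subgroup N)) ≠ ⊥ := by
    obtain ⟨j, hj, rfl⟩ := hH
    intro hbot
    obtain ⟨t, htC, ht⟩ := exists_involution (H := C) (by
      rw [hC]; exact dvd_mul_of_dvd_right (dvd_pow_self 2 (by omega)) 7)
    obtain ⟨R, hR⟩ := (IsPGroup.of_card (n := 1) (show Nat.card (zpowers (⟨t, hCN htC⟩ : N)) = 2 ^ 1 by
      rw [Nat.card_zpowers, Subgroup.orderOf_mk, ht, pow_one])).exists_le_sylow
    obtain ⟨g, hg⟩ := MulAction.exists_smul_eq N R Q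
    have h1 : (⟨t, hCN htC⟩ : N) ∈ (R : Subgroup N) := hR (mem_zpowers _)
    have h2 : g * (⟨t, hCN htC⟩ : N) * g⁻¹ ∈ (Q : Subgroup N) := by
      rw [← hg, Sylow.coe_subgroup_smul]
      exact Subgroup.mem_pointwise_smul_iff_inv_smul_mem.mpr (by simpa [MulAut.smul_def, mul_assoc] using h1)
    have h3 : g * (⟨t, hCN htC⟩ : N) * g⁻¹ ∈ C.subgroupOf N := hCn.conj_mem _ htC _
    have h4 : g * (⟨t, hCN htC⟩ : N) * g⁻¹ ∈ C.subgroupOf N ⊓ (Q : Subgroup N) := ⟨h3, h2⟩
    rw [hbot, mem_bot, mul_inv_eq_one, mul_eq_left] at h4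
    rw [show t = 1 from congrArg Subtype.val h4, orderOf_one] at ht
    norm_num at ht
  -- a central element of the two-group there
  set A := (C.subgroupOf N).subgroupOf (Q : Subgroup N) with hA
  haveI : A.Normal := hCn.subgroupOf _
  have hAne : A ≠ ⊥ := fun h => hne (by
    rw [hA, subgroupOf_eq_bot, disjoint_iff] at h; exact h)
  haveI : Group.IsNilpotent (Q : Subgroup N) := Q.isPGroup'.isNilpotent
  obtain ⟨w, hwA, hwc, hw⟩ : ∃ w : (Q : Subgroup N), w ∈ A ∧ w ∈ center (Q : Subgroup N) ∧ orderOf w = 2 := by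
    have hd : 2 ∣ Nat.card (A ⊓ center (Q : Subgroup N) : Subgroup (Q : Subgroup N)) := by
      have hq : IsPGroup 2 (A ⊓ center (Q : Subgroup N) : Subgroup (Q : Subgroup N)) := Q.isPGroup'.to_subgroup _
      obtain ⟨m, hm⟩ := IsPGroup.iff_card.mp hq
      rw [hm]
      refine dvd_pow_self 2 fun hm0 => ?_
      rw [hm0, pow_zero, Subgroup.card_eq_one] at hm
      exact CfsgLib.inf_center_ne_bot_of_nilpotent hAne hm
    obtain ⟨w, hw⟩ := exists_prime_orderOf_dvd_card' 2 hd
    exact ⟨w, w.2.1, w.2.2, (orderOf_coe w).trans hw⟩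
  refine ⟨((w : N) : G), ?_, hwA, ?_⟩
  · rw [orderOf_coe, orderOf_coe, hw]
  refine Nat.Coprime.mul_dvd_of_dvd_of_dvd (Nat.Coprime.pow_right k (by norm_num)) ?_ ?_
  · have hle : (P : Subgroup G) ≤ N ⊓ centralizer ({((w : N) : G)} : Set G) :=
      le_inf (le_normalizer) (le_cent_iff hwA)
    have := Subgroup.card_dvd_of_le hle
    rwa [show Nat.card (P : Subgroup G) = 7 from card_sylow7 hG P] at this
  · have hle : (Q : Subgroup N).map N.subtype ≤ N ⊓ centralizer ({((w : N) : G)} : Set G) := by
      rintro _ ⟨q, hq, rfl⟩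
      exact ⟨q.2, mem_centralizer_singleton_iff.mpr
        (congrArg (fun r : (Q : Subgroup N) => ((r : N) : G)) (mem_center_iff.mp hwc ⟨q, hq⟩))⟩
    have := Subgroup.card_dvd_of_le hle
    rwa [card_map_of_injective N.subtype_injective, hQcard] at this

/-- In the centraliser of an involution with eight Sylow subgroups of order seven and Sylow two-subgroup of
order sixty-four there are commuting conjugates generating with it a group of order eight. -/
theorem exists_eight (hG : IsM22 G) (P : Sylow 7 G)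
    (hN : Nat.card (normalizer ((P : Subgroup G) : Set G)) = 168)
    (hC2 : ∀ x ∈ centralizer ((P : Subgroup G) : Set G), orderOf x ≠ 3)
    {z : G} (hz : orderOf z = 2) (hzP : z ∈ centralizer ((P : Subgroup G) : Set G))
    (hn : (normalizer ((P : Subgroup G) : Set G)).relIndex (centralizer ({z} : Set G)) = 8)
    (hcc : cc z = 448 ∨ cc z = 1344) :
    ∃ b w : G, IsConj z b ∧ IsConj z w ∧ Commute z b ∧ Commute z w ∧ Commute b w ∧ IsConj (z * b) (z * w) ∧
      128 ∣ cc (z * b) ∧ z * b ≠ 1 ∧ b * w ≠ 1 ∧ z * b * w ≠ 1 ∧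
      ∃ (S : Subgroup G) (τ : G), S ≤ centralizer ({z} : Set G) ∧ Nat.card S = 64 ∧
        (∀ s ∈ S, τ * s * τ⁻¹ ∈ S ∧ τ⁻¹ * s * τ ∈ S) ∧ b = τ * z * τ⁻¹ := by
  haveI : Fact (Nat.Prime 2) := ⟨by norm_num⟩
  set C := centralizer ({z} : Set G) with hC
  set N := normalizer ((P : Subgroup G) : Set G) with hNdef
  have hz2 : z * z = 1 := by rw [← pow_two, ← hz, pow_orderOf_eq_one]
  have hzC : z ∈ C := mem_centralizer_singleton_iff.mpr rfl
  have h64 : 2 ^ 6 ∣ Nat.card C ∧ ¬ 128 ∣ Nat.card C := by rcases hcc with e | e <;> simp only [cc] at e <;> rw [e] <;> norm_num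
  -- a Sylow subgroup of the centraliser containing the involution
  obtain ⟨S₁, hS₁⟩ := (IsPGroup.of_card (n := 1) (show Nat.card (zpowers (⟨z, hzC⟩ : C)) = 2 ^ 1 by
    rw [Nat.card_zpowers, Subgroup.orderOf_mk, hz, pow_one])).exists_le_sylow
  have hS1card : Nat.card (S₁ : Subgroup C) = 64 := by
    rw [Sylow.card_eq_multiplicity, CfsgLib.Order7920.fac_eq Nat.prime_two Nat.card_pos.ne' h64.1 h64.2]
    norm_num
  set S := (S₁ : Subgroup C).map C.subtype with hS
  have hScard : Nat.card S = 2 ^ 6 := by rw [hS, card_map_of_injective C.subtype_injective, hS1card]; norm_num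
  have hzS : z ∈ S := ⟨⟨z, hzC⟩, hS₁ (mem_zpowers _), rfl⟩
  have hSC : S ≤ C := by rintro _ ⟨c, -, rfl⟩; exact c.2
  obtain ⟨K, hK, hSK⟩ := Sylow.exists_subgroup_card_pow_succ (p := 2) (n := 6)
    (by rw [card_eq hG]; norm_num) hScard
  have hindex : S.relIndex K = 2 := by
    have h := Subgroup.relIndex_mul_relIndex ⊥ S K bot_le hSK
    rw [Subgroup.relIndex_bot_left, Subgroup.relIndex_bot_left, hScard, hK] at h
    omega
  haveI hSn : (S.subgroupOf K).Normal := Subgroup.normal_of_index_eq_two (by exact hindex)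
  obtain ⟨τ, hτK, hτS⟩ : ∃ τ ∈ K, τ ∉ S := SetLike.exists_of_lt (lt_of_le_of_ne hSK fun e => by
    rw [e, hK] at hScard; norm_num at hScard)
  have hnorm : ∀ s ∈ S, ∀ q ∈ K, q * s * q⁻¹ ∈ S := fun s hs q hq =>
    hSn.conj_mem ⟨s, hSK hs⟩ hs ⟨q, hq⟩
  have hτ2 : τ * τ ∈ S := by
    have := Subgroup.sq_mem_of_index_two (show (S.subgroupOf K).index = 2 from hindex) ⟨τ, hτK⟩
    simpa [mem_subgroupOf, pow_two] using this
  have hgen : ∀ q ∈ K, q ∈ S ∨ τ⁻¹ * q ∈ S := fun q hq => by
    rw [or_iff_not_imp_left]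
    intro hqS
    have := (Subgroup.mul_mem_iff_of_index_two (show (S.subgroupOf K).index = 2 from hindex)
      (a := ⟨τ⁻¹, inv_mem hτK⟩) (b := ⟨q, hq⟩)).mpr
    simpa [mem_subgroupOf] using this (by simp [mem_subgroupOf, hτS, hqS])
  set b := τ * z * τ⁻¹ with hb
  have hbS : b ∈ S := hnorm z hzS τ hτK
  have hconj : IsConj z b := isConj_iff.mpr ⟨τ, rfl⟩
  have hSz : ∀ s ∈ S, s * z = z * s := fun s hs => mem_centralizer_singleton_iff.mp (hSC hs)
  have hSb : ∀ s ∈ S, s * b = b * s := fun s hs => by
    have h1 : τ⁻¹ * s * τ ∈ S := by simpa using hnorm s hs τ⁻¹ (inv_mem hτK)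
    have h2 := hSz _ h1
    calc s * b = τ * ((τ⁻¹ * s * τ) * z) * τ⁻¹ := by rw [hb]; group
      _ = τ * (z * (τ⁻¹ * s * τ)) * τ⁻¹ := by rw [h2]
      _ = b * s := by rw [hb]; group
  have hbz : b ≠ z := fun e => by
    have hKC : K ≤ C := fun q hq => by
      have hτC : τ ∈ C := mem_centralizer_singleton_iff.mpr (mul_inv_eq_iff_eq_mul.mp e)
      rcases hgen q hq with h | h
      · exact hSC h
      · have := mul_mem hτC (hSC h)
        simpa using this
    have := Subgroup.card_dvd_of_le hKC
    rw [hK] at this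
    exact h64.2 this
  have hzb : Commute z b := (hSz b hbS).symm
  have hb2 : b * b = 1 := by rw [hb, show τ * z * τ⁻¹ * (τ * z * τ⁻¹) = τ * (z * z) * τ⁻¹ by group, hz2, mul_one, mul_inv_cancel]
  have hzb1 : z * b ≠ 1 := fun e => hbz (mul_left_cancel (e.trans hz2.symm))
  have hτb : τ * b * τ⁻¹ = z := by
    have h1 : (τ * τ) * z * (τ * τ)⁻¹ = z := by rw [hSz _ hτ2, mul_inv_cancel_right]
    calc τ * b * τ⁻¹ = (τ * τ) * z * (τ * τ)⁻¹ := by rw [hb]; group
      _ = z := h1
  have h128 : 128 ∣ cc (z * b) := by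
    have hτzb : τ * (z * b) = (z * b) * τ := by
      rw [← mul_inv_eq_iff_eq_mul]
      calc τ * (z * b) * τ⁻¹ = (τ * z * τ⁻¹) * (τ * b * τ⁻¹) := by group
        _ = z * b := by rw [hτb, ← hb]; exact hzb.symm.eq
    have hKC : K ≤ centralizer ({z * b} : Set G) := fun q hq => by
      rw [mem_centralizer_singleton_iff]
      rcases hgen q hq with h | h
      · exact (Commute.mul_right (hSz q h) (hSb q h)).eq
      · have h1 : (τ⁻¹ * q) * (z * b) = (z * b) * (τ⁻¹ * q) := (Commute.mul_right (hSz _ h) (hSb _ h)).eq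
        calc q * (z * b) = τ * ((τ⁻¹ * q) * (z * b)) := by group
          _ = (τ * (z * b)) * (τ⁻¹ * q) := by rw [h1]; group
          _ = (z * b) * q := by rw [hτzb]; group
    have := Subgroup.card_dvd_of_le hKC
    rwa [hK] at this
  have hbC : b ∈ C := hSC hbS
  -- the conjugate is not central
  have hnc : ¬ C ≤ centralizer ({b} : Set G) := by
    intro hle
    have hmap : C.map (MulAut.conj τ).toMonoidHom = centralizer ({b} : Set G) := by
      ext g
      constructor
      · rintro ⟨c, hc, rfl⟩
        rw [mem_centralizer_singleton_iff]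
        simp only [MulEquiv.coe_toMonoidHom, MulAut.conj_apply, hb]
        calc τ * c * τ⁻¹ * (τ * z * τ⁻¹) = τ * (c * z) * τ⁻¹ := by group
          _ = τ * (z * c) * τ⁻¹ := by rw [mem_centralizer_singleton_iff.mp hc]
          _ = τ * z * τ⁻¹ * (τ * c * τ⁻¹) := by group
      · intro hg
        rw [mem_centralizer_singleton_iff, hb] at hg
        refine ⟨τ⁻¹ * g * τ, mem_centralizer_singleton_iff.mpr ?_, by
          simp only [MulEquiv.coe_toMonoidHom, MulAut.conj_apply]; group⟩
        calc τ⁻¹ * g * τ * z = τ⁻¹ * (g * (τ * z * τ⁻¹)) * τ := by group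
          _ = τ⁻¹ * (τ * z * τ⁻¹ * g) * τ := by rw [hg]
          _ = z * (τ⁻¹ * g * τ) := by group
    have heq : C = centralizer ({b} : Set G) := by
      refine eq_of_le_of_card_ge hle (le_of_eq ?_)
      rw [← hmap, card_map_of_injective (MulAut.conj τ).injective]
    have hCmap : ∀ q ∈ K, q ∈ normalizer (C : Set G) := by
      have hτn : τ ∈ normalizer (C : Set G) := Subgroup.mem_normalizer_iff.mpr fun g => by
        constructor
        · intro hg
          have h9 : τ * g * τ⁻¹ ∈ C.map (MulAut.conj τ).toMonoidHom := ⟨g, hg, rfl⟩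
          rwa [hmap, ← heq] at h9
        · intro hg
          rw [heq, ← hmap] at hg
          obtain ⟨c, hc, hc'⟩ := hg
          simp only [MulEquiv.coe_toMonoidHom, MulAut.conj_apply, mul_left_inj, mul_right_inj] at hc'
          exact hc' ▸ hc
      intro q hq
      rcases hgen q hq with h | h
      · exact le_normalizer (hSC h)
      · simpa using mul_mem hτn (le_normalizer (hSC h))
    set M := normalizer (C : Set G) with hM
    have hCM : C ≤ M := le_normalizer
    have hKd : 128 ∣ Nat.card M := by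
      have := Subgroup.card_dvd_of_le (show K ≤ M from hCmap)
      rwa [hK] at this
    have h1 : N.relIndex M ≤ N.relIndex C := by
      haveI : Finite (C ⧸ N.subgroupOf C) := inferInstance
      refine Nat.card_le_card_of_surjective
        (Quotient.map' (fun c : C => (⟨c, hCM c.2⟩ : M)) fun a c hac => ?_) ?_
      · rw [QuotientGroup.leftRel_apply] at hac ⊢
        exact hac
      · intro q
        induction q using QuotientGroup.induction_on with
        | H m =>
          have hP' : (P : Subgroup G).map (MulAut.conj (m : G)).toMonoidHom ≤ C := by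
            rintro _ ⟨x, hx, rfl⟩
            exact (Subgroup.mem_normalizer_iff.mp m.2 x).mp (le_cent_iff hzP hx)
          have hle' : ((m : G) • P : Sylow 7 G).1 ≤ C := by
            intro y hy
            refine hP' ?_
            rw [Sylow.coe_subgroup_smul, Subgroup.pointwise_smul_def] at hy
            exact hy
          obtain ⟨c, hc⟩ := MulAction.exists_smul_eq C (P.subtype (le_cent_iff hzP)) (((m : G) • P).subtype hle')
          refine ⟨QuotientGroup.mk c, ?_⟩
          show QuotientGroup.mk (⟨c, hCM c.2⟩ : M) = QuotientGroup.mk m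
          rw [QuotientGroup.eq, Subgroup.mem_subgroupOf]
          rw [Sylow.smul_subtype (le_cent_iff hzP)] at hc
          have hPe : ((c : G) • P : Sylow 7 G) = (m : G) • P :=
            Sylow.subtype_injective (hP := _) (hQ := _) hc
          show ((⟨c, hCM c.2⟩ : M)⁻¹ * m : M).1 ∈ N
          rw [hNdef]
          refine Sylow.smul_eq_iff_mem_normalizer.mp ?_
          show ((c : G)⁻¹ * (m : G)) • P = P
          rw [mul_smul, ← hPe, inv_smul_smul]
    have h2 : N.relIndex C ≤ N.relIndex M := Subgroup.relIndex_le_of_le_right hCM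
      (Subgroup.index_ne_zero_of_finite)
    have h3 := Subgroup.relIndex_mul_relIndex ⊥ (N ⊓ M) M bot_le inf_le_right
    rw [Subgroup.relIndex_bot_left, Subgroup.relIndex_bot_left, Subgroup.inf_relIndex_right,
      show N.relIndex M = 8 by omega] at h3
    rw [← h3] at hKd
    have h4 := Subgroup.card_dvd_of_le (inf_le_left : N ⊓ M ≤ N)
    rw [hN] at h4
    have := hKd.trans (Nat.mul_dvd_mul_right h4 8)
    norm_num at this
  -- the core of the centraliser is trivial
  have hO : pPrimeCore 2 C = ⊥ := by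
    set O := pPrimeCore 2 C with hOdef
    have hodd : (Nat.card O).Coprime 2 := CfsgLib.card_pPrimeCore_coprime 2
    have hdvd : Nat.card O ∣ 21 := by
      have h1 : Nat.card O ∣ 1344 := by
        refine (Subgroup.card_subgroup_dvd_card O).trans ?_
        rcases hcc with e | e <;> simp only [cc] at e <;> rw [e] <;> norm_num
      exact (Nat.Coprime.pow_right 6 hodd).dvd_of_dvd_mul_left (show Nat.card O ∣ 2 ^ 6 * 21 by norm_num; exact h1)
    have hle : (P : Subgroup G) ≤ C := le_cent_iff hzP
    haveI : Fact (Nat.Prime 7) := ⟨by norm_num⟩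
    have h7 : ¬ 7 ∣ Nat.card O := by
      intro h7
      obtain ⟨y, hyO, hy⟩ := exists_order (G := C) (K := O) (by norm_num) h7
      obtain ⟨R, hR⟩ := (IsPGroup.of_card (n := 1) (show Nat.card (zpowers y) = 7 ^ 1 by
        rw [Nat.card_zpowers, hy, pow_one])).exists_le_sylow
      have hRcard : Nat.card (R : Subgroup C) = 7 := by
        rw [Sylow.card_eq_multiplicity, CfsgLib.Order7920.fac_eq (k := 1) (by norm_num) Nat.card_pos.ne'
          (by rcases hcc with e | e <;> simp only [cc] at e <;> rw [e] <;> norm_num)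
          (by rcases hcc with e | e <;> simp only [cc] at e <;> rw [e] <;> norm_num), pow_one]
      have hRO : (R : Subgroup C) ≤ O := by
        rw [← eq_of_le_of_card_ge hR (by rw [hRcard, Nat.card_zpowers, hy])]
        exact zpowers_le.mpr hyO
      have hall : ∀ R' : Sylow 7 C, (R' : Subgroup C) ≤ O := fun R' => by
        obtain ⟨g, hg⟩ := MulAction.exists_smul_eq C R R'
        rw [← hg, Sylow.coe_subgroup_smul]
        intro x hx
        rw [Subgroup.mem_pointwise_smul_iff_inv_smul_mem] at hx
        have h8 := (inferInstance : O.Normal).conj_mem _ (hRO hx) g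
        simpa [MulAut.smul_def, mul_assoc] using h8
      have hinj : Nat.card (Sylow 7 C) ≤ Nat.card (Sylow 7 O) := by
        refine Nat.card_le_card_of_injective (fun R' => R'.subtype (hall R')) fun R₁ R₂ h => ?_
        exact Sylow.subtype_injective (hP := _) (hQ := _) h
      have hC8 : Nat.card (Sylow 7 C) = 8 := by
        rw [show Nat.card (Sylow 7 C) = (normalizer (((P.subtype hle : Sylow 7 C) : Subgroup C) : Set C)).index from
            (P.subtype hle).card_eq_index_normalizer, Sylow.coe_subtype,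
          ← Subgroup.subgroupOf_normalizer_eq hle]
        exact hn
      have hOs : Nat.card (Sylow 7 O) ∣ 21 := by
        obtain ⟨R₀⟩ := (inferInstance : Nonempty (Sylow 7 O))
        rw [Sylow.card_eq_index_normalizer R₀]
        exact (Subgroup.index_dvd_card _).trans hdvd
      have := card_sylow_modEq_one 7 O
      have h21 := Nat.le_of_dvd (by norm_num) hOs
      unfold Nat.ModEq at this
      interval_cases h9 : Nat.card (Sylow 7 O) <;> omega
    have h13 : Nat.card O = 1 ∨ Nat.card O = 3 := by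
      have h3 : Nat.card O ∣ 3 := Nat.Coprime.dvd_of_dvd_mul_right
        ((Nat.Prime.coprime_iff_not_dvd (by norm_num : Nat.Prime 7)).mpr h7).symm (show Nat.card O ∣ 3 * 7 from hdvd)
      exact (Nat.dvd_prime (by norm_num)).mp h3
    rcases h13 with h | h
    · exact Subgroup.card_eq_one.mp h
    exfalso
    obtain ⟨o, hoO, ho⟩ := exists_order (G := C) (K := O) (q := 3) (by norm_num) (by rw [h])
    refine hC2 (o : G) (mem_centralizer_iff.mpr fun x hx => ?_) (by rw [orderOf_coe, ho])
    set x' : C := ⟨x, hle hx⟩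
    have hfix : ∀ i : ℕ, x' ^ i * o * (x' ^ i)⁻¹ ∈ O := fun i =>
      (inferInstance : O.Normal).conj_mem _ hoO _
    -- an element of order seven acts trivially on a group of order three
    have hx7 : x ^ 7 = 1 := by
      rw [← orderOf_dvd_iff_pow_eq_one]
      have := Subgroup.orderOf_dvd_natCard _ hx
      rwa [show Nat.card (P : Subgroup G) = 7 from card_sylow7 hG P] at this
    let φ : MulAut O := MulAut.conjNormal x'
    have hφ7 : φ ^ 7 = 1 := by
      rw [← map_pow, show x' ^ 7 = 1 from Subtype.ext hx7, map_one]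
    haveI : IsCyclic O := isCyclic_of_prime_card (p := 3) (hp := ⟨by norm_num⟩) h
    have hφ2 : φ ^ 2 = 1 := by
      have h9 := pow_card_eq_one' (x := φ)
      rwa [IsCyclic.card_mulAut, h, show Nat.totient 3 = 2 by decide] at h9
    have hφ : φ = 1 := by
      have h9 := orderOf_dvd_of_pow_eq_one hφ7
      have h10 := orderOf_dvd_of_pow_eq_one hφ2
      exact orderOf_eq_one_iff.mp (Nat.eq_one_of_dvd_one (by simpa using Nat.dvd_gcd h9 h10))
    have h11 : x' * o * x'⁻¹ = o := by
      have := congrArg (fun ψ : MulAut O => ((ψ ⟨o, hoO⟩ : O) : C)) hφ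
      simpa [φ] using this
    exact congrArg Subtype.val (mul_inv_eq_iff_eq_mul.mp h11)
  -- a commuting conjugate
  set b' : C := ⟨b, hbC⟩
  have hb'o : orderOf b' = 2 := by
    rw [Subgroup.orderOf_mk]
    exact orderOf_eq_prime (by rw [pow_two]; exact hb2) fun e => by
      rw [hb, mul_inv_eq_one, mul_eq_left] at e
      rw [e, orderOf_one] at hz; norm_num at hz
  have hniso : ¬ IsIsolated b' := by
    intro hiso
    refine hnc fun c hc => ?_
    have h := CfsgLib.ZStar.commutator_mem hb'o hiso ⟨c, hc⟩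
    rw [hO, mem_bot, mul_inv_eq_one, mul_inv_eq_iff_eq_mul] at h
    exact mem_centralizer_singleton_iff.mpr (congrArg Subtype.val h).symm
  unfold IsIsolated at hniso
  push Not at hniso
  obtain ⟨g, hcomm, hne⟩ := hniso
  set w := (g : G) * b * (g : G)⁻¹ with hw
  have hgz : (g : G) * z = z * (g : G) := mem_centralizer_singleton_iff.mp g.2
  have hzw : Commute z w := (mem_centralizer_singleton_iff.mp (g * b' * g⁻¹).2).symm
  have hbw : Commute b w := congrArg Subtype.val hcomm
  have hwb : w ≠ b := fun e => hne (Subtype.ext e)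
  have hconjzw : IsConj z w := hconj.trans (isConj_iff.mpr ⟨g, rfl⟩)
  have hzbzw : IsConj (z * b) (z * w) := by
    refine isConj_iff.mpr ⟨g, ?_⟩
    calc (g : G) * (z * b) * (g : G)⁻¹ = ((g : G) * z) * b * (g : G)⁻¹ := by group
      _ = z * w := by rw [hgz, hw]; group
  have hbw1 : b * w ≠ 1 := fun e => hwb (mul_left_cancel (e.trans hb2.symm))
  have hSτ : ∃ (S : Subgroup G) (τ : G), S ≤ centralizer ({z} : Set G) ∧ Nat.card S = 64 ∧
      (∀ s ∈ S, τ * s * τ⁻¹ ∈ S ∧ τ⁻¹ * s * τ ∈ S) ∧ b = τ * z * τ⁻¹ :=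
    ⟨S, τ, hSC, hScard.trans (by norm_num), fun s hs =>
      ⟨hnorm s hs τ hτK, by simpa using hnorm s hs τ⁻¹ (inv_mem hτK)⟩, hb⟩
  refine ⟨b, w, hconj, hconjzw, hzb, hzw, hbw, hzbzw, h128, hzb1, hbw1, fun e => ?_, hSτ⟩
  have hww : w * w = 1 := by
    rw [hw, show (g : G) * b * (g : G)⁻¹ * ((g : G) * b * (g : G)⁻¹) = (g : G) * (b * b) * (g : G)⁻¹ by group, hb2, mul_one,
      mul_inv_cancel]
  have he : z * b = w := mul_right_cancel (e.trans hww.symm)
  have hcz : cc w = cc z := by
    obtain ⟨q, hq⟩ := isConj_iff.mp hconjzw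
    have hmap : C.map (MulAut.conj q).toMonoidHom = centralizer ({w} : Set G) := by
      rw [← hq]
      ext y
      constructor
      · rintro ⟨c, hc, rfl⟩
        rw [mem_centralizer_singleton_iff]
        simp only [MulEquiv.coe_toMonoidHom, MulAut.conj_apply]
        calc q * c * q⁻¹ * (q * z * q⁻¹) = q * (c * z) * q⁻¹ := by group
          _ = q * (z * c) * q⁻¹ := by rw [mem_centralizer_singleton_iff.mp hc]
          _ = q * z * q⁻¹ * (q * c * q⁻¹) := by group
      · intro hy
        rw [mem_centralizer_singleton_iff] at hy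
        refine ⟨q⁻¹ * y * q, mem_centralizer_singleton_iff.mpr ?_, by
          simp only [MulEquiv.coe_toMonoidHom, MulAut.conj_apply]; group⟩
        calc q⁻¹ * y * q * z = q⁻¹ * (y * (q * z * q⁻¹)) * q := by group
          _ = q⁻¹ * (q * z * q⁻¹ * y) * q := by rw [hy]
          _ = z * (q⁻¹ * y * q) := by group
    show Nat.card (centralizer ({w} : Set G)) = Nat.card C
    rw [← hmap, card_map_of_injective (MulAut.conj q).injective]
  rw [he, hcz] at h128
  exact h64.2 h128

end CfsgSimpleM22
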