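/-
The Sylow subgroups of order seven are self-centralising.
-/
import Cfsg.Agent.Lib.SimpleM22.SevenLocal
import Cfsg.Agent.Lib.SimpleM22.SevenDead
import Cfsg.Agent.Lib.SimpleM22.Congr
import Cfsg.Agent.Lib.SimpleM22.Rational

set_option autoImplicit false
set_option linter.style.haveILetI false
set_option linter.unusedSectionVars false

namespace CfsgSimpleM22

open Cfsg CfsgLib.CharTheory CfsgSimpleM11
open CfsgLib.SmallSylow (inIdx)

universe u
variable {G : Type u} [Group G] [Fintype G]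

/-- The case of 1408 Sylow subgroups. -/
theorem no_1408 (hG : IsM22 G) (F : Frame G 11 5) (P : Sylow 7 G) (hn : Nat.card (Sylow 7 G) = 1408)
    (he : inIdx P = 3) {H : ℕ} (hC : Nat.card (Subgroup.centralizer ((P : Subgroup G) : Set G)) = 7 * H)
    (h63 : 63360 = H * inIdx P * Nat.card (Sylow 7 G)) : False := by
  have hP : Nat.card P = 7 := card_sylow7 hG P
  rw [hn, he] at h63
  obtain ⟨h, hhC, hho⟩ := exists_order (K := Subgroup.centralizer ((P : Subgroup G) : Set G)) (q := 3)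
    (by norm_num) (by rw [hC, show H = 15 by omega]; norm_num)
  obtain ⟨B⟩ := exists_BL (by norm_num) P hP (two_le_e hG P hP)
  obtain ⟨xs', hxs', hm, -⟩ := lists7_mem hG F B (fun χ hχ => two_le_dg hG (B.xs_ne_triv hχ))
  rw [he, hn] at hm
  have hl : lists7 3 1408 2 = [[6, 6]] := by decide +kernel
  rw [hl, List.mem_singleton] at hm
  obtain ⟨χ, hχ, hd⟩ : ∃ χ ∈ xs', dg χ = 6 := by
    rcases xs' with _ | ⟨a, r⟩
    · simp at hm
    · simp only [List.map_cons, List.cons.injEq] at hm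
      exact ⟨a, List.mem_cons_self, hm.1⟩
  have hχB : χ ∈ B.xs := hxs'.subset hχ
  obtain ⟨x, hx, hx1⟩ := CfsgLib.SmallSylow.exists_mem_ne P hP
  have hxo := CfsgLib.SmallSylow.orderOf_mem P hP hx hx1
  have hcomm : Commute x h := Subgroup.mem_centralizer_iff.mp hhC x hx
  have hh3 : h ^ 3 = 1 := by rw [← hho, pow_orderOf_eq_one]
  have hx7 : x ^ 7 = 1 := by rw [← hxo, pow_orderOf_eq_one]
  have hreg : ∀ i : ℕ, ¬ 7 ∣ orderOf (h ^ i) := fun i hd7 => by
    have := Nat.le_of_dvd (by norm_num)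
      (hd7.trans (orderOf_dvd_of_pow_eq_one (n := 3) (by rw [← pow_mul, mul_comm, pow_mul, hh3, one_pow])))
    omega
  have hδ : ∀ i : ℕ, ¬ 7 ∣ i → (χ : G → ℂ) ((x * h) ^ i) = -1 := by
    intro i hi
    have hxi : x ^ i ≠ 1 := fun e => hi (hxo ▸ orderOf_dvd_of_pow_eq_one e)
    rw [hcomm.mul_pow, B.valX χ hχB _ (Subgroup.pow_mem _ hx i) hxi _ (Subgroup.pow_mem _ hhC i) (hreg i), hd]
    norm_num [sgn]
  have hc0 : (χ : G → ℂ) ((x * h) ^ 0) = 6 := by
    rw [pow_zero, irr_degree]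
    exact_mod_cast hd
  have hc7 : (χ : G → ℂ) ((x * h) ^ 7) = (χ : G → ℂ) h := by
    rw [hcomm.mul_pow, hx7, one_mul]
    exact congrArg _ (by rw [show 7 = 3 * 2 + 1 from rfl, pow_succ, pow_mul, hh3, one_pow, one_mul])
  have hc14 : (χ : G → ℂ) ((x * h) ^ 14) = (χ : G → ℂ) (h ^ 2) := by
    rw [hcomm.mul_pow, show x ^ 14 = 1 by rw [show 14 = 7 * 2 from rfl, pow_mul, hx7, one_pow], one_mul]
    exact congrArg _ (by rw [show 14 = 3 * 4 + 2 from rfl, pow_add, pow_mul, hh3, one_pow, one_mul])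
  have hy21 : (x * h) ^ 21 = 1 := by
    rw [hcomm.mul_pow, show 21 = 7 * 3 from rfl, pow_mul, hx7, one_pow, one_mul, mul_comm, pow_mul, hh3, one_pow]
  obtain ⟨m, hm21⟩ := exists_mult_range χ hy21 (z := 1) (one_pow _)
  simp only [Finset.sum_range_succ, Finset.sum_range_zero, one_pow, one_mul, hc0, hc7, hc14] at hm21
  rw [hδ 1 (by norm_num), hδ 2 (by norm_num), hδ 3 (by norm_num), hδ 4 (by norm_num), hδ 5 (by norm_num),
    hδ 6 (by norm_num), hδ 8 (by norm_num), hδ 9 (by norm_num), hδ 10 (by norm_num), hδ 11 (by norm_num),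
    hδ 12 (by norm_num), hδ 13 (by norm_num), hδ 15 (by norm_num), hδ 16 (by norm_num), hδ 17 (by norm_num),
    hδ 18 (by norm_num), hδ 19 (by norm_num), hδ 20 (by norm_num)] at hm21
  obtain ⟨ω, hω, hωsum⟩ : ∃ ω : ℂ, ω ^ 3 = 1 ∧ 1 + ω + ω ^ 2 = 0 := by
    obtain ⟨ω, hω⟩ : ∃ ω : ℂ, IsPrimitiveRoot ω 3 := ⟨_, Complex.isPrimitiveRoot_exp 3 (by norm_num)⟩
    refine ⟨ω, hω.pow_eq_one, ?_⟩
    have := hω.geom_sum_eq_zero (by norm_num)
    simp only [Finset.sum_range_succ, Finset.sum_range_zero] at this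
    linear_combination this
  have hh0 : (χ : G → ℂ) (h ^ 0) = 6 := by rw [pow_zero, irr_degree]; exact_mod_cast hd
  obtain ⟨a, ha⟩ := exists_mult_range χ hh3 (z := 1) (one_pow _)
  obtain ⟨b, hb⟩ := exists_mult_range χ hh3 hω
  obtain ⟨c, hc⟩ := exists_mult_range χ hh3 (z := ω ^ 2) (by rw [← pow_mul, mul_comm, pow_mul, hω, one_pow])
  simp only [Finset.sum_range_succ, Finset.sum_range_zero, one_pow, one_mul, hh0, pow_one, pow_zero,
    ← pow_mul] at ha hb hc
  have hχ1 : (χ : G → ℂ) 1 = 6 := by rw [irr_degree]; exact_mod_cast hd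
  rw [hχ1] at ha hb hc
  simp only [mul_zero, mul_one, pow_zero, one_mul] at hc
  rw [show ω ^ (2 * 2) = ω by rw [show 2 * 2 = 3 + 1 from rfl, pow_succ, hω, one_mul]] at hc
  have hsum : ((a + b + c : ℕ) : ℂ) = 6 := by
    push_cast
    linear_combination (-1 / 3 : ℂ) * ha - (1 / 3 : ℂ) * hb - (1 / 3 : ℂ) * hc +
      (1 / 3 : ℂ) * ((χ : G → ℂ) h + (χ : G → ℂ) (h ^ 2)) * hωsum
  have hsum' : a + b + c = 6 := by exact_mod_cast hsum
  have ham : ((3 * (a : ℤ) - 18 : ℤ) : ℂ) = ((21 * m : ℤ) : ℂ) := by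
    push_cast
    linear_combination hm21 - ha
  have ham' : (3 * (a : ℤ) - 18) = 21 * m := by exact_mod_cast ham
  have hb0 : b = 0 := by omega
  have hc0' : c = 0 := by omega
  have ha6 : a = 6 := by omega
  rw [hb0, Nat.cast_zero, mul_zero] at hb
  rw [hc0', Nat.cast_zero, mul_zero] at hc
  rw [ha6] at ha
  push_cast at ha
  have hval : (χ : G → ℂ) h = (dg χ : ℂ) := by
    rw [hd]
    push_cast
    linear_combination (1 / 3 : ℂ) * ha + (ω ^ 2 / 3) * hb + (ω / 3) * hc -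
      (2 / 3 * (χ : G → ℂ) h * ω ^ 0 + 0) * hω + (-(χ : G → ℂ) (h ^ 2) / 3 - 2) * hωsum -
      ((χ : G → ℂ) (h ^ 2) * (ω + 0) / 3) * hω
  exact faithful_value hG (B.xs_ne_triv hχB) (fun e => by rw [e, orderOf_one] at hho; norm_num at hho) hval

/-- The possible orders of the centraliser of a good involution. -/
theorem cases_count {k C a n : ℕ} (hC : C = a * n) (hn : n % 7 = 1) (hdiv : C ∣ 443520) (hle : C ≤ 40320)
    (h11 : ¬ 11 ∣ C) (ha : a = 7 * 2 ^ k ∨ a = 21 * 2 ^ k) (hk : k = 3 ∨ k = 6) :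
    (k = 6 → C ∈ ([448, 1344, 6720, 20160] : List ℕ)) ∧
      (k = 3 → C ∈ ([56, 168, 840, 2016, 2520, 6720, 20160] : List ℕ) ∨
        ((C = 448 ∨ C = 1344) ∧ n = 8 ∧ (C = 1344 → a = 168) ∧ (C = 448 → a = 56))) := by
  have hd : C ∣ 40320 := dvd_40320 hdiv h11
  have key : ∀ a' ∈ ([56, 168, 448, 1344] : List ℕ), ((List.range 104).all fun j =>
      decide (40320 < a' * (7 * j + 1)) || (40320 % (a' * (7 * j + 1)) != 0) ||
      (if a' == 448 || a' == 1344 then ([448, 1344, 6720, 20160] : List ℕ).contains (a' * (7 * j + 1))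
        else ([56, 168, 840, 2016, 2520, 6720, 20160] : List ℕ).contains (a' * (7 * j + 1)) || (j == 1))) = true := by
    decide +kernel
  obtain ⟨j, rfl⟩ : ∃ j, n = 7 * j + 1 := ⟨n / 7, by omega⟩
  have hamem : a ∈ ([56, 168, 448, 1344] : List ℕ) := by
    rcases hk with rfl | rfl <;> rcases ha with rfl | rfl <;> simp
  have hj : j < 104 := by
    have h56 : 56 ≤ a := by rcases hk with rfl | rfl <;> rcases ha with rfl | rfl <;> norm_num
    nlinarith
  have h := List.all_eq_true.1 (key a hamem) j (List.mem_range.2 hj)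
  rw [← hC] at h
  simp only [Bool.or_eq_true, bne_iff_ne, ne_eq, decide_eq_true_eq] at h
  rcases h with (h | h) | h
  · omega
  · exact absurd (Nat.mod_eq_zero_of_dvd hd) h
  refine ⟨fun h6 => ?_, fun h3 => ?_⟩
  · subst h6
    rw [if_pos (by rcases ha with rfl | rfl <;> simp)] at h
    exact List.contains_iff_mem.1 h
  · subst h3
    rw [if_neg (by rcases ha with rfl | rfl <;> simp)] at h
    rw [Bool.or_eq_true, List.contains_iff_mem, beq_iff_eq] at h
    rcases h with h | rfl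
    · exact Or.inl h
    · right
      rcases ha with rfl | rfl <;> refine ⟨?_, by norm_num, fun h => ?_, fun h => ?_⟩ <;> omega

theorem good_involution_row (hG : IsM22 G) (F : Frame G 11 5) (hD : F.D ∈ A11) (hFt : F.t = 2) (P : Sylow 7 G)
    {e n : ℕ} (he : inIdx P = e) (hn : Nat.card (Sylow 7 G) = n) {z : G} (hz : orderOf z = 2)
    (hzP : z ∈ Subgroup.centralizer ((P : Subgroup G) : Set G)) :
    F.row z ∈ rows 11 5 2 F.D (cc z) ∧ joins e n (cc z) F.D (F.row z) = true := by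
  refine ⟨?_, joins_of_involution hG F hFt (card_sylow7 hG P) he hn hz hzP⟩
  have := F.row_mem hG (by norm_num) (by norm_num) hz
  rwa [hFt] at this

theorem cc_facts (hG : IsM22 G) {z : G} (hz : orderOf z = 2) :
    cc z ∣ 443520 ∧ cc z ≤ 40320 ∧ ¬ 11 ∣ cc z ∧ z ≠ 1 := by
  have hz1 : z ≠ 1 := fun e => by rw [e, orderOf_one] at hz; norm_num at hz
  exact ⟨card_eq hG ▸ Subgroup.card_subgroup_dvd_card _, cent_le hG hz1,
    not_eleven_dvd hG hz1 (by rw [hz]; norm_num), hz1⟩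

/-- A good involution: the count. -/
theorem good_count (hG : IsM22 G) (P : Sylow 7 G) {k : ℕ} (hk : k = 3 ∨ k = 6)
    (hN : Nat.card (Subgroup.normalizer ((P : Subgroup G) : Set G)) = 21 * 2 ^ k) {z : G} (hz : orderOf z = 2)
    (hzP : z ∈ Subgroup.centralizer ((P : Subgroup G) : Set G))
    (hd : 7 * 2 ^ k ∣ Nat.card (Subgroup.normalizer ((P : Subgroup G) : Set G) ⊓
      Subgroup.centralizer ({z} : Set G) : Subgroup G)) :
    (k = 6 → cc z ∈ ([448, 1344, 6720, 20160] : List ℕ)) ∧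
      (k = 3 → cc z ∈ ([56, 168, 840, 2016, 2520, 6720, 20160] : List ℕ) ∨
        ((cc z = 448 ∨ cc z = 1344) ∧
          (Subgroup.normalizer ((P : Subgroup G) : Set G)).relIndex (Subgroup.centralizer ({z} : Set G)) = 8 ∧
          (cc z = 1344 →
            Subgroup.normalizer ((P : Subgroup G) : Set G) ≤ Subgroup.centralizer ({z} : Set G)))) := by
  obtain ⟨h1, h2, h3, -⟩ := cc_facts hG hz
  obtain ⟨hc, hmod⟩ := cent_count hzP
  set A := Subgroup.normalizer ((P : Subgroup G) : Set G) ⊓ Subgroup.centralizer ({z} : Set G) with hA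
  have hle : Nat.card A ∣ 21 * 2 ^ k := hN ▸ Subgroup.card_dvd_of_le inf_le_left
  have ha : Nat.card A = 7 * 2 ^ k ∨ Nat.card A = 21 * 2 ^ k := by
    obtain ⟨q, hq⟩ := hd
    rw [hq] at hle
    have hq3 : q ∣ 3 := (Nat.mul_dvd_mul_iff_left (show 0 < 7 * 2 ^ k by positivity)).1
      (by rwa [show 7 * 2 ^ k * 3 = 21 * 2 ^ k by ring])
    rcases (Nat.dvd_prime (by norm_num)).1 hq3 with rfl | rfl
    · exact Or.inl (by rw [hq, mul_one])
    · exact Or.inr (by rw [hq]; ring)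
  obtain ⟨g6, g3⟩ := cases_count hc hmod h1 h2 h3 ha hk
  refine ⟨g6, fun h => ?_⟩
  rcases g3 h with g | ⟨gC, gn, ga, -⟩
  · exact Or.inl g
  · refine Or.inr ⟨gC, gn, fun h13 => ?_⟩
    have h168 := ga h13
    subst h
    have : A = Subgroup.normalizer ((P : Subgroup G) : Set G) :=
      Subgroup.eq_of_le_of_card_ge inf_le_left (by rw [hN, h168]; norm_num)
    exact this ▸ inf_le_right

theorem dvd_inf_centralizer {P : Sylow 7 G} {u : G} (hu : u ∈ Subgroup.centralizer ((P : Subgroup G) : Set G))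
    (hP : Nat.card (P : Subgroup G) = 7) :
    7 ∣ Nat.card (Subgroup.normalizer ((P : Subgroup G) : Set G) ⊓
      Subgroup.centralizer ({u} : Set G) : Subgroup G) := by
  have := Subgroup.card_dvd_of_le (le_inf Subgroup.le_normalizer (le_cent_iff hu) :
    (P : Subgroup G) ≤ Subgroup.normalizer ((P : Subgroup G) : Set G) ⊓ Subgroup.centralizer ({u} : Set G))
  rwa [hP] at this

end CfsgSimpleM22
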