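/-
The Sylow subgroups of order seven are self-centralising.
-/
import Cfsg.Agent.Lib.SimpleM22.SevenKill

set_option autoImplicit false
set_option linter.style.haveILetI false
set_option linter.unusedSectionVars false

namespace CfsgSimpleM22

open Cfsg CfsgLib.CharTheory CfsgSimpleM11
open CfsgLib.SmallSylow (inIdx)

universe u
variable {G : Type u} [Group G] [Fintype G]

theorem mem_evenCents {C : ℕ} (h : C ∣ 40320) (h2 : 2 ∣ C) : C ∈ evenCents := by
  obtain ⟨k, rfl⟩ := h2
  have key : ((List.range 20161).all fun k =>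
      (40320 % (2 * k) != 0) || (k == 0) || evenCents.contains (2 * k)) = true := by decide +kernel
  have hk : 2 * k ≤ 40320 := Nat.le_of_dvd (by norm_num) h
  have h1 := List.all_eq_true.1 key k (List.mem_range.2 (by omega))
  simp only [Bool.or_eq_true, bne_iff_ne, ne_eq, beq_iff_eq] at h1
  rcases h1 with (h1 | h1) | h1
  · exact absurd (Nat.mod_eq_zero_of_dvd h) h1
  · subst h1; simp at h
  · exact List.contains_iff_mem.1 h1

theorem cc_even {z : G} (hz : orderOf z = 2) : 2 ∣ cc z := by
  have := Subgroup.orderOf_dvd_natCard (Subgroup.centralizer ({z} : Set G))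
    (Subgroup.mem_centralizer_singleton_iff.mpr (rfl : z * z = z * z))
  rwa [hz] at this

theorem cc_mem_even (hG : IsM22 G) {z : G} (hz : orderOf z = 2) : cc z ∈ evenCents :=
  mem_evenCents (dvd_40320 (cc_facts hG hz).1 (cc_facts hG hz).2.2.1) (cc_even hz)

theorem row_mem2 (hG : IsM22 G) (F : Frame G 11 5) (hFt : F.t = 2) {z : G} (hz : orderOf z = 2) :
    F.row z ∈ rows 11 5 2 F.D (cc z) := by
  have := F.row_mem hG (by norm_num) (by norm_num) hz
  rwa [hFt] at this

theorem row_conj (F : Frame G 11 5) {a b : G} (h : IsConj a b) : F.row a = F.row b := by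
  simp only [Frame.row, ival_conj _ h]

theorem orderOf_two {a : G} (h : a * a = 1) (h1 : a ≠ 1) : orderOf a = 2 :=
  orderOf_eq_prime (by rw [pow_two]; exact h) h1

theorem mul_self_mul {a b : G} (ha : a * a = 1) (hb : b * b = 1) (h : Commute a b) : (a * b) * (a * b) = 1 := by
  rw [h.symm.mul_mul_mul_comm, ha, hb, one_mul]

theorem sq_of_order {a : G} (h : orderOf a = 2) : a * a = 1 := by
  rw [← pow_two, ← h, pow_orderOf_eq_one]

/-- The row extends to an elementary group of order eight. -/
theorem hasEight_of (hG : IsM22 G) (F : Frame G 11 5) (hFt : F.t = 2) {z b w : G} (hz : orderOf z = 2)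
    (hzb : IsConj z b) (hzw : IsConj z w) (czb : Commute z b) (czw : Commute z w) (cbw : Commute b w)
    (hzbzw : IsConj (z * b) (z * w)) (h128 : 128 ∣ cc (z * b)) (hzb1 : z * b ≠ 1) (hbw1 : b * w ≠ 1)
    (hzbw1 : z * b * w ≠ 1) : hasEight F.D (F.row z) = true := by
  classical
  have hb := (orderOf_of_isConj hzb).trans hz
  have hw := (orderOf_of_isConj hzw).trans hz
  have z2 := sq_of_order hz
  have b2 := sq_of_order hb
  have w2 := sq_of_order hw
  have ht := orderOf_two (mul_self_mul z2 b2 czb) hzb1
  have hu := orderOf_two (mul_self_mul b2 w2 cbw) hbw1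
  have hv := orderOf_two (mul_self_mul (mul_self_mul z2 b2 czb) w2 (Commute.mul_left czw cbw)) hzbw1
  have hB : ∀ {s u : G}, orderOf s = 2 → orderOf u = 2 →
      (biSum 11 5 (fOf 11 F.D) F.D (F.row s) (F.row u) == 0) = true :=
    fun hs hu => beq_iff_eq.mpr (F.bi_zero hG (by norm_num) (by norm_num) hs hu)
  have hR : ∀ {u : G}, orderOf u = 2 → F.row u ∈
      (evenCents.flatMap fun C => rows 11 5 2 F.D C).dedup.filter
        (fun v => biSum 11 5 (fOf 11 F.D) F.D (F.row z) v == 0) := fun hu =>
    List.mem_filter.2 ⟨List.mem_dedup.2 (List.mem_flatMap.2 ⟨_, cc_mem_even hG hu, row_mem2 hG F hFt hu⟩), hB hz hu⟩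
  simp only [hasEight, List.any_eq_true, Bool.and_eq_true]
  refine ⟨F.row (z * b), List.mem_filter.2 ⟨List.mem_dedup.2 (List.mem_flatMap.2 ⟨cc (z * b), ?_,
    row_mem2 hG F hFt ht⟩), hB hz ht⟩, F.row (b * w), List.mem_filter.2 ⟨hR hu, hB ht hu⟩,
    F.row (z * b * w), List.mem_filter.2 ⟨hR hv, hB ht hv⟩, hB hu hv, ?_⟩
  · exact List.mem_filter.2 ⟨cc_mem_even hG ht, beq_iff_eq.mpr (Nat.mod_eq_zero_of_dvd h128)⟩
  have key : ∀ L : List (IrrCharacter G), eightRow (L.map fun χ : IrrCharacter G => dg χ)
      (L.map fun χ : IrrCharacter G => ival χ z) (L.map fun χ : IrrCharacter G => ival χ (z * b))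
      (L.map fun χ : IrrCharacter G => ival χ (b * w))
      (L.map fun χ : IrrCharacter G => ival χ (z * b * w)) = true := by
    intro L
    induction L with
    | nil => rfl
    | cons χ r ih =>
      simp only [List.map_cons, eightRow, Bool.and_eq_true]
      refine ⟨?_, ih⟩
      simp only [eightOk, List.all_eq_true, Bool.and_eq_true, beq_iff_eq, decide_eq_true_eq]
      intro c hc e he k hk
      obtain ⟨m, hm⟩ := eight_mult χ z2 b2 w2 czb czw cbw (c := c) (e := e) (k := k)
        (by simpa using hc) (by simpa using he) (by simpa using hk)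
        (ival_inv hG χ hz) (show (χ : G → ℂ) b = (ival χ z : ℂ) by rw [ival_conj χ hzb]; exact ival_inv hG χ hb)
        (show (χ : G → ℂ) w = (ival χ z : ℂ) by rw [ival_conj χ hzw]; exact ival_inv hG χ hw)
        (ival_inv hG χ ht)
        (show (χ : G → ℂ) (z * w) = (ival χ (z * b) : ℂ) by
          rw [← irr_of_isConj χ hzbzw]; exact ival_inv hG χ ht)
        (ival_inv hG χ hu) (ival_inv hG χ hv)
      exact ⟨by rw [hm]; simp, by rw [hm]; positivity⟩
  have hlist : ∀ s : G, F.row s = (F.B.xs ++ [F.eta]).map fun χ : IrrCharacter G => ival χ s := fun s => by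
    rw [List.map_append]; rfl
  have hDeg : F.D ++ [fOf 11 F.D] = (F.B.xs ++ [F.eta]).map fun χ : IrrCharacter G => dg χ := by
    rw [List.map_append, F.fOf_eq hG, List.map_singleton, F.B.degY _ F.eta_mem]
    rfl
  rw [hDeg, hlist, hlist, hlist, hlist]
  exact key _

/-- A special involution has one of the last rows. -/
theorem last_of_special (hG : IsM22 G) (F : Frame G 11 5) (hD : F.D ∈ A11) (hFt : F.t = 2) (P : Sylow 7 G)
    {e : ℕ} (he : e = 3 ∨ e = 6) (heP : inIdx P = e) (hn : Nat.card (Sylow 7 G) = 2640)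
    (hN : Nat.card (Subgroup.normalizer ((P : Subgroup G) : Set G)) = 168)
    (hC2 : ∀ x ∈ Subgroup.centralizer ((P : Subgroup G) : Set G), orderOf x ≠ 3)
    {z : G} (hz : orderOf z = 2) (hzP : z ∈ Subgroup.centralizer ((P : Subgroup G) : Set G))
    (hn8 : (Subgroup.normalizer ((P : Subgroup G) : Set G)).relIndex (Subgroup.centralizer ({z} : Set G)) = 8)
    (hcc : cc z = 448 ∨ cc z = 1344) :
    (F.D, F.row z) ∈ lastRows ∧ cc z = 1344 ∧
      (e = 3 → F.row z = [6, -3, 8, 24, 8]) := by
  obtain ⟨hrow, hj⟩ := good_involution_row hG F hD hFt P heP hn hz hzP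
  have hsp : (F.D, F.row z) ∈ specials := by
    rcases hcc with hC | hC <;> rw [hC] at hrow hj
    · rcases he with rfl | rfl
      · exact special_of_specT l7b_eq spec_b448 (row_of_tbl tbl448_ok hD hrow) hj
      · exact special_of_specT l7c_eq spec_c448 (row_of_tbl tbl448_ok hD hrow) hj
    · rcases he with rfl | rfl
      · exact special_of_specT l7b_eq spec_b1344 (row_of_tbl tbl1344_ok hD hrow) hj
      · exact special_of_specT l7c_eq spec_c1344 (row_of_tbl tbl1344_ok hD hrow) hj
  obtain ⟨b, w, h1, h2, h3, h4, h5, h6, h7, h8, h9, h10, -⟩ := exists_eight hG P hN hC2 hz hzP hn8 hcc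
  have hl := List.all_eq_true.1 eight_specials _ hsp
  rw [hasEight_of hG F hFt hz h1 h2 h3 h4 h5 h6 h7 h8 h9 h10, Bool.not_true, Bool.false_or] at hl
  have hl' := List.contains_iff_mem.1 hl
  have h13 : cc z = 1344 := by
    rcases hcc with hC | hC
    · exfalso
      rw [hC] at hrow
      have h := List.all_eq_true.1 last_not_448 _ hl'
      simp [row_of_tbl tbl448_ok hD hrow] at h
    · exact hC
  refine ⟨hl', h13, fun h3e => ?_⟩
  subst h3e
  rw [h13] at hrow hj
  have h := List.all_eq_true.1 last_three _ (row_of_tbl tbl1344_ok hD hrow)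
  have hj' : joinsL l7b 3 1344 F.D (F.row z) = true := by rw [joins, l7b_eq] at hj; exact hj
  simp only [hj', hl, Bool.not_true, Bool.false_or, beq_iff_eq, Prod.mk.injEq] at h
  exact h.2

theorem D_of_last {D : List ℕ} {x : List ℤ} (h : (D, x) ∈ lastRows) : D = [10, 45, 120, 144] := by
  simp only [lastRows, List.mem_cons, Prod.mk.injEq, List.not_mem_nil, or_false] at h
  rcases h with h | h <;> exact h.1

/-- Inertial index six: the column of an element of order seven. -/
theorem no_six (hG : IsM22 G) (F : Frame G 11 5) (hFD : F.D = [10, 45, 120, 144]) (P : Sylow 7 G)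
    (he : inIdx P = 6) (hC : Nat.card (Subgroup.centralizer ((P : Subgroup G) : Set G)) = 28) : False := by
  classical
  have hP : Nat.card P = 7 := card_sylow7 hG P
  obtain ⟨B⟩ := exists_BL (by norm_num) P hP (two_le_e hG P hP)
  obtain ⟨x, hx, hx1⟩ := CfsgLib.SmallSylow.exists_mem_ne P hP
  have hxo := CfsgLib.SmallSylow.orderOf_mem P hP hx hx1
  have hcx : cc x = 28 := by
    show Nat.card (Subgroup.centralizer ({x} : Set G)) = 28
    rw [CfsgLib.SmallSylow.centralizer_eq P hP hx hx1, hC]
  have hno : ¬ 11 ∣ orderOf x := by rw [hxo]; norm_num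
  have hf : fOf 11 F.D = 60 := by rw [hFD]; decide +kernel
  have hget : ∀ d ∈ ([10, 45, 144] : List ℕ), ∃ χ ∈ F.B.xs, dg χ = d ∧
      ∀ ψ ∈ F.B.xs ++ F.B.ys, dg ψ = d → ψ = χ := by
    intro d hd
    have hm : d ∈ F.D := by rw [hFD]; fin_cases hd <;> simp
    obtain ⟨χ, hχ, hχd⟩ := List.mem_map.1 hm
    refine ⟨χ, hχ, hχd, fun ψ hψ hψd => ?_⟩
    rcases List.mem_append.1 hψ with hψ | hψ
    · refine List.inj_on_of_nodup_map ?_ hψ hχ (hψd.trans hχd.symm)
      show F.D.Nodup
      rw [hFD]; decide
    · rw [F.B.degY ψ hψ, ← F.fOf_eq hG, hf] at hψd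
      subst hψd
      simp at hd
  obtain ⟨c1, h1, d1, u1⟩ := hget 10 (by simp)
  obtain ⟨c2, h2, d2, u2⟩ := hget 45 (by simp)
  obtain ⟨c3, h3, d3, u3⟩ := hget 144 (by simp)
  have hge : ∀ χ ∈ F.B.xs, (∀ ψ ∈ F.B.xs ++ F.B.ys, dg ψ = dg χ → ψ = χ) → (dg χ % 7 = 3 ∨ dg χ % 7 = 4) →
      (χ : G → ℂ) x = (ival χ x : ℂ) ∧ 9 ≤ ival χ x ^ 2 := by
    intro χ hχ hu hmod
    obtain ⟨v, hv⟩ := int_of_unique hG F hχ hu hno
    refine ⟨ival_spec hv, ?_⟩
    have h := modEq_degree χ (p := 7) (k := 1) (by rw [pow_one, ← hxo, pow_orderOf_eq_one]) hv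
    rw [ival_eq hv]
    simp only [Int.ModEq] at h
    rcases (show v ≤ -3 ∨ 3 ≤ v by omega) with h' | h' <;> nlinarith
  have hu1 := hge c1 h1 (by rw [d1]; exact u1) (by rw [d1]; norm_num)
  have hu2 := hge c2 h2 (by rw [d2]; exact u2) (by rw [d2]; norm_num)
  have hu3 := hge c3 h3 (by rw [d3]; exact u3) (by rw [d3]; norm_num)
  have hblock : ∀ χ ∈ B.chars, (χ : G → ℂ) x = (ival χ x : ℂ) ∧ ival χ x ^ 2 = 1 := by
    intro χ hχ
    have hone : ∀ (s : ℤ), (s = 1 ∨ s = -1) → (χ : G → ℂ) x = (s : ℂ) →
        (χ : G → ℂ) x = (ival χ x : ℂ) ∧ ival χ x ^ 2 = 1 := fun s hs h => by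
      refine ⟨ival_spec h, ?_⟩
      rw [ival_eq h]
      rcases hs with rfl | rfl <;> norm_num
    rcases List.mem_cons.1 hχ with e | hχ
    · subst e
      exact hone 1 (Or.inl rfl) (by rw [triv_apply, Int.cast_one])
    rcases List.mem_append.1 hχ with hχ | hχ
    · have h := B.valX χ hχ x hx hx1 1 (Subgroup.one_mem _) (by rw [orderOf_one]; norm_num)
      rw [mul_one] at h
      exact hone _ (sgn_sign 7 (dg χ)) h
    · have h := B.sumY x hx hx1 1 (Subgroup.one_mem _) (by rw [orderOf_one]; norm_num)
      simp only [mul_one] at h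
      have hl : B.ys.length = 1 := by have := B.len_ys; rw [he] at this; omega
      obtain ⟨a, ha⟩ := List.length_eq_one_iff.1 hl
      have : χ = a := by simpa [ha] using hχ
      subst this
      rw [ha, List.map_singleton, List.sum_singleton] at h
      exact hone _ (sgE_sign 7 (inIdx P) B.f) h
  have hlen : B.chars.length = 7 := by
    have h5 : B.xs.length = 5 := by have := B.len_xs; omega
    have h6 : B.ys.length = 1 := by have := B.len_ys; rw [he] at this; omega
    simp [BL.chars, h5, h6]
  have hnotin : ∀ χ : IrrCharacter G, (dg χ % 7 = 3 ∨ dg χ % 7 = 4) → χ ∉ B.chars := by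
    intro χ hmod hχ
    rcases List.mem_cons.1 hχ with e | hχ
    · rw [e, dg_triv] at hmod; omega
    rcases List.mem_append.1 hχ with hχ | hχ
    · have := B.modX χ hχ; omega
    · rw [B.degY χ hχ] at hmod; have := B.modf; rw [he] at this; omega
  have hnd : ([c1, c2, c3] : List (IrrCharacter G)).Nodup := by
    simp only [List.nodup_cons, List.mem_cons, List.not_mem_nil, or_false, List.nodup_nil, and_true,
      not_or, not_false_eq_true]
    refine ⟨⟨fun e => ?_, fun e => ?_⟩, fun e => ?_⟩
    · rw [e, d2] at d1; norm_num at d1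
    · rw [e, d3] at d1; norm_num at d1
    · rw [e, d3] at d2; norm_num at d2
  have hdisj : ∀ a ∈ B.chars, ∀ b ∈ ([c1, c2, c3] : List (IrrCharacter G)), a ≠ b := by
    intro a ha b hb e
    subst e
    simp only [List.mem_cons, List.not_mem_nil, or_false] at hb
    rcases hb with e | e | e <;> subst e
    · exact hnotin _ (by rw [d1]; norm_num) ha
    · exact hnotin _ (by rw [d2]; norm_num) ha
    · exact hnotin _ (by rw [d3]; norm_num) ha
  have hb := norm_le (s := (B.chars ++ [c1, c2, c3]).toFinset) (g := x) (fun χ => ival χ x) (fun χ hχ => by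
    rcases List.mem_append.1 (List.mem_toFinset.1 hχ) with h | h
    · exact (hblock χ h).1
    · simp only [List.mem_cons, List.not_mem_nil, or_false] at h
      rcases h with e | e | e <;> subst e
      exacts [hu1.1, hu2.1, hu3.1])
  rw [hcx, List.sum_toFinset (l := B.chars ++ [c1, c2, c3]) _ (List.nodup_append.2 ⟨B.nodup, hnd, hdisj⟩), List.map_append, List.sum_append,
    List.map_congr_left (l := B.chars) (g := fun _ => (1 : ℤ)) (fun χ hχ => (hblock χ hχ).2),
    List.map_const', List.sum_replicate, hlen] at hb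
  simp only [List.map_cons, List.map_nil, List.sum_cons, List.sum_nil] at hb
  have := hu1.2; have := hu2.2; have := hu3.2
  norm_num at hb
  omega

/-- Inertial index three. -/
theorem no_three (hG : IsM22 G) (F : Frame G 11 5) (hD : F.D ∈ A11) (hFt : F.t = 2) (hFD : F.D = [10, 45, 120, 144])
    (P : Sylow 7 G) (he : inIdx P = 3) (hn : Nat.card (Sylow 7 G) = 2640)
    (hC : Nat.card (Subgroup.centralizer ((P : Subgroup G) : Set G)) = 56)
    (hN : Nat.card (Subgroup.normalizer ((P : Subgroup G) : Set G)) = 168)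
    (hC2 : ∀ x ∈ Subgroup.centralizer ((P : Subgroup G) : Set G), orderOf x ≠ 3)
    {z : G} (hz : orderOf z = 2) (hzP : z ∈ Subgroup.centralizer ((P : Subgroup G) : Set G))
    (hn8 : (Subgroup.normalizer ((P : Subgroup G) : Set G)).relIndex (Subgroup.centralizer ({z} : Set G)) = 8)
    (h13 : cc z = 1344) (hrow : F.row z = [6, -3, 8, 24, 8])
    (hNC : Subgroup.normalizer ((P : Subgroup G) : Set G) ≤ Subgroup.centralizer ({z} : Set G)) : False := by
  classical
  haveI : Fact (Nat.Prime 2) := ⟨by norm_num⟩
  have hP : Nat.card (P : Subgroup G) = 7 := card_sylow7 hG P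
  set CP := Subgroup.centralizer ((P : Subgroup G) : Set G) with hCP
  set N := Subgroup.normalizer ((P : Subgroup G) : Set G) with hNdef
  set C := Subgroup.centralizer ({z} : Set G) with hCdef
  have hCN : CP ≤ N := Subgroup.centralizer_le_normalizer _
  -- the normal Sylow two-subgroup of the centraliser of P
  obtain ⟨R⟩ := (inferInstance : Nonempty (Sylow 2 CP))
  have hRcard : Nat.card (R : Subgroup CP) = 8 := by
    rw [Sylow.card_eq_multiplicity, hC, CfsgLib.Order7920.fac_eq (k := 3) (by norm_num) (by norm_num)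
      (by norm_num) (by norm_num)]
    norm_num
  have hPC : (P : Subgroup G) ≤ CP := by
    haveI : IsCyclic (P : Subgroup G) := isCyclic_of_prime_card (p := 7) hP
    exact Subgroup.le_centralizer (P : Subgroup G)
  haveI hRn : (R : Subgroup CP).Normal := by
    rw [← Subgroup.normalizer_eq_top_iff]
    refine Subgroup.eq_top_of_card_eq _ (Nat.dvd_antisymm (Subgroup.card_subgroup_dvd_card _) ?_)
    rw [hC, show (56 : ℕ) = 7 * 8 from rfl]
    refine Nat.Coprime.mul_dvd_of_dvd_of_dvd (by norm_num) ?_ ?_
    · have hle : (P : Subgroup G).subgroupOf CP ≤ Subgroup.normalizer ((R : Subgroup CP) : Set CP) := by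
        intro p hp
        refine Subgroup.mem_normalizer_iff.mpr fun q => ?_
        have hpq : p * q * p⁻¹ = q := by
          apply Subtype.ext
          show (p : G) * q * (p : G)⁻¹ = q
          rw [Subgroup.mem_centralizer_iff.mp q.2 p hp, mul_inv_cancel_right]
        rw [hpq]
      have := Subgroup.card_dvd_of_le hle
      rwa [Nat.card_congr (Subgroup.subgroupOfEquivOfLe hPC).toEquiv, hP] at this
    · have := Subgroup.card_dvd_of_le (Subgroup.le_normalizer (H := (R : Subgroup CP)))
      rwa [hRcard] at this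
  set H0 := (R : Subgroup CP).map CP.subtype with hH0
  have hH0card : Nat.card H0 = 8 := by rw [hH0, Subgroup.card_map_of_injective CP.subtype_injective, hRcard]
  have hH0C : H0 ≤ CP := Subgroup.map_subtype_le _
  have hinH0 : ∀ g ∈ CP, orderOf g ∣ 8 → g ∈ H0 := by
    intro g hg hg8
    obtain ⟨i, -, hi⟩ := (Nat.dvd_prime_pow Nat.prime_two).mp (show orderOf g ∣ 2 ^ 3 from hg8)
    obtain ⟨R', hR'⟩ := (IsPGroup.of_card (n := i) (show Nat.card (Subgroup.zpowers (⟨g, hg⟩ : CP)) = 2 ^ i by
      rw [Nat.card_zpowers, Subgroup.orderOf_mk, hi])).exists_le_sylow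
    haveI : Subsingleton (Sylow 2 CP) := @Unique.instSubsingleton _ (Sylow.unique_of_normal R hRn)
    rw [Subsingleton.elim R' R] at hR'
    exact ⟨⟨g, hg⟩, hR' (Subgroup.mem_zpowers _), rfl⟩
  have hzH : z ∈ H0 := hinH0 z hzP (by rw [hz]; norm_num)
  have hz2 := sq_of_order hz
  by_cases hu : ∃ u ∈ CP, orderOf u = 2 ∧ u ≠ z
  · obtain ⟨u, huC, huo, huz⟩ := hu
    have hu2 := sq_of_order huo
    have hcomm : Commute z u := (Subgroup.mem_centralizer_singleton_iff.mp (hNC (hCN huC))).symm
    set A := N ⊓ Subgroup.centralizer ({u} : Set G) with hA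
    have h7 : 7 ∣ Nat.card A := dvd_inf_centralizer huC hP
    have h4 : 4 ∣ Nat.card A := by
      set E := A ⊓ H0 with hE
      have hdvd8 : Nat.card E ∣ 2 ^ 3 := by
        have := Subgroup.card_dvd_of_le (inf_le_right : E ≤ H0); rwa [hH0card] at this
      obtain ⟨i, -, hi⟩ := (Nat.dvd_prime_pow Nat.prime_two).mp hdvd8
      have huH := hinH0 u huC (by rw [huo]; norm_num)
      have huA : u ∈ A := ⟨hCN huC, Subgroup.mem_centralizer_singleton_iff.mpr rfl⟩
      have hzA : z ∈ A := ⟨hCN hzP, Subgroup.mem_centralizer_singleton_iff.mpr hcomm.eq⟩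
      have hsub : ({1, z, u} : Finset G) ⊆ (E : Set G).toFinset := by
        intro g hg
        simp only [Finset.mem_insert, Finset.mem_singleton] at hg
        rw [Set.mem_toFinset]
        rcases hg with rfl | rfl | rfl
        · exact one_mem E
        · exact ⟨hzA, hzH⟩
        · exact ⟨huA, huH⟩
      have h3 : 3 ≤ Nat.card E := by
        have h := Finset.card_le_card hsub
        rw [Set.toFinset_card, ← Nat.card_eq_fintype_card] at h
        refine le_trans (le_of_eq ?_) h
        have n1 : z ≠ 1 := fun e => by rw [e, orderOf_one] at hz; norm_num at hz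
        have n2 : u ≠ 1 := fun e => by rw [e, orderOf_one] at huo; norm_num at huo
        rw [Finset.card_insert_of_notMem (by simp [Ne.symm n1, Ne.symm n2]),
          Finset.card_insert_of_notMem (by simpa using fun e => huz e.symm), Finset.card_singleton]
      have h4i : 4 ∣ Nat.card E := by
        rw [hi] at h3 ⊢
        have : 2 ≤ i := by by_contra hlt; interval_cases i <;> simp at h3
        exact (show (4 : ℕ) = 2 ^ 2 from rfl) ▸ pow_dvd_pow 2 this
      exact h4i.trans (Subgroup.card_dvd_of_le inf_le_left)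
    have h28 : 28 ∣ Nat.card A := Nat.Coprime.mul_dvd_of_dvd_of_dvd (by norm_num : Nat.Coprime 4 7) h4 h7
    have h168 : Nat.card A ∣ 168 := hN ▸ Subgroup.card_dvd_of_le inf_le_left
    by_cases h56 : 56 ∣ Nat.card A
    · obtain ⟨-, h3⟩ := good_count hG P (k := 3) (Or.inl rfl) (by rw [hN]; norm_num) huo huC h56
      obtain ⟨hurow, huj⟩ := good_involution_row hG F hD hFt P he hn huo huC
      rcases h3 rfl with hmem | ⟨hcc, hu8, huN⟩
      · have hdead : joins 3 2640 (cc u) F.D (F.row u) = false := by
          simp only [List.mem_cons, List.not_mem_nil, or_false] at hmem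
          rcases hmem with e | e | e | e | e | e | e <;> rw [e] at hurow ⊢
          · exact not_joins_of_deadT l7b_eq dead_b56 (row_of_tbl tbl56_ok hD hurow)
          · exact not_joins_of_deadT l7b_eq dead_b168 (row_of_tbl tbl168_ok hD hurow)
          · exact not_joins_of_deadT l7b_eq dead_b840 (row_of_tbl tbl840_ok hD hurow)
          · exact not_joins_of_deadT l7b_eq dead_b2016 (row_of_tbl tbl2016_ok hD hurow)
          · exact not_joins_of_deadT l7b_eq dead_b2520 (row_of_tbl tbl2520_ok hD hurow)
          · exact not_joins_of_deadT l7b_eq dead_b6720 (row_of_tbl tbl6720_ok hD hurow)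
          · exact not_joins_of_deadT l7b_eq dead_b20160 (row_of_tbl tbl20160_ok hD hurow)
        rw [hdead] at huj
        exact absurd huj (by simp)
      obtain ⟨-, hu13, hur⟩ := last_of_special hG F hD hFt P (Or.inl rfl) he hn hN hC2 huo huC hu8 hcc
      have hNu := huN hu13
      have hnc : ¬ IsConj z u := by
        intro hconj
        obtain ⟨g, hg⟩ := isConj_iff.mp hconj
        have hle1 : (P : Subgroup G) ≤ C := le_cent_iff hzP
        have hle2 : ((g⁻¹ • P : Sylow 7 G) : Subgroup G) ≤ C := by
          intro y hy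
          rw [Sylow.coe_subgroup_smul, Subgroup.mem_pointwise_smul_iff_inv_smul_mem] at hy
          have hy' : g * y * g⁻¹ ∈ (P : Subgroup G) := by simpa [MulAut.smul_def] using hy
          have h1 := Subgroup.mem_centralizer_singleton_iff.mp (le_cent_iff huC hy')
          rw [← hg] at h1
          refine Subgroup.mem_centralizer_singleton_iff.mpr ?_
          calc y * z = g⁻¹ * (g * y * g⁻¹ * (g * z * g⁻¹)) * g := by group
            _ = g⁻¹ * (g * z * g⁻¹ * (g * y * g⁻¹)) * g := by rw [h1]
            _ = z * y := by group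
        obtain ⟨c, hc⟩ := MulAction.exists_smul_eq C (P.subtype hle1) ((g⁻¹ • P).subtype hle2)
        rw [Sylow.smul_subtype hle1] at hc
        have hPe : ((c : G) • P : Sylow 7 G) = g⁻¹ • P := Sylow.subtype_injective (hP := _) (hQ := _) hc
        have hgc : g * (c : G) ∈ N :=
          Sylow.smul_eq_iff_mem_normalizer.mp (by rw [mul_smul, hPe, smul_inv_smul])
        have h1 := Subgroup.mem_centralizer_singleton_iff.mp (hNC hgc)
        have h2 := Subgroup.mem_centralizer_singleton_iff.mp c.2
        refine huz ?_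
        rw [← hg]
        calc g * z * g⁻¹ = g * (z * (c : G)) * (c : G)⁻¹ * g⁻¹ := by group
          _ = (g * (c : G) * z) * (g * (c : G))⁻¹ := by rw [← h2]; group
          _ = z := by rw [h1, mul_inv_cancel_right]
      set L := F.B.xs ++ F.B.ys with hL
      have hb := gram_le (s := (triv G :: L).toFinset) hnc (fun χ => ival χ z) (fun χ => ival χ u)
        (fun χ _ => ival_inv hG χ hz) (fun χ _ => ival_inv hG χ huo)
      have hEz : L.map (fun χ : IrrCharacter G => (dg χ, ival χ z)) =
          expand 2 60 [10, 45, 120, 144] [6, -3, 8, 24, 8] := by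
        rw [← hrow, ← hFD, ← hFt, show (60 : ℕ) = fOf 11 F.D by rw [hFD]; decide +kernel]
        exact F.expand_eq hG (not_dvd_two (by norm_num) hz) fun χ => ⟨_, ival_inv hG χ hz⟩
      have hEu : L.map (fun χ : IrrCharacter G => (dg χ, ival χ u)) =
          expand 2 60 [10, 45, 120, 144] [6, -3, 8, 24, 8] := by
        rw [← hur rfl, ← hFD, ← hFt, show (60 : ℕ) = fOf 11 F.D by rw [hFD]; decide +kernel]
        exact F.expand_eq hG (not_dvd_two (by norm_num) huo) fun χ => ⟨_, ival_inv hG χ huo⟩
      have heq : ∀ χ ∈ L, ival χ u = ival χ z := fun χ hχ =>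
        congrArg Prod.snd (List.map_inj_left.mp (hEu.trans hEz.symm) χ hχ)
      have hsumz : (L.map fun χ : IrrCharacter G => ival χ z * ival χ z).sum = 813 := by
        have := congrArg (fun l : List (ℕ × ℤ) => (l.map fun a => a.2 * a.2).sum) hEz
        simp only [List.map_map] at this
        exact this.trans (by decide +kernel)
      rw [List.sum_toFinset _ F.B.nodup, List.sum_toFinset _ F.B.nodup, List.sum_toFinset _ F.B.nodup] at hb
      simp only [List.map_cons, List.sum_cons, ival_triv, h13, hu13] at hb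
      rw [List.map_congr_left (g := fun χ : IrrCharacter G => ival χ z * ival χ z)
          (fun χ hχ => by rw [heq χ hχ]),
        List.map_congr_left (f := fun χ : IrrCharacter G => ival χ z ^ 2)
          (g := fun χ : IrrCharacter G => ival χ z * ival χ z) (fun χ _ => pow_two _),
        List.map_congr_left (f := fun χ : IrrCharacter G => ival χ u ^ 2)
          (g := fun χ : IrrCharacter G => ival χ z * ival χ z) (fun χ hχ => by rw [heq χ hχ, pow_two]),
        hsumz] at hb
      norm_num at hb
    · have ha : Nat.card A = 28 ∨ Nat.card A = 84 := by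
        obtain ⟨q, hq⟩ := h28
        rw [hq] at h168 h56 ⊢
        have hq6 : q ∣ 6 := (Nat.mul_dvd_mul_iff_left (show 0 < 28 by norm_num)).1 h168
        have : q ≤ 6 := Nat.le_of_dvd (by norm_num) hq6
        interval_cases q <;> omega
      obtain ⟨hc, hmod⟩ := cent_count huC
      obtain ⟨h1, h2, h3, -⟩ := cc_facts hG huo
      obtain ⟨hurow, huj⟩ := good_involution_row hG F hD hFt P he hn huo huC
      have key : ∀ a' ∈ ([28, 84] : List ℕ), ((List.range 206).all fun j =>
          (40320 % (a' * (7 * j + 1)) != 0) ||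
            ([28, 84, 224, 420, 672, 1008, 1260, 3360, 8064, 10080] : List ℕ).contains (a' * (7 * j + 1))) = true := by
        decide +kernel
      have hmod' : N.relIndex (Subgroup.centralizer ({u} : Set G)) % 7 = 1 := hmod
      obtain ⟨j, hj⟩ : ∃ j, N.relIndex (Subgroup.centralizer ({u} : Set G)) = 7 * j + 1 :=
        ⟨N.relIndex (Subgroup.centralizer ({u} : Set G)) / 7, by omega⟩
      rw [hj] at hc
      change cc u = Nat.card A * (7 * j + 1) at hc
      have hdvd : cc u ∣ 40320 := dvd_40320 h1 h3
      have hj2 : j < 206 := by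
        have : 28 ≤ Nat.card A := by omega
        nlinarith
      have hk := List.all_eq_true.1 (key (Nat.card A) (by rcases ha with e | e <;> rw [e] <;> simp)) j
        (List.mem_range.2 hj2)
      rw [← hc] at hk
      simp only [Nat.mod_eq_zero_of_dvd hdvd, bne_self_eq_false, Bool.false_or] at hk
      have hl := last_noncentral (cc u) (List.contains_iff_mem.1 hk)
      rw [hFD] at hurow huj
      have hl2 := List.all_eq_true.1 hl _ hurow
      rw [joins, l7b_eq] at huj
      rw [huj] at hl2
      exact absurd hl2 (by simp)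
  · push Not at hu
    obtain ⟨b, w, hzb, hzw, czb, czw, cbw, hzbzw, -, hzb1, hbw1, hzbw1, S, τ, hSC, hScard, hτS, hbdef⟩ :=
      exists_eight hG P hN hC2 hz hzP hn8 (Or.inr h13)
    have hbo := (orderOf_of_isConj hzb).trans hz
    have hwo := (orderOf_of_isConj hzw).trans hz
    have hb2 := sq_of_order hbo
    have hw2 := sq_of_order hwo
    have hbne : b ≠ z := fun e => hzb1 (by rw [e, hz2])
    have huniq : ∀ h ∈ H0, h * h = 1 → h = 1 ∨ h = z := fun h hh h2 => by
      by_cases h1 : h = 1
      · exact Or.inl h1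
      · exact Or.inr (hu h (hH0C hh) (orderOf_two h2 h1))
    have hPle : (P : Subgroup G) ≤ C := le_cent_iff hzP
    -- the subgroup of order eight normalises every Sylow subgroup of order seven of C
    have hfix : ∀ h ∈ H0, ∀ c : C, (c : G)⁻¹ * h * (c : G) ∈ N := by
      intro h hh c
      haveI : Finite (C ⧸ N.subgroupOf C) := inferInstance
      have hhC : h ∈ C := hNC (hCN (hH0C hh))
      set hC' : C := ⟨h, hhC⟩
      set q : C ⧸ N.subgroupOf C := QuotientGroup.mk c with hq
      obtain ⟨x, hx, hx1⟩ := CfsgLib.SmallSylow.exists_mem_ne P hP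
      have hxo := CfsgLib.SmallSylow.orderOf_mem P hP hx hx1
      set x' : C := ⟨x, hPle hx⟩
      have hx7 : x' ^ 7 = 1 := by
        apply Subtype.ext
        show x ^ 7 = 1
        rw [← hxo, pow_orderOf_eq_one]
      have hxh : Commute hC' x' := by
        apply Subtype.ext
        exact (Subgroup.mem_centralizer_iff.mp (hH0C hh) x hx).symm
      have hh8 : hC' ^ 8 = 1 := by
        apply Subtype.ext
        have := pow_card_eq_one' (x := (⟨h, hh⟩ : H0))
        rw [hH0card] at this
        simpa [hC'] using congrArg Subtype.val this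
      suffices hq' : hC' • q = q by
        have h1 := QuotientGroup.eq.mp (show QuotientGroup.mk (hC' * c) = QuotientGroup.mk c from hq')
        rw [Subgroup.mem_subgroupOf] at h1
        have h2 : ((c : G)⁻¹ * h⁻¹ * (c : G))⁻¹ ∈ N := N.inv_mem (by simpa [mul_assoc] using h1)
        simpa [mul_assoc] using h2
      set base : C ⧸ N.subgroupOf C := QuotientGroup.mk 1 with hbase
      have hfb : ∀ y : C, y • base = base ↔ (y : G) ∈ N := fun y => by
        show QuotientGroup.mk (y * 1) = QuotientGroup.mk 1 ↔ _
        rw [QuotientGroup.eq, mul_one, mul_one, Subgroup.mem_subgroupOf]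
        exact ⟨fun h => by simpa using N.inv_mem h, fun h => by simpa using N.inv_mem h⟩
      by_cases hqb : q = base
      · rw [hqb, hfb]; exact hCN (hH0C hh)
      have hcard : Nat.card (C ⧸ N.subgroupOf C) = 8 := hn8
      have hxbase : x' • base = base := (hfb x').mpr (Subgroup.le_normalizer hx)
      have hnofix : ∀ c' : C ⧸ N.subgroupOf C, x' • c' = c' → c' = base := by
        intro c'
        induction c' using QuotientGroup.induction_on with
        | H y =>
          intro hy
          have h1 := QuotientGroup.eq.mp (show QuotientGroup.mk (x' * y) = QuotientGroup.mk y from hy)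
          rw [Subgroup.mem_subgroupOf] at h1
          have hyx : ((y : G)⁻¹ * x * (y : G)) ∈ N := by
            have := N.inv_mem h1
            simpa [mul_assoc] using this
          haveI hnP : ((P : Subgroup G).subgroupOf N).Normal := Subgroup.normal_in_normalizer
          have hyP : (y : G)⁻¹ * x * (y : G) ∈ (P : Subgroup G) := by
            obtain ⟨R', hR'⟩ := (IsPGroup.of_card (n := 1)
              (show Nat.card (Subgroup.zpowers (⟨_, hyx⟩ : N)) = 7 ^ 1 by
                rw [Nat.card_zpowers, Subgroup.orderOf_mk, pow_one,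
                  show (y : G)⁻¹ * x * (y : G) = MulAut.conj (y : G)⁻¹ x by simp, MulEquiv.orderOf_eq,
                  hxo])).exists_le_sylow
            have hPn : ((P.subtype (Subgroup.le_normalizer) : Sylow 7 N) : Subgroup N).Normal := by
              rw [Sylow.coe_subtype]; exact hnP
            haveI : Subsingleton (Sylow 7 N) := @Unique.instSubsingleton _ (Sylow.unique_of_normal _ hPn)
            rw [Subsingleton.elim R' (P.subtype Subgroup.le_normalizer)] at hR'
            exact hR' (Subgroup.mem_zpowers _)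
          have hz' : Subgroup.zpowers ((y : G)⁻¹ * x * (y : G)) = (P : Subgroup G) :=
            (CfsgLib.Blocks.DefectOne.zpowers_eq (CfsgLib.Blocks.DefectOne.setup_sylow P hP) hP hyP (fun e => hx1
              (by simpa [mul_assoc] using congrArg (fun g => (y : G) * g * (y : G)⁻¹) e))).1
          have hzx : Subgroup.zpowers x = (P : Subgroup G) :=
            (CfsgLib.Blocks.DefectOne.zpowers_eq (CfsgLib.Blocks.DefectOne.setup_sylow P hP) hP hx hx1).1
          have hyN : (y : G)⁻¹ ∈ N := by
            have hmap : (P : Subgroup G).map (MulAut.conj (y : G)⁻¹).toMonoidHom = (P : Subgroup G) := by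
              conv_lhs => rw [← hzx]
              rw [MonoidHom.map_zpowers, ← hz']
              simp
            refine Subgroup.mem_normalizer_iff.mpr fun n => ⟨fun hn => ?_, fun hn => ?_⟩
            · rw [← hmap]; exact Subgroup.mem_map_of_mem _ hn
            · rw [← hmap] at hn
              obtain ⟨m, hm, hm'⟩ := hn
              simp only [MulEquiv.coe_toMonoidHom, MulAut.conj_apply, mul_left_inj, mul_right_inj] at hm'
              exact hm' ▸ hm
          show QuotientGroup.mk y = QuotientGroup.mk 1
          rw [QuotientGroup.eq, mul_one, Subgroup.mem_subgroupOf]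
          simpa using hyN
      -- the orbit of q under x
      let o : Fin 7 → C ⧸ N.subgroupOf C := fun i => x' ^ (i : ℕ) • q
      have ho_inj : Function.Injective o := by
        intro i j hij
        by_contra hne
        refine hqb (hnofix q ?_)
        have hfix' : ∀ a b : ℕ, a < b → b < 7 → x' ^ a • q = x' ^ b • q → x' • q = q := by
          intro a b hab hb7 he'
          have hd : x' ^ (b - a) • q = q := by
            have := congrArg (fun t => (x' ^ a)⁻¹ • t) he'
            simp only [inv_smul_smul] at this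
            rw [show x' ^ (b - a) = (x' ^ a)⁻¹ * x' ^ b by
              rw [eq_inv_mul_iff_mul_eq, ← pow_add]; congr 1; omega, mul_smul]
            exact this.symm
          obtain ⟨k, hk⟩ : ∃ k, (b - a) * k % 7 = 1 := by
            have : b - a < 7 := by omega
            have : 0 < b - a := by omega
            interval_cases (b - a)
            exacts [⟨1, rfl⟩, ⟨4, rfl⟩, ⟨5, rfl⟩, ⟨2, rfl⟩, ⟨3, rfl⟩, ⟨6, rfl⟩]
          have hpow : ∀ t : ℕ, (x' ^ (b - a)) ^ t • q = q := fun t => by
            induction t with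
            | zero => simp
            | succ t ih => rw [pow_succ', mul_smul, ih, hd]
          have := hpow k
          rwa [← pow_mul, pow_eq_pow_mod _ hx7, hk, pow_one] at this
        rcases lt_or_gt_of_ne (fun e : (i : ℕ) = (j : ℕ) => hne (Fin.ext e)) with h' | h'
        · exact hfix' i j h' j.2 hij
        · exact hfix' j i h' i.2 hij.symm
      have hobase : ∀ i, o i ≠ base := fun i e => hqb (by
        have : (x' ^ (i : ℕ))⁻¹ • o i = (x' ^ (i : ℕ))⁻¹ • base := by rw [e]
        simp only [o, inv_smul_smul] at this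
        rw [this, hfb]
        exact N.inv_mem (N.pow_mem (Subgroup.le_normalizer hx) _))
      obtain ⟨j, hj⟩ : ∃ j, o j = hC' • q := by
        by_contra hno
        push Not at hno
        let F' : Option (Option (Fin 7)) → C ⧸ N.subgroupOf C
          | none => base
          | some none => hC' • q
          | some (some i) => o i
        have hhb : hC' • q ≠ base := fun e => hqb (by
          have := congrArg (fun t => hC'⁻¹ • t) e
          simp only [inv_smul_smul] at this
          rw [this, hfb]
          exact N.inv_mem (hCN (hH0C hh)))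
        have hinj : Function.Injective F' := by
          rintro (_ | _ | i) (_ | _ | k) he' <;> simp only [F'] at he'
          · rfl
          · exact absurd he'.symm hhb
          · exact absurd he'.symm (hobase k)
          · exact absurd he' hhb
          · rfl
          · exact absurd he'.symm (hno k)
          · exact absurd he' (hobase i)
          · exact absurd he' (hno i)
          · rw [ho_inj he']
        have := Nat.card_le_card_of_injective F' hinj
        rw [hcard, Finite.card_option, Finite.card_option, Nat.card_fin] at this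
        omega
      have hiter : ∀ n : ℕ, hC' ^ n • q = x' ^ ((j : ℕ) * n) • q := fun n => by
        induction n with
        | zero => simp
        | succ n ih =>
          rw [pow_succ', mul_smul, ih, ← mul_smul, (hxh.pow_right _).eq, mul_smul, ← hj, ← mul_smul, ← pow_add]
          congr 2
      have h8 := hiter 8
      rw [hh8, one_smul, pow_eq_pow_mod _ hx7] at h8
      have hj0 : ((j : ℕ) * 8) % 7 = 0 := by
        by_contra hne
        have hlt : (j : ℕ) * 8 % 7 < 7 := Nat.mod_lt _ (by norm_num)
        have := ho_inj (a₁ := ⟨0, by norm_num⟩) (a₂ := ⟨_, hlt⟩) (by simp only [o, pow_zero, one_smul]; exact h8)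
        exact hne (congrArg Fin.val this).symm
      have hj' : (j : ℕ) = 0 := by have := j.2; omega
      rw [← hj]
      simp only [o, hj', pow_zero, one_smul]
    -- hence it is normal in C
    set K := (N.subgroupOf C).normalCore with hK
    have hKP : ∀ k ∈ K, (k : G) ∈ CP := by
      intro k hk
      have hdisj : K ⊓ (P : Subgroup G).subgroupOf C = ⊥ := by
        by_contra hne
        obtain ⟨y, hy, hy1⟩ := (Subgroup.bot_or_exists_ne_one _).resolve_left hne
        have hyP : (y : G) ∈ (P : Subgroup G) := hy.2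
        have hyo := CfsgLib.SmallSylow.orderOf_mem P hP hyP (fun e => hy1 (Subtype.ext e))
        have hzy : Subgroup.zpowers (y : G) = (P : Subgroup G) :=
          (CfsgLib.Blocks.DefectOne.zpowers_eq (CfsgLib.Blocks.DefectOne.setup_sylow P hP) hP hyP
            (fun e => hy1 (Subtype.ext e))).1
        have hconjN : ∀ c : C, c⁻¹ ∈ N.subgroupOf C := by
          intro c
          have h1 : c * y * c⁻¹ ∈ N.subgroupOf C :=
            Subgroup.normalCore_le _ ((Subgroup.normalCore_normal (N.subgroupOf C)).conj_mem y hy.1 c)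
          have h2 : (c : G) * y * (c : G)⁻¹ ∈ N := h1
          have h3 : (c : G) * y * (c : G)⁻¹ ∈ (P : Subgroup G) := by
            obtain ⟨R', hR'⟩ := (IsPGroup.of_card (n := 1)
              (show Nat.card (Subgroup.zpowers (⟨_, h2⟩ : N)) = 7 ^ 1 by
                rw [Nat.card_zpowers, Subgroup.orderOf_mk, pow_one, ← MulAut.conj_apply, MulEquiv.orderOf_eq,
                  hyo])).exists_le_sylow
            have hPn : ((P.subtype (Subgroup.le_normalizer) : Sylow 7 N) : Subgroup N).Normal := by
              rw [Sylow.coe_subtype]; exact Subgroup.normal_in_normalizer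
            haveI : Subsingleton (Sylow 7 N) := @Unique.instSubsingleton _ (Sylow.unique_of_normal _ hPn)
            rw [Subsingleton.elim R' (P.subtype Subgroup.le_normalizer)] at hR'
            exact hR' (Subgroup.mem_zpowers _)
          have hcN : (c : G) ∈ N := by
            have hz' : Subgroup.zpowers ((c : G) * y * (c : G)⁻¹) = (P : Subgroup G) :=
              (CfsgLib.Blocks.DefectOne.zpowers_eq (CfsgLib.Blocks.DefectOne.setup_sylow P hP) hP h3
                (fun e => hy1 (Subtype.ext (by simpa using e)))).1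
            have hmap : (P : Subgroup G).map (MulAut.conj (c : G)).toMonoidHom = (P : Subgroup G) := by
              conv_lhs => rw [← hzy]
              rw [MonoidHom.map_zpowers, ← hz']
              rfl
            refine Subgroup.mem_normalizer_iff.mpr fun n => ⟨fun hn => ?_, fun hn => ?_⟩
            · rw [← hmap]; exact Subgroup.mem_map_of_mem _ hn
            · rw [← hmap] at hn
              obtain ⟨m, hm, hm'⟩ := hn
              simp only [MulEquiv.coe_toMonoidHom, MulAut.conj_apply, mul_left_inj, mul_right_inj] at hm'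
              exact hm' ▸ hm
          exact N.inv_mem hcN
        have htop : N.subgroupOf C = ⊤ := eq_top_iff.mpr fun c _ => by simpa using hconjN c⁻¹
        have h81 : N.relIndex C = 1 := by show (N.subgroupOf C).index = 1; rw [htop, Subgroup.index_top]
        omega
      rw [Subgroup.mem_centralizer_iff]
      intro p hp
      set p' : C := ⟨p, hPle hp⟩
      have hkN : (k : G) ∈ N := Subgroup.normalCore_le (N.subgroupOf C) hk
      have h1 : k * p' * k⁻¹ * p'⁻¹ ∈ K := by
        have := K.mul_mem hk ((Subgroup.normalCore_normal (N.subgroupOf C)).conj_mem _ (K.inv_mem hk) p')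
        simpa [mul_assoc] using this
      have h2 : k * p' * k⁻¹ * p'⁻¹ ∈ (P : Subgroup G).subgroupOf C :=
        (P : Subgroup G).mul_mem ((Subgroup.mem_normalizer_iff.mp hkN p).mp hp) ((P : Subgroup G).inv_mem hp)
      have h3 : k * p' * k⁻¹ * p'⁻¹ ∈ (⊥ : Subgroup C) := hdisj ▸ ⟨h1, h2⟩
      rw [Subgroup.mem_bot, mul_inv_eq_one, mul_inv_eq_iff_eq_mul] at h3
      exact (congrArg Subtype.val h3).symm
    have hH0normal : ∀ c : C, ∀ h ∈ H0, (c : G) * h * (c : G)⁻¹ ∈ H0 := by
      intro c h hh
      have hhC : h ∈ C := hNC (hCN (hH0C hh))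
      have hmemK : (⟨h, hhC⟩ : C) ∈ K := fun d => by
        show (d : G) * h * (d : G)⁻¹ ∈ N
        simpa using hfix h hh d⁻¹
      have hck := hKP _ ((Subgroup.normalCore_normal (N.subgroupOf C)).conj_mem _ hmemK c)
      refine hinH0 _ hck ?_
      show orderOf ((c : G) * h * (c : G)⁻¹) ∣ 8
      rw [← MulAut.conj_apply, MulEquiv.orderOf_eq]
      exact hH0card ▸ Subgroup.orderOf_dvd_natCard _ hh
    -- it lies in S
    have hH0S : H0 ≤ S := by
      have hnorm : S ≤ Subgroup.normalizer (H0 : Set G) := fun s hs => Subgroup.mem_normalizer_iff.mpr fun n =>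
        ⟨fun hn => hH0normal ⟨s, hSC hs⟩ n hn, fun hn => by
          simpa [mul_assoc] using hH0normal ⟨s⁻¹, C.inv_mem (hSC hs)⟩ _ hn⟩
      have hsup : IsPGroup 2 (H0 ⊔ S : Subgroup G) :=
        IsPGroup.to_sup_of_normal_left' (IsPGroup.of_card (n := 3) (by rw [hH0card]; norm_num))
          (IsPGroup.of_card (n := 6) (by rw [hScard]; norm_num)) hnorm
      obtain ⟨i, hi⟩ := IsPGroup.iff_card.mp hsup
      have hdv := Subgroup.card_dvd_of_le (sup_le ((hH0C.trans hCN).trans hNC) hSC : H0 ⊔ S ≤ C)
      rw [hi, show Nat.card C = 1344 from h13] at hdv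
      have hi6 : i ≤ 6 := by
        by_contra hlt
        have := (pow_dvd_pow 2 (show 7 ≤ i by omega)).trans hdv
        norm_num at this
      have heqS : S = H0 ⊔ S := Subgroup.eq_of_le_of_card_ge le_sup_right (by
        rw [hi, hScard, show 64 = 2 ^ 6 from rfl]; exact Nat.pow_le_pow_right (by norm_num) hi6)
      exact heqS ▸ le_sup_left
    set H1 := H0.map (MulAut.conj τ).toMonoidHom with hH1
    have hH1S : H1 ≤ S := by
      rintro _ ⟨h, hh, rfl⟩
      exact (hτS h (hH0S hh)).1
    have hn0 : ∀ s ∈ S, ∀ h ∈ H0, s * h * s⁻¹ ∈ H0 := fun s hs h hh => hH0normal ⟨s, hSC hs⟩ h hh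
    have hn1 : ∀ s ∈ S, ∀ k ∈ H1, s * k * s⁻¹ ∈ H1 := by
      rintro s hs _ ⟨h, hh, rfl⟩
      refine ⟨(τ⁻¹ * s * τ) * h * (τ⁻¹ * s * τ)⁻¹, hn0 _ (hτS s hs).2 h hh, ?_⟩
      simp only [MulEquiv.coe_toMonoidHom, MulAut.conj_apply]
      group
    have huniq1 : ∀ k ∈ H1, k * k = 1 → k = 1 ∨ k = b := by
      rintro _ ⟨h, hh, rfl⟩ hk2
      have hh2 : h * h = 1 := by
        apply (MulAut.conj τ).injective
        simpa using hk2
      rcases huniq h hh hh2 with e | e
      · left; simp [e]
      · right; simp [e, hbdef]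
    have hdis : ∀ g : G, g ∈ H0 → g ∈ H1 → g = 1 := by
      intro g h0 h1'
      by_contra hg
      have h8 : orderOf g ∣ 2 ^ 3 := by
        rw [show 2 ^ 3 = 8 from rfl]
        exact hH0card ▸ Subgroup.orderOf_dvd_natCard _ h0
      obtain ⟨i, -, hi⟩ := (Nat.dvd_prime_pow Nat.prime_two).mp h8
      have hi1 : 1 ≤ i := by
        by_contra h
        rw [show i = 0 by omega, pow_zero, orderOf_eq_one_iff] at hi
        exact hg hi
      set y := g ^ 2 ^ (i - 1) with hy
      have hy2 : y * y = 1 := by
        rw [hy, ← pow_add, show 2 ^ (i - 1) + 2 ^ (i - 1) = 2 ^ i by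
          rw [← two_mul, ← pow_succ', Nat.sub_add_cancel hi1], ← hi, pow_orderOf_eq_one]
      have hy1 : y ≠ 1 := fun e => by
        have := orderOf_dvd_of_pow_eq_one e
        rw [hi, Nat.pow_dvd_pow_iff_le_right (by norm_num)] at this
        omega
      have ez : y = z := (huniq y (pow_mem h0 _) hy2).resolve_left hy1
      have eb : y = b := (huniq1 y (pow_mem h1' _) hy2).resolve_left hy1
      exact hbne (eb.symm.trans ez)
    have hcommute : ∀ h ∈ H0, ∀ k ∈ H1, h * k = k * h := by
      intro h hh k hk
      have e : h * k * h⁻¹ * k⁻¹ = 1 := hdis _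
        (by have := H0.mul_mem hh (hn0 k (hH1S hk) _ (H0.inv_mem hh)); simpa [mul_assoc] using this)
        (H1.mul_mem (hn1 h (hH0S hh) k hk) (H1.inv_mem hk))
      exact mul_inv_eq_iff_eq_mul.mp (mul_inv_eq_one.mp e)
    have hsurj : ∀ s ∈ S, ∃ h ∈ H0, ∃ k ∈ H1, s = h * k := by
      let m : H0 × H1 → S := fun a => ⟨a.1.1 * a.2.1, S.mul_mem (hH0S a.1.2) (hH1S a.2.2)⟩
      have hinj : Function.Injective m := by
        rintro ⟨⟨a, ha⟩, ⟨c, hc⟩⟩ ⟨⟨a', ha'⟩, ⟨c', hc'⟩⟩ e
        have e' : a * c = a' * c' := congrArg Subtype.val e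
        have he1 : a'⁻¹ * a = c' * c⁻¹ := by
          rw [inv_mul_eq_iff_eq_mul, ← mul_assoc, ← e', mul_inv_cancel_right]
        have h1 := hdis _ (H0.mul_mem (H0.inv_mem ha') ha) (he1 ▸ H1.mul_mem hc' (H1.inv_mem hc))
        have ea : a = a' := (inv_mul_eq_one.mp h1).symm
        subst ea
        have ec : c = c' := mul_left_cancel e'
        subst ec
        rfl
      have hcardm : Nat.card (H0 × H1) = Nat.card S := by
        rw [Nat.card_prod, hH0card, hScard, hH1, Subgroup.card_map_of_injective (MulAut.conj τ).injective, hH0card]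
      have hbij := (Nat.bijective_iff_injective_and_card m).mpr ⟨hinj, hcardm⟩
      intro s hs
      obtain ⟨⟨a, c⟩, e⟩ := hbij.2 ⟨s, hs⟩
      exact ⟨a, a.2, c, c.2, (congrArg Subtype.val e).symm⟩
    have hinvS : ∀ s ∈ S, s * s = 1 → s ≠ 1 → s = z ∨ s = b ∨ s = z * b := by
      intro s hs h2 h1
      obtain ⟨h, hh, k, hk, rfl⟩ := hsurj s hs
      have e : (h * h) * (k * k) = 1 := by
        rw [← (show Commute k h from (hcommute h hh k hk).symm).mul_mul_mul_comm]; exact h2
      have eh : h * h = 1 := hdis _ (H0.mul_mem hh hh)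
        (by rw [eq_inv_of_mul_eq_one_left e]; exact H1.inv_mem (H1.mul_mem hk hk))
      have ek : k * k = 1 := by rwa [eh, one_mul] at e
      rcases huniq h hh eh with rfl | rfl <;> rcases huniq1 k hk ek with rfl | rfl
      · exact absurd (one_mul 1) h1
      · exact Or.inr (Or.inl (one_mul _))
      · exact Or.inl (mul_one _)
      · exact Or.inr (Or.inr rfl)
    -- a conjugate of the four group
    have hwz : w ≠ z := fun e => by
      rw [e, hz2] at hzbzw
      obtain ⟨g, hg⟩ := isConj_iff.mp hzbzw
      exact hzb1 (conj_eq_one_iff.mp hg)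
    have hbC : b ∈ C := Subgroup.mem_centralizer_singleton_iff.mpr czb.symm.eq
    have hwC : w ∈ C := Subgroup.mem_centralizer_singleton_iff.mpr czw.symm.eq
    let E : Subgroup C :=
      { carrier := {g | (g : G) = 1 ∨ (g : G) = b ∨ (g : G) = w ∨ (g : G) = b * w}
        one_mem' := Or.inl rfl
        mul_mem' := by
          rintro ⟨g₁, _⟩ ⟨g₂, _⟩ h1 h2
          simp only [Set.mem_setOf_eq] at h1 h2 ⊢
          have hwb : w * b = b * w := cbw.symm.eq
          have e1 : b * (b * w) = w := by rw [← mul_assoc, hb2, one_mul]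
          have e2 : w * (b * w) = b := by rw [← mul_assoc, hwb, mul_assoc, hw2, mul_one]
          have e3 : b * w * b = w := by rw [mul_assoc, hwb, e1]
          have e4 : b * w * w = b := by rw [mul_assoc, hw2, mul_one]
          have e5 : b * w * (b * w) = 1 := mul_self_mul hb2 hw2 cbw
          rcases h1 with rfl | rfl | rfl | rfl <;> rcases h2 with rfl | rfl | rfl | rfl <;>
            simp [hb2, hw2, hwb, e1, e2, e3, e4, e5]
        inv_mem' := by
          rintro ⟨g, _⟩ h
          simp only [Set.mem_setOf_eq, InvMemClass.coe_inv] at h ⊢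
          rcases h with rfl | rfl | rfl | rfl
          · simp
          · simp [inv_eq_of_mul_eq_one_right hb2]
          · simp [inv_eq_of_mul_eq_one_right hw2]
          · simp [inv_eq_of_mul_eq_one_right (mul_self_mul hb2 hw2 cbw)] }
    have hEp : IsPGroup 2 E := fun g => ⟨1, by
      apply Subtype.ext
      apply Subtype.ext
      show (((g : C)) : G) ^ (2 ^ 1) = 1
      rw [pow_one, pow_two]
      rcases g.2 with e | e | e | e <;> rw [e]
      exacts [one_mul 1, hb2, hw2, mul_self_mul hb2 hw2 cbw]⟩
    obtain ⟨T, hT⟩ := hEp.exists_le_sylow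
    have hSsyl : Nat.card (S.subgroupOf C) = 2 ^ 6 := by
      rw [Nat.card_congr (Subgroup.subgroupOfEquivOfLe hSC).toEquiv, hScard]; norm_num
    obtain ⟨T', hT'⟩ := (IsPGroup.of_card hSsyl).exists_le_sylow
    have hTe : (T' : Subgroup C) = S.subgroupOf C := (Subgroup.eq_of_le_of_card_ge hT' (by
      rw [hSsyl, Sylow.card_eq_multiplicity, show Nat.card C = 1344 from h13,
        CfsgLib.Order7920.fac_eq (k := 6) (by norm_num) (by norm_num) (by norm_num) (by norm_num)])).symm
    obtain ⟨c, hc⟩ := MulAction.exists_smul_eq C T T'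
    have htr : ∀ g : C, (g : G) = b ∨ (g : G) = w ∨ (g : G) = b * w → (c : G) * g * (c : G)⁻¹ ∈ S := by
      intro g hg
      have h1 : g ∈ (T : Subgroup C) := hT (Or.inr hg)
      have h2 : c * g * c⁻¹ ∈ (T' : Subgroup C) := by
        rw [← hc, Sylow.coe_subgroup_smul, Subgroup.mem_pointwise_smul_iff_inv_smul_mem]
        simpa [MulAut.smul_def, mul_assoc] using h1
      rw [hTe] at h2
      exact h2
    have hcz : (c : G) * z * (c : G)⁻¹ = z := by
      rw [Subgroup.mem_centralizer_singleton_iff.mp c.2, mul_inv_cancel_right]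
    have him : ∀ g : G, g ∈ C → (g = b ∨ g = w ∨ g = b * w) →
        (c : G) * g * (c : G)⁻¹ = b ∨ (c : G) * g * (c : G)⁻¹ = z * b := by
      intro g hgC hg
      have hg2 : g * g = 1 := by
        rcases hg with rfl | rfl | rfl
        exacts [hb2, hw2, mul_self_mul hb2 hw2 cbw]
      have hg1 : g ≠ 1 := by
        rcases hg with rfl | rfl | rfl
        · exact fun e => by rw [e, orderOf_one] at hbo; norm_num at hbo
        · exact fun e => by rw [e, orderOf_one] at hwo; norm_num at hwo
        · exact hbw1
      have hgz : g ≠ z := by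
        rcases hg with rfl | rfl | rfl
        · exact hbne
        · exact hwz
        · exact fun e => hzbw1 (by rw [mul_assoc, e, hz2])
      rcases hinvS _ (htr ⟨g, hgC⟩ hg)
        (by rw [show (c : G) * g * (c : G)⁻¹ * ((c : G) * g * (c : G)⁻¹) = (c : G) * (g * g) * (c : G)⁻¹ by group,
          hg2, mul_one, mul_inv_cancel])
        (fun e => hg1 (by rwa [mul_inv_eq_one, mul_eq_left] at e)) with e | e | e
      · exact absurd (mul_left_cancel (mul_right_cancel (e.trans hcz.symm))) hgz
      · exact Or.inl e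
      · exact Or.inr e
    have hinjc : ∀ g g' : G, (c : G) * g * (c : G)⁻¹ = (c : G) * g' * (c : G)⁻¹ → g = g' := fun g g' e =>
      mul_left_cancel (mul_right_cancel e)
    have n1 : b ≠ w := fun e => hbw1 (by rw [← e, hb2])
    have n2 : b ≠ b * w := fun e => by
      rw [left_eq_mul] at e; rw [e, orderOf_one] at hwo; norm_num at hwo
    have n3 : w ≠ b * w := fun e => by
      rw [right_eq_mul] at e; rw [e, orderOf_one] at hbo; norm_num at hbo
    rcases him b hbC (Or.inl rfl) with e1 | e1 <;> rcases him w hwC (Or.inr (Or.inl rfl)) with e2 | e2 <;>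
      rcases him (b * w) (C.mul_mem hbC hwC) (Or.inr (Or.inr rfl)) with e3 | e3
    all_goals first
      | exact n1 (hinjc _ _ (e1.trans e2.symm))
      | exact n2 (hinjc _ _ (e1.trans e3.symm))
      | exact n3 (hinjc _ _ (e2.trans e3.symm))

/-- The Sylow subgroups of order seven. -/
theorem seven (hG : IsM22 G) (F : Frame G 11 5) (hD : F.D ∈ A11) (hFt : F.t = 2) (P : Sylow 7 G) :
    Subgroup.centralizer ((P : Subgroup G) : Set G) = (P : Subgroup G) ∧ inIdx P = 3 ∧
      Nat.card (Sylow 7 G) = 21120 := by
  have hP : Nat.card (P : Subgroup G) = 7 := card_sylow7 hG P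
  obtain ⟨H, hH, h63, hmem⟩ := seven_cases hG F P
  obtain ⟨n, hn⟩ : ∃ n, Nat.card (Sylow 7 G) = n := ⟨_, rfl⟩
  obtain ⟨e, he⟩ : ∃ e, inIdx P = e := ⟨_, rfl⟩
  have hNn := card_normalizer_seven hG P
  rw [hn, he] at h63 hmem
  rw [hn] at hNn
  simp only [sevenList, List.mem_cons, Prod.mk.injEq, List.not_mem_nil, or_false] at hmem
  have hC2 : H = 4 ∨ H = 8 →
      ∀ x ∈ Subgroup.centralizer ((P : Subgroup G) : Set G), orderOf x ≠ 3 := fun h x hx e => by
    have := Subgroup.orderOf_dvd_natCard _ hx
    rw [e, hH] at this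
    rcases h with rfl | rfl <;> norm_num at this
  rcases hmem with ⟨rfl, rfl⟩ | ⟨rfl, rfl⟩ | ⟨rfl, rfl⟩ | ⟨rfl, rfl⟩ | ⟨rfl, rfl⟩
  · exfalso
    have hH64 : H = 64 := by omega
    subst hH64
    obtain ⟨z, hz, hzP, hd⟩ := exists_good_involution hG P (k := 6) (by norm_num) hH
      ⟨6, by norm_num, rfl⟩ (by omega)
    obtain ⟨h6, -⟩ := good_count hG P (Or.inr rfl) (by omega) hz hzP hd
    obtain ⟨hrow, hj⟩ := good_involution_row hG F hD hFt P he hn hz hzP
    have hdead : joins 3 330 (cc z) F.D (F.row z) = false := by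
      have := h6 rfl
      simp only [List.mem_cons, List.not_mem_nil, or_false] at this
      rcases this with e | e | e | e <;> rw [e] at hrow ⊢
      · exact not_joins_of_deadT l7a_eq dead_a448 (row_of_tbl tbl448_ok hD hrow)
      · exact not_joins_of_deadT l7a_eq dead_a1344 (row_of_tbl tbl1344_ok hD hrow)
      · exact not_joins_of_deadT l7a_eq dead_a6720 (row_of_tbl tbl6720_ok hD hrow)
      · exact not_joins_of_deadT l7a_eq dead_a20160 (row_of_tbl tbl20160_ok hD hrow)
    rw [hdead] at hj
    exact absurd hj (by simp)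
  · exact (no_1408 hG F P hn he hH (by rw [hn, he]; exact h63)).elim
  · exfalso
    have hH8 : H = 8 := by omega
    subst hH8
    have hN : Nat.card (Subgroup.normalizer ((P : Subgroup G) : Set G)) = 168 := by omega
    obtain ⟨z, hz, hzP, hd⟩ := exists_good_involution hG P (k := 3) (by norm_num) hH
      ⟨3, by norm_num, rfl⟩ (by omega)
    obtain ⟨-, h3⟩ := good_count hG P (Or.inl rfl) (by omega) hz hzP hd
    obtain ⟨hrow, hj⟩ := good_involution_row hG F hD hFt P he hn hz hzP
    rcases h3 rfl with hm | ⟨hcc, hn8, hNC⟩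
    · have hdead : joins 3 2640 (cc z) F.D (F.row z) = false := by
        simp only [List.mem_cons, List.not_mem_nil, or_false] at hm
        rcases hm with e | e | e | e | e | e | e <;> rw [e] at hrow ⊢
        · exact not_joins_of_deadT l7b_eq dead_b56 (row_of_tbl tbl56_ok hD hrow)
        · exact not_joins_of_deadT l7b_eq dead_b168 (row_of_tbl tbl168_ok hD hrow)
        · exact not_joins_of_deadT l7b_eq dead_b840 (row_of_tbl tbl840_ok hD hrow)
        · exact not_joins_of_deadT l7b_eq dead_b2016 (row_of_tbl tbl2016_ok hD hrow)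
        · exact not_joins_of_deadT l7b_eq dead_b2520 (row_of_tbl tbl2520_ok hD hrow)
        · exact not_joins_of_deadT l7b_eq dead_b6720 (row_of_tbl tbl6720_ok hD hrow)
        · exact not_joins_of_deadT l7b_eq dead_b20160 (row_of_tbl tbl20160_ok hD hrow)
      rw [hdead] at hj
      exact absurd hj (by simp)
    · obtain ⟨hl, h13, hr⟩ := last_of_special hG F hD hFt P (Or.inl rfl) he hn hN (hC2 (Or.inr rfl)) hz hzP hn8 hcc
      exact no_three hG F hD hFt (D_of_last hl) P he hn hH hN (hC2 (Or.inr rfl)) hz hzP hn8 h13 (hr rfl) (hNC h13)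
  · exfalso
    have hH4 : H = 4 := by omega
    subst hH4
    have hN : Nat.card (Subgroup.normalizer ((P : Subgroup G) : Set G)) = 168 := by omega
    obtain ⟨z, hz, hzP, hd⟩ := exists_good_involution hG P (k := 3) (by norm_num) hH
      ⟨2, by norm_num, rfl⟩ (by omega)
    obtain ⟨-, h3⟩ := good_count hG P (Or.inl rfl) (by omega) hz hzP hd
    obtain ⟨hrow, hj⟩ := good_involution_row hG F hD hFt P he hn hz hzP
    rcases h3 rfl with hm | ⟨hcc, hn8, -⟩
    · have hdead : joins 6 2640 (cc z) F.D (F.row z) = false := by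
        simp only [List.mem_cons, List.not_mem_nil, or_false] at hm
        rcases hm with e | e | e | e | e | e | e <;> rw [e] at hrow ⊢
        · exact not_joins_of_deadT l7c_eq dead_c56 (row_of_tbl tbl56_ok hD hrow)
        · exact not_joins_of_deadT l7c_eq dead_c168 (row_of_tbl tbl168_ok hD hrow)
        · exact not_joins_of_deadT l7c_eq dead_c840 (row_of_tbl tbl840_ok hD hrow)
        · exact not_joins_of_deadT l7c_eq dead_c2016 (row_of_tbl tbl2016_ok hD hrow)
        · exact not_joins_of_deadT l7c_eq dead_c2520 (row_of_tbl tbl2520_ok hD hrow)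
        · exact not_joins_of_deadT l7c_eq dead_c6720 (row_of_tbl tbl6720_ok hD hrow)
        · exact not_joins_of_deadT l7c_eq dead_c20160 (row_of_tbl tbl20160_ok hD hrow)
      rw [hdead] at hj
      exact absurd hj (by simp)
    · obtain ⟨hl, -, -⟩ := last_of_special hG F hD hFt P (Or.inr rfl) he hn hN (hC2 (Or.inl rfl)) hz hzP hn8 hcc
      exact no_six hG F (D_of_last hl) P he hH
  · refine ⟨?_, he, hn⟩
    refine (Subgroup.eq_of_le_of_card_ge ?_ ?_).symm
    · haveI : IsCyclic (P : Subgroup G) := isCyclic_of_prime_card (p := 7) hP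
      exact Subgroup.le_centralizer (P : Subgroup G)
    · rw [hP, hH, show H = 1 by omega]

end CfsgSimpleM22
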