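/-
The column of an element of order seven.
-/
import Cfsg.Agent.Lib.SimpleM22.SevenMain

set_option autoImplicit false
set_option linter.style.haveILetI false
set_option linter.unusedSectionVars false

namespace CfsgSimpleM22

open Cfsg CfsgLib.CharTheory CfsgSimpleM11
open CfsgLib.SmallSylow (inIdx)

universe u
variable {G : Type u} [Group G] [Fintype G]

/-- The possible degrees at seven. -/
def B7 : List (List ℕ) := lists7 3 21120 2

/-- The column at the prime seven, with the degrees listed in a fixed order. -/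
theorem exists_seven (hG : IsM22 G) (F : Frame G 11 5) (hD : F.D ∈ A11) (hFt : F.t = 2) :
    ∃ S : Frame G 7 3, S.D ∈ B7 ∧ S.t = 2 := by
  obtain ⟨P⟩ := (inferInstance : Nonempty (Sylow 7 G))
  obtain ⟨hC, he, hn⟩ := seven hG F hD hFt P
  have hP : Nat.card (P : Subgroup G) = 7 := card_sylow7 hG P
  obtain ⟨B⟩ := exists_BL (by norm_num) P hP (two_le_e hG P hP)
  obtain ⟨xs', hxs', hl, -⟩ := lists7_mem hG F B (fun χ hχ => two_le_dg hG (B.xs_ne_triv hχ))
  rw [he, hn] at hl
  obtain ⟨x, hx, hx1⟩ := CfsgLib.SmallSylow.exists_mem_ne P hP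
  have hly : B.ys.length = 2 := by have := B.len_ys; rw [he] at this; omega
  exact ⟨⟨P, hP, hC, he, x, hx, hx1, B.permute xs' hxs'⟩, hl, hly⟩

/-- No element of order prime to seven has centraliser of order divisible by seven. -/
theorem not_seven_dvd (hG : IsM22 G) (F : Frame G 11 5) (hD : F.D ∈ A11) (hFt : F.t = 2) {g : G} (hg1 : g ≠ 1)
    (hg : ¬ 7 ∣ orderOf g) : ¬ 7 ∣ cc g := by
  intro h
  obtain ⟨a, ha, hao⟩ := exists_order (K := Subgroup.centralizer ({g} : Set G)) (by norm_num) h
  obtain ⟨P, hP⟩ := (IsPGroup.of_card (n := 1) (show Nat.card (Subgroup.zpowers a) = 7 ^ 1 by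
    rw [Nat.card_zpowers, hao, pow_one])).exists_le_sylow
  have hPc : Nat.card (P : Subgroup G) = 7 := card_sylow7 hG P
  have haP : Subgroup.zpowers a = (P : Subgroup G) :=
    Subgroup.eq_of_le_of_card_ge hP (by rw [hPc, Nat.card_zpowers, hao])
  have hm : g ∈ Subgroup.centralizer ((P : Subgroup G) : Set G) := by
    rw [← haP]
    refine Subgroup.mem_centralizer_iff.mpr fun y hy => ?_
    obtain ⟨i, rfl⟩ := Subgroup.mem_zpowers_iff.mp hy
    exact (Commute.zpow_left (Subgroup.mem_centralizer_singleton_iff.mp ha : Commute a g) i).eq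
  rw [(seven hG F hD hFt P).1] at hm
  exact hg (by rw [CfsgLib.SmallSylow.orderOf_mem P hPc hm hg1])

end CfsgSimpleM22
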