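/-
The columns at seven and eleven together.
-/
import Cfsg.Agent.Lib.SimpleM22.SevenFrame

set_option autoImplicit false
set_option linter.style.haveILetI false
set_option linter.unusedSectionVars false

namespace CfsgSimpleM22

open Cfsg CfsgLib.CharTheory CfsgSimpleM11
open CfsgLib.SmallSylow (inIdx)

universe u

/-- The degrees of the nontrivial characters of a column with two exceptional characters. -/
def colDegs (p : ℕ) (D : List ℕ) : List ℕ := D ++ [fOf p D, fOf p D]

/-- The degrees prime to seven or to eleven. -/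
def avail77 (D D' : List ℕ) : List ℕ := colDegs 11 D ++ (colDegs 7 D').filter fun d => d % 11 == 0

/-- Two lists of degrees fit together. -/
def joined (D D' : List ℕ) : Bool :=
  let r : ℤ := 443519 - (((avail77 D D').map fun d => d * d).sum : ℕ)
  ((colDegs 11 D).filter fun d => d % 7 != 0).isPerm ((colDegs 7 D').filter fun d => d % 11 != 0) &&
    decide (0 ≤ r) && (r % 5929 == 0)

section
variable {G : Type u} [Group G] [Fintype G] {p : ℕ} [Fact p.Prime] {e : ℕ}

/-- The nontrivial characters of the column. -/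
noncomputable def Frame.L (F : Frame G p e) : List (IrrCharacter G) := F.B.xs ++ F.B.ys

theorem Frame.nodup_L (F : Frame G p e) : (triv G :: F.L).Nodup := F.B.nodup

theorem Frame.map_L (hG : IsM22 G) (F : Frame G p e) (ht : F.t = 2) :
    F.L.map (fun χ : IrrCharacter G => dg χ) = colDegs p F.D := by
  rw [Frame.L, List.map_append, colDegs, F.fOf_eq hG, List.map_congr_left (l := F.B.ys) (g := fun _ => F.B.f)
    (fun η hη => F.B.degY η hη), List.map_const', show F.B.ys.length = 2 from ht]
  rfl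

theorem Frame.mem_L (F : Frame G p e) {χ : IrrCharacter G} (h : χ ≠ triv G) (hd : ¬ p ∣ dg χ) : χ ∈ F.L :=
  (List.mem_cons.1 (F.B.mem_of_not_dvd F.hC hd)).resolve_left h

theorem Frame.ne_triv (F : Frame G p e) {χ : IrrCharacter G} (h : χ ∈ F.L) : χ ≠ triv G := fun e =>
  (List.nodup_cons.1 F.nodup_L).1 (e ▸ h)

end

variable {G : Type u} [Group G] [Fintype G]
variable (F : Frame G 11 5) (S : Frame G 7 3)

/-- The nontrivial characters of degree not divisible by seventy-seven. -/
noncomputable def lun : List (IrrCharacter G) := F.L ++ S.L.filter fun χ : IrrCharacter G => dg χ % 11 == 0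

theorem not_eleven_L {χ : IrrCharacter G} (h : χ ∈ F.L) : ¬ 11 ∣ dg χ :=
  F.B.not_dvd_dg (by norm_num) (by rw [F.he]; norm_num) (List.mem_cons_of_mem _ h)

theorem not_seven_L {χ : IrrCharacter G} (h : χ ∈ S.L) : ¬ 7 ∣ dg χ :=
  S.B.not_dvd_dg (by norm_num) (by rw [S.he]; norm_num) (List.mem_cons_of_mem _ h)

theorem nodup_lun : (triv G :: lun F S).Nodup := by
  obtain ⟨h1, h2⟩ := List.nodup_cons.1 F.nodup_L
  obtain ⟨h3, h4⟩ := List.nodup_cons.1 S.nodup_L
  rw [lun, List.nodup_cons, List.nodup_append]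
  refine ⟨fun h => ?_, h2, h4.filter _, fun a ha b hb e => ?_⟩
  · rcases List.mem_append.1 h with h | h
    · exact h1 h
    · exact h3 (List.mem_of_mem_filter h)
  · subst e
    obtain ⟨-, hb⟩ := List.mem_filter.1 hb
    exact not_eleven_L F ha (Nat.dvd_of_mod_eq_zero (by simpa using hb))

theorem map_lun (hG : IsM22 G) (hFt : F.t = 2) (hSt : S.t = 2) :
    (lun F S).map (fun χ : IrrCharacter G => dg χ) = avail77 F.D S.D := by
  rw [lun, List.map_append, F.map_L hG hFt, avail77, ← S.map_L hG hSt, List.filter_map]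
  rfl

theorem seventy_seven_dvd {χ : IrrCharacter G} (h : χ ∉ triv G :: lun F S) : 77 ∣ dg χ := by
  have h1 : χ ≠ triv G := fun e => h (e ▸ List.mem_cons_self)
  have h11 : 11 ∣ dg χ := by
    by_contra hd
    exact h (List.mem_cons_of_mem _ (List.mem_append_left _ (F.mem_L h1 hd)))
  refine (show Nat.Coprime 7 11 by norm_num).mul_dvd_of_dvd_of_dvd ?_ h11
  by_contra hd
  exact h (List.mem_cons_of_mem _ (List.mem_append_right _
    (List.mem_filter.2 ⟨S.mem_L h1 hd, by simpa using Nat.mod_eq_zero_of_dvd h11⟩)))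

theorem shared_perm : (F.L.filter fun χ : IrrCharacter G => dg χ % 7 != 0).Perm
    (S.L.filter fun χ : IrrCharacter G => dg χ % 11 != 0) := by
  rw [List.perm_ext_iff_of_nodup ((List.nodup_cons.1 F.nodup_L).2.filter _)
    ((List.nodup_cons.1 S.nodup_L).2.filter _)]
  intro χ
  simp only [List.mem_filter, bne_iff_ne, ne_eq, ← Nat.dvd_iff_mod_eq_zero]
  exact ⟨fun ⟨h, h7⟩ => ⟨S.mem_L (F.ne_triv h) h7, not_eleven_L F h⟩,
    fun ⟨h, h11⟩ => ⟨F.mem_L (S.ne_triv h) h11, not_seven_L S h⟩⟩

theorem sum_sq_split (hG : IsM22 G) [DecidableEq (IrrCharacter G)] :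
    1 + ((lun F S).map fun χ : IrrCharacter G => dg χ ^ 2).sum +
      ∑ χ ∈ Finset.univ \ (triv G :: lun F S).toFinset, dg χ ^ 2 = 443520 := by
  rw [← sum_dg_sq hG, ← Finset.sum_sdiff (Finset.subset_univ (triv G :: lun F S).toFinset),
    List.sum_toFinset _ (nodup_lun F S), List.map_cons, List.sum_cons, dg_triv]
  ring

theorem joined_frames (hG : IsM22 G) (hFt : F.t = 2) (hSt : S.t = 2) : joined F.D S.D = true := by
  classical
  have hr : ∃ k : ℕ, ∑ χ ∈ Finset.univ \ (triv G :: lun F S).toFinset, dg χ ^ 2 = 5929 * k := by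
    refine Finset.dvd_sum fun χ hχ => ?_
    simp only [Finset.mem_sdiff, Finset.mem_univ, true_and, List.mem_toFinset] at hχ
    obtain ⟨m, hm⟩ := seventy_seven_dvd F S hχ
    exact ⟨m ^ 2, by rw [hm]; ring⟩
  obtain ⟨k, hk⟩ := hr
  have h := sum_sq_split F S hG
  rw [hk] at h
  have hs : ((avail77 F.D S.D).map fun d => d * d).sum =
      ((lun F S).map fun χ : IrrCharacter G => dg χ ^ 2).sum := by
    rw [← map_lun F S hG hFt hSt, List.map_map]
    exact congrArg List.sum (List.map_congr_left fun χ _ => (pow_two _).symm)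
  simp only [joined, Bool.and_eq_true, decide_eq_true_eq, beq_iff_eq]
  refine ⟨⟨?_, by rw [hs]; omega⟩, by rw [hs]; omega⟩
  rw [List.isPerm_iff, ← F.map_L hG hFt, ← S.map_L hG hSt, List.filter_map, List.filter_map]
  exact (shared_perm F S).map _

end CfsgSimpleM22
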