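/-
Rows for the columns at seven and eleven together.
-/
import Cfsg.Agent.Lib.SimpleM22.Union

set_option autoImplicit false
set_option linter.style.haveILetI false
set_option linter.unusedSectionVars false

namespace CfsgSimpleM22

open Cfsg CfsgLib.CharTheory CfsgLib.Blocks CfsgSimpleM11
open CfsgLib.SmallSylow (inIdx)

universe u

/-- The values at the characters of degree not divisible by seventy-seven. -/
def m77 (D D' : List ℕ) (x y : List ℤ) : List (ℕ × ℤ) :=
  expand 2 (fOf 11 D) D x ++ (expand 2 (fOf 7 D') D' y).filter fun a => a.1 % 11 == 0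

/-- Two rows fit together. -/
def fit (C : ℕ) (D D' : List ℕ) (x y : List ℤ) : Bool :=
  ((expand 2 (fOf 11 D) D x).filter fun a => a.1 % 7 != 0).isPerm
      ((expand 2 (fOf 7 D') D' y).filter fun a => a.1 % 11 != 0) &&
    decide (1 + ((m77 D D' x y).map fun a => a.2 * a.2).sum ≤ (C : ℤ))

/-- The pairs of rows at an involution. -/
def rows2 (D D' : List ℕ) (C : ℕ) : List (List ℤ × List ℤ) :=
  let Y := rows 7 3 2 D' C
  (rows 11 5 2 D C).flatMap fun x => (Y.filter fun y => fit C D D' x y).map fun y => (x, y)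

/-- The columns at an element with centraliser of order `C` and values in given domains. -/
def cols (p e t : ℕ) (D : List ℕ) (C : ℕ) (dm : ℕ → List ℤ) : List (List ℤ) :=
  sols ((D.map fun d => ⟨sgn p d, 0, 1, dm d⟩) ++ [⟨sgE p e (fOf p D), 0, t, dm (fOf p D)⟩]) 1 0 ((C : ℤ) - 1)

namespace Frame

variable {G : Type u} [Group G] [Fintype G] {p : ℕ} [Fact p.Prime] {e : ℕ} (F : Frame G p e)

theorem expand_eq' (hG : IsM22 G) {g : G} (hg : ¬ p ∣ orderOf g)
    (hsv : ∀ χ ∈ F.L, (χ : G → ℂ) g = (ival χ g : ℂ)) :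
    F.L.map (fun χ : IrrCharacter G => (dg χ, ival χ g)) = expand F.t (fOf p F.D) F.D (F.row g) := by
  rw [F.fOf_eq hG, Frame.row, Frame.D, Frame.L]
  have hys : ∀ η ∈ F.B.ys, ival η g = ival F.eta g := fun η hη => by
    have h := F.B.agree η hη F.eta F.eta_mem g hg
    rw [hsv η (List.mem_append_right _ hη), hsv F.eta (List.mem_append_right _ F.eta_mem)] at h
    exact_mod_cast h
  have key : ∀ l : List (IrrCharacter G), ((l ++ F.B.ys).map fun χ : IrrCharacter G => (dg χ, ival χ g)) =
      expand F.t F.B.f (l.map fun χ : IrrCharacter G => dg χ)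
        ((l.map fun χ : IrrCharacter G => ival χ g) ++ [ival F.eta g]) := by
    intro l
    induction l with
    | nil =>
      simp only [List.map_nil, List.nil_append, expand]
      rw [List.map_congr_left (g := fun _ => (F.B.f, ival F.eta g)) fun η' hη' => by
        rw [F.B.degY η' hη', hys η' hη'], List.map_const']
      rfl
    | cons χ r ih =>
      simp only [List.map_cons, List.cons_append, expand] at ih ⊢
      rw [ih]
  exact key F.B.xs

/-- A column lies among the listed ones. -/
theorem col_mem (hG : IsM22 G) {g : G} (hg : ¬ p ∣ orderOf g)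
    (hsv : ∀ χ ∈ F.L, (χ : G → ℂ) g = (ival χ g : ℂ)) (dm : ℕ → List ℤ)
    (hdm : ∀ χ ∈ F.L, ival χ g ∈ dm (dg χ)) : F.row g ∈ cols p e F.t F.D (cc g) dm := by
  classical
  have hη := F.eta_mem
  have hx : ∀ χ ∈ F.B.xs, χ ∈ F.L := fun χ h => List.mem_append_left _ h
  have hy : ∀ χ ∈ F.B.ys, χ ∈ F.L := fun χ h => List.mem_append_right _ h
  rw [cols, F.fOf_eq hG, Frame.row, Frame.D]
  apply mem_sols
  · rw [List.map_map]
    refine List.rel_append ?_ (List.Forall₂.cons ?_ List.Forall₂.nil)
    · rw [List.forall₂_map_left_iff, List.forall₂_map_right_iff, List.forall₂_same]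
      exact fun χ hχ => hdm χ (hx χ hχ)
    · have h := hdm F.eta (hy _ hη)
      rw [F.B.degY _ hη] at h
      exact h
  · have h := F.B.rel _ hη g hg
    rw [F.he, hsv _ (hy _ hη), List.map_congr_left fun χ hχ => by rw [hsv χ (hx χ hχ)]] at h
    have key : ∀ l : List (IrrCharacter G),
        ((linSum ((l.map fun χ : IrrCharacter G => dg χ).map (fun d => (⟨sgn p d, 0, 1, dm d⟩ : Slot)) ++
            [⟨sgE p e F.B.f, 0, F.t, dm F.B.f⟩])
          ((l.map fun χ : IrrCharacter G => ival χ g) ++ [ival F.eta g]) : ℤ) : ℂ) =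
          (l.map fun χ : IrrCharacter G => (sgn p (dg χ) : ℂ) * (ival χ g : ℂ)).sum +
            (sgE p e F.B.f : ℂ) * (ival F.eta g : ℂ) := by
      intro l
      induction l with
      | nil => simp [linSum]
      | cons χ r ih =>
        simp only [List.map_cons, List.cons_append, linSum, List.sum_cons, Int.cast_add, Int.cast_mul] at ih ⊢
        rw [ih]
        ring
    have : ((1 + linSum ((F.B.xs.map fun χ : IrrCharacter G => dg χ).map (fun d => (⟨sgn p d, 0, 1, dm d⟩ : Slot)) ++
            [⟨sgE p e F.B.f, 0, F.t, dm F.B.f⟩])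
          ((F.B.xs.map fun χ : IrrCharacter G => ival χ g) ++ [ival F.eta g]) : ℤ) : ℂ) = ((0 : ℤ) : ℂ) := by
      rw [Int.cast_add, key, Int.cast_one, Int.cast_zero]
      linear_combination h
    exact_mod_cast this
  · have key : ∀ (a : List ℕ) (b : List ℤ), quadSum (a.map (fun d => (⟨sgn p d, 0, 1, dm d⟩ : Slot)) ++
        [⟨sgE p e F.B.f, 0, F.t, dm F.B.f⟩]) b = 0 := by
      intro a
      induction a with
      | nil => intro b; rcases b with _ | ⟨x, _ | ⟨y, r⟩⟩ <;> simp [quadSum]
      | cons d r ih =>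
        intro b
        rcases b with _ | ⟨x, b⟩
        · simp [quadSum]
        · simp only [List.map_cons, List.cons_append, quadSum, zero_mul, zero_add]
          exact ih b
    rw [key, add_zero]
  · have key : ∀ l : List (IrrCharacter G),
        normSum ((l.map fun χ : IrrCharacter G => dg χ).map (fun d => (⟨sgn p d, 0, 1, dm d⟩ : Slot)) ++
            [⟨sgE p e F.B.f, 0, F.t, dm F.B.f⟩])
          ((l.map fun χ : IrrCharacter G => ival χ g) ++ [ival F.eta g]) =
          ((l ++ F.B.ys).map fun χ : IrrCharacter G => ival χ g ^ 2).sum := by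
      intro l
      induction l with
      | nil =>
        simp only [List.map_nil, List.nil_append, normSum, add_zero]
        rw [List.map_congr_left (g := fun _ => ival F.eta g ^ 2) fun η' hη' => by
          have h := F.B.agree η' hη' F.eta hη g hg
          rw [hsv η' (hy _ hη'), hsv F.eta (hy _ hη)] at h
          rw [show ival η' g = ival F.eta g by exact_mod_cast h]]
        rw [List.map_const', List.sum_replicate, nsmul_eq_mul]
        simp only [Frame.t, pow_two]
      | cons χ r ih =>
        simp only [List.map_cons, List.cons_append, normSum, List.sum_cons] at ih ⊢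
        rw [ih]
        push_cast
        ring
    rw [key]
    have hv : ∀ χ ∈ (triv G :: (F.B.xs ++ F.B.ys)).toFinset, (χ : G → ℂ) g = (ival χ g : ℂ) := fun χ hχ => by
      rcases List.mem_cons.1 (List.mem_toFinset.1 hχ) with e | h
      · rw [e, triv_apply, ival_triv, Int.cast_one]
      · exact hsv χ h
    have hb := norm_le (s := (triv G :: (F.B.xs ++ F.B.ys)).toFinset) (g := g) (fun χ => ival χ g) hv
    rw [List.sum_toFinset _ F.B.nodup, List.map_cons, List.sum_cons, ival_triv] at hb
    linarith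

/-- The bilinear form counts representations of a generator. -/
theorem count_bi (hG : IsM22 G) (hodd : p ≠ 2) {g h : G} (hg : ¬ p ∣ orderOf g) (hh : ¬ p ∣ orderOf h)
    (hvg : ∀ χ ∈ F.L, (χ : G → ℂ) g = (ival χ g : ℂ)) (hvh : ∀ χ ∈ F.L, (χ : G → ℂ) h = (ival χ h : ℂ)) :
    biSum p e (fOf p F.D) F.D (F.row g) (F.row h) = (pairCount g h F.x : ℤ) * cc g * cc h := by
  have hη := F.eta_mem
  have hx : ∀ χ ∈ F.B.xs, χ ∈ F.L := fun χ h => List.mem_append_left _ h
  have hy : ∀ χ ∈ F.B.ys, χ ∈ F.L := fun χ h => List.mem_append_right _ h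
  have H := F.B.count hG hodd F.hP F.hC F.hx F.hx1 hg hh hη
  rw [F.he] at H
  rw [F.fOf_eq hG, Frame.row, Frame.row, Frame.D]
  have hdiv : ∀ χ : IrrCharacter G, (((443520 / dg χ : ℕ) : ℤ) : ℂ) = 443520 / (dg χ : ℂ) := fun χ => by
    rw [Int.cast_natCast, Nat.cast_div (dg_dvd' hG χ)
      (by exact_mod_cast (CfsgLib.Blocks.irr_charDegree_pos χ).ne')]
    norm_num
  have key : ∀ l : List (IrrCharacter G), (∀ χ ∈ l, χ ∈ F.L) →
      ((biSum p e F.B.f (l.map fun χ : IrrCharacter G => dg χ)
        ((l.map fun χ : IrrCharacter G => ival χ g) ++ [ival F.eta g])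
        ((l.map fun χ : IrrCharacter G => ival χ h) ++ [ival F.eta h]) : ℤ) : ℂ) =
        443520 * (1 + (l.map fun χ : IrrCharacter G =>
          (sgn p (dg χ) : ℂ) * (χ : G → ℂ) g * (χ : G → ℂ) h / (dg χ : ℂ)).sum +
        (sgE p e F.B.f : ℂ) * (F.eta : G → ℂ) g * (F.eta : G → ℂ) h / (F.B.f : ℂ)) := by
    intro l hl
    induction l with
    | nil =>
      simp only [List.map_nil, List.nil_append, biSum, List.sum_nil, add_zero, Int.cast_add, Int.cast_mul,
        Int.cast_ofNat]
      rw [← F.B.degY _ hη, hdiv, hvg _ (hy _ hη), hvh _ (hy _ hη)]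
      ring
    | cons χ r ih =>
      simp only [List.map_cons, List.cons_append, biSum, List.sum_cons, Int.cast_add, Int.cast_mul]
      rw [ih fun ψ hψ => hl ψ (List.mem_cons_of_mem _ hψ), hdiv, hvg χ (hl χ List.mem_cons_self),
        hvh χ (hl χ List.mem_cons_self)]
      ring
  have h2 := key F.B.xs hx
  rw [← H] at h2
  exact_mod_cast h2

end Frame

variable {G : Type u} [Group G] [Fintype G]
variable (F : Frame G 11 5) (S : Frame G 7 3)

/-- The values at the characters of degree not divisible by seventy-seven, by character. -/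
theorem m77_eq (hG : IsM22 G) (hFt : F.t = 2) (hSt : S.t = 2) {g : G} (hg : ¬ 11 ∣ orderOf g)
    (hg' : ¬ 7 ∣ orderOf g) (hvF : ∀ χ ∈ F.L, (χ : G → ℂ) g = (ival χ g : ℂ))
    (hvS : ∀ χ ∈ S.L, (χ : G → ℂ) g = (ival χ g : ℂ)) :
    (lun F S).map (fun χ : IrrCharacter G => (dg χ, ival χ g)) = m77 F.D S.D (F.row g) (S.row g) := by
  rw [m77, ← hFt, ← F.expand_eq' hG hg hvF, hFt, ← hSt, ← S.expand_eq' hG hg' hvS, lun, List.map_append,
    List.filter_map]
  rfl

theorem fit_frames (hG : IsM22 G) (hFt : F.t = 2) (hSt : S.t = 2) {g : G} (hg : ¬ 11 ∣ orderOf g)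
    (hg' : ¬ 7 ∣ orderOf g) (hvF : ∀ χ ∈ F.L, (χ : G → ℂ) g = (ival χ g : ℂ))
    (hvS : ∀ χ ∈ S.L, (χ : G → ℂ) g = (ival χ g : ℂ)) :
    fit (cc g) F.D S.D (F.row g) (S.row g) = true := by
  classical
  rw [fit, Bool.and_eq_true, List.isPerm_iff, decide_eq_true_eq]
  constructor
  · rw [← hFt, ← F.expand_eq' hG hg hvF, hFt, ← hSt, ← S.expand_eq' hG hg' hvS, List.filter_map, List.filter_map]
    exact (shared_perm F S).map _
  · rw [← m77_eq F S hG hFt hSt hg hg' hvF hvS, List.map_map]
    have hv : ∀ χ ∈ (triv G :: lun F S).toFinset, (χ : G → ℂ) g = (ival χ g : ℂ) := fun χ hχ => by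
      rcases List.mem_cons.1 (List.mem_toFinset.1 hχ) with e | h
      · rw [e, triv_apply, ival_triv, Int.cast_one]
      · rcases List.mem_append.1 h with h | h
        · exact hvF χ h
        · exact hvS χ (List.mem_of_mem_filter h)
    have hb := norm_le (s := (triv G :: lun F S).toFinset) (g := g) (fun χ => ival χ g) hv
    rw [List.sum_toFinset _ (nodup_lun F S), List.map_cons, List.sum_cons, ival_triv] at hb
    have e2 : ((fun a : ℕ × ℤ => a.2 * a.2) ∘ fun χ : IrrCharacter G => (dg χ, ival χ g)) =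
        fun χ : IrrCharacter G => ival χ g ^ 2 := funext fun χ => (pow_two _).symm
    rw [e2]
    linarith

/-- The pair of rows of an involution. -/
theorem rows2_mem (hG : IsM22 G) (hFt : F.t = 2) (hSt : S.t = 2) {z : G} (hz : orderOf z = 2) :
    (F.row z, S.row z) ∈ rows2 F.D S.D (cc z) := by
  have h1 := F.row_mem hG (by norm_num) (by norm_num) hz
  have h2 := S.row_mem hG (by norm_num) (by norm_num) hz
  rw [hFt] at h1
  rw [hSt] at h2
  simp only [rows2, List.mem_flatMap, List.mem_map, List.mem_filter]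
  exact ⟨_, h1, _, ⟨h2, fit_frames F S hG hFt hSt (not_dvd_two (by norm_num) hz) (not_dvd_two (by norm_num) hz)
    (fun χ _ => ival_inv hG χ hz) (fun χ _ => ival_inv hG χ hz)⟩, rfl⟩

end CfsgSimpleM22
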