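/-
An involution in the centre of a Sylow subgroup of order 128.
-/
import Cfsg.Agent.Lib.SimpleM22.Pair

set_option autoImplicit false
set_option linter.style.haveILetI false
set_option linter.unusedSectionVars false

namespace CfsgSimpleM22

open Cfsg CfsgLib.CharTheory CfsgSimpleM11

universe u
variable {G : Type u} [Group G] [Fintype G]

/-- The pairs of lists of degrees left by an involution in the centre of a Sylow subgroup. -/
def J5 : List (List ℕ × List ℕ) :=
  [([21, 21, 56, 120], [55, 120]), ([21, 45, 45, 210], [55, 99]), ([21, 56, 120, 210], [55, 120]),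
    ([21, 56, 120, 252], [55, 120]), ([21, 120, 210, 210], [55, 120])]

/-- The possible orders of the centraliser of such an involution. -/
abbrev centsT : List ℕ := [128, 384, 640, 1152, 1920, 5760]

theorem J5_aux : (A11.all fun D => B7.all fun D' =>
    !(joined D D') || J5.contains (D, D') || centsT.all fun C => (rows2 D D' C).isEmpty) = true := by
  decide +kernel

theorem exists_two_central (hG : IsM22 G) : ∃ t : G, orderOf t = 2 ∧ 128 ∣ cc t := by
  classical
  haveI : Fact (Nat.Prime 2) := ⟨by norm_num⟩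
  obtain ⟨P⟩ := (inferInstance : Nonempty (Sylow 2 G))
  have hP : Nat.card (P : Subgroup G) = 128 := by
    rw [Sylow.card_eq_multiplicity, card_eq hG,
      CfsgLib.Order7920.fac_eq (k := 7) (by norm_num) (by norm_num) (by norm_num) (by norm_num)]
    norm_num
  haveI : Nontrivial (P : Subgroup G) := (Subgroup.nontrivial_iff_ne_bot _).2 fun h => by
    rw [h, Subgroup.card_bot] at hP; norm_num at hP
  haveI := P.isPGroup'.center_nontrivial
  obtain ⟨c, hc⟩ := exists_ne (1 : Subgroup.center (P : Subgroup G))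
  obtain ⟨k, hk⟩ := IsPGroup.iff_orderOf.1 (P.isPGroup'.to_subgroup (Subgroup.center (P : Subgroup G))) c
  have hk0 : k ≠ 0 := fun h => hc (orderOf_eq_one_iff.mp (by rw [hk, h, pow_zero]))
  refine ⟨((c ^ 2 ^ (k - 1) : Subgroup.center (P : Subgroup G)) : (P : Subgroup G)), ?_, ?_⟩
  · rw [Subgroup.orderOf_coe, Subgroup.orderOf_coe, orderOf_pow' c (pow_ne_zero _ (by norm_num)), hk,
      Nat.gcd_eq_right (pow_dvd_pow 2 (by omega)), Nat.pow_div (by omega) (by norm_num)]
    rw [show k - (k - 1) = 1 by omega, pow_one]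
  · rw [← hP]
    refine Subgroup.card_dvd_of_le fun g hg => Subgroup.mem_centralizer_singleton_iff.mpr ?_
    have := Subgroup.mem_center_iff.mp (c ^ 2 ^ (k - 1)).2 ⟨g, hg⟩
    exact congrArg Subtype.val this

theorem cents_two_central (hG : IsM22 G) (F : Frame G 11 5) (hD : F.D ∈ A11) (hFt : F.t = 2) {t : G}
    (ht : orderOf t = 2) (h128 : 128 ∣ cc t) : cc t ∈ centsT := by
  obtain ⟨h1, h2, h3, h4⟩ := cc_facts hG ht
  have h7 := not_seven_dvd hG F hD hFt h4 (by rw [ht]; norm_num)
  have key : ((List.range 316).all fun k =>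
      (40320 % (128 * k) != 0) || (k % 7 == 0) || centsT.contains (128 * k)) = true := by decide +kernel
  obtain ⟨k, hk⟩ := h128
  have hk' := List.all_eq_true.1 key k (List.mem_range.2 (by omega))
  rw [hk] at h7 ⊢
  simp only [Bool.or_eq_true, bne_iff_ne, ne_eq, beq_iff_eq, List.contains_iff_mem] at hk'
  rcases hk' with (h | h) | h
  · exact absurd (Nat.mod_eq_zero_of_dvd (hk ▸ dvd_40320 h1 h3)) h
  · exact absurd ((Nat.dvd_of_mod_eq_zero h).mul_left _) h7
  · exact h

/-- The two lists of degrees. -/
theorem mem_J5 (hG : IsM22 G) (F : Frame G 11 5) (hD : F.D ∈ A11) (hFt : F.t = 2) (S : Frame G 7 3)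
    (hS : S.D ∈ B7) (hSt : S.t = 2) : (F.D, S.D) ∈ J5 := by
  obtain ⟨t, ht, h128⟩ := exists_two_central hG
  have h := List.all_eq_true.1 (List.all_eq_true.1 J5_aux _ hD) _ hS
  rw [joined_frames F S hG hFt hSt, Bool.not_true, Bool.false_or, Bool.or_eq_true] at h
  rcases h with h | h
  · exact List.contains_iff_mem.1 h
  · have h1 := List.all_eq_true.1 h _ (cents_two_central hG F hD hFt ht h128)
    rw [List.isEmpty_iff] at h1
    have h2 := rows2_mem F S hG hFt hSt ht
    rw [h1] at h2
    exact absurd h2 List.not_mem_nil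

end CfsgSimpleM22
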