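/-
The column at the prime five: degrees.
-/
import Cfsg.Agent.Lib.SimpleM22.TwoCentral

set_option autoImplicit false
set_option linter.style.haveILetI false
set_option linter.unusedSectionVars false

namespace CfsgSimpleM22

open Cfsg CfsgLib.CharTheory CfsgSimpleM11
open CfsgLib.SmallSylow (inIdx)

universe u

instance : Fact (Nat.Prime 5) := ⟨by norm_num⟩
instance : Fact (Nat.Prime 7) := ⟨by norm_num⟩

/-- The degrees allowed in the block at five. -/
def cand5 (e n : ℕ) (av : List ℕ) : List ℕ :=
  degs.filter fun d => ((d % 5 == 1) || (d % 5 == 4)) && (e * n % d == 0) && (av.contains d || d % 77 == 0)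

/-- The degrees of a block at five fit. -/
def okFive (av B : List ℕ) (H : ℕ) : Bool :=
  (B.all fun d => d % 77 == 0 || decide (B.count d ≤ av.count d)) &&
    decide (1 + (av.map fun d => d * d).sum + ((B.filter fun d => d % 77 == 0).map fun d => d * d).sum ≤ 443520) &&
    (decide (H ≠ 1) || av.all fun d => d % 5 == 0 || decide (av.count d ≤ B.count d))

/-- The degrees of the nontrivial characters of the block at five. -/
def opts5 (av : List ℕ) (H e : ℕ) : List (List ℕ) :=
  let n := 88704 / (H * e)
  (((multis (cand5 e n av) (e - 1)).filter fun l => okEta 5 e n (sumX 5 l)).map fun l =>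
      l ++ List.replicate (4 / e) (fOf 5 l)).filter fun B => okFive av B H

/-- The degrees of the block at five in each case. -/
def BOf (q : List ℕ × List ℕ) : List ℕ :=
  if q.1 == [21, 45, 45, 210] then [21, 99, 154, 231] else [21, 66, 66, 154]

/-- The cases left. -/
def fiveList : List ((List ℕ × List ℕ) × ℕ) :=
  (J5.flatMap fun q => (if q.1 == [21, 45, 45, 210] then [16] else [96, 16, 6]).map fun H => (q, H)) ++
    [(([21, 120, 210, 210], [55, 120]), 1), (([21, 45, 45, 210], [55, 99]), 1)]

/-- The divisors of 1152. -/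
abbrev divs1152 : List ℕ :=
  [1, 2, 3, 4, 6, 8, 9, 12, 16, 18, 24, 32, 36, 48, 64, 72, 96, 128, 144, 192, 288, 384, 576, 1152]

theorem fiveList_aux : (J5.all fun q => divs1152.all fun H => ([2, 4] : List ℕ).all fun e =>
    (88704 % (H * e) != 0) || (88704 / (H * e) % 5 != 1) ||
      (opts5 (avail77 q.1 q.2) H e).all fun B => e == 4 && fiveList.contains (q, H) && B.isPerm (BOf q)) = true := by
  decide +kernel

variable {G : Type u} [Group G] [Fintype G] {p : ℕ} [Fact p.Prime] {P : Sylow p G}

/-- The nontrivial characters of the block. -/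
noncomputable def BL.L (B : BL P) : List (IrrCharacter G) := B.xs ++ B.ys

theorem BL.map_L (B : BL P) {m : ℕ} (hm : B.ys.length = m) :
    B.L.map (fun χ : IrrCharacter G => dg χ) =
      B.xs.map (fun χ : IrrCharacter G => dg χ) ++ List.replicate m B.f := by
  rw [BL.L, List.map_append, List.map_congr_left (l := B.ys) (g := fun _ => B.f)
    (fun η hη => B.degY η hη), List.map_const', hm]

variable (F : Frame G 11 5) (S : Frame G 7 3)

theorem mem_lun_of {χ : IrrCharacter G} (h1 : χ ≠ triv G) (h : ¬ 77 ∣ dg χ) : χ ∈ lun F S :=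
  (List.mem_cons.1 (by_contra fun hn => h (seventy_seven_dvd F S hn))).resolve_left h1

/-- Members of a block with a given property are found among the known characters. -/
theorem count_good (B : BL P) (good : IrrCharacter G → Bool) (hgood : ∀ χ ∈ B.L, good χ = true) {d : ℕ}
    (hd : ¬ 77 ∣ d) : (B.L.map fun χ : IrrCharacter G => dg χ).count d ≤
      ((lun F S).filter fun χ : IrrCharacter G => dg χ == d && good χ).length := by
  rw [List.count_eq_countP, List.countP_map, List.countP_eq_length_filter]
  refine (List.Nodup.subperm ((List.nodup_cons.1 B.nodup).2.filter _) ?_).length_le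
  intro χ hχ
  obtain ⟨h1, h2⟩ := List.mem_filter.1 hχ
  have h3 : dg χ = d := by simpa using h2
  refine List.mem_filter.2 ⟨mem_lun_of F S (fun e => (List.nodup_cons.1 B.nodup).1 (e ▸ h1)) (h3 ▸ hd), ?_⟩
  simp [h3, hgood χ h1]

/-- The column at five. -/
theorem five_cases (hG : IsM22 G) (hD : F.D ∈ A11) (hFt : F.t = 2) (hS : S.D ∈ B7) (hSt : S.t = 2)
    (P : Sylow 5 G) :
    ∃ (H : ℕ) (B : BL P), Nat.card (Subgroup.centralizer ((P : Subgroup G) : Set G)) = 5 * H ∧ inIdx P = 4 ∧
      ((F.D, S.D), H) ∈ fiveList ∧ (B.L.map fun χ : IrrCharacter G => dg χ).Perm (BOf (F.D, S.D)) := by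
  classical
  have hP : Nat.card (P : Subgroup G) = 5 := card_sylow5 hG P
  obtain ⟨heq, ⟨H, hH⟩, he2, hed, hmod, -⟩ := setting hG (by norm_num) P hP
  obtain ⟨B⟩ := exists_BL (by norm_num) P hP (two_le_e hG P hP)
  obtain ⟨n, hn⟩ : ∃ n, Nat.card (Sylow 5 G) = n := ⟨_, rfl⟩
  obtain ⟨e, he⟩ : ∃ e, inIdx P = e := ⟨_, rfl⟩
  rw [he, hn, hH] at heq
  rw [hn] at hmod
  rw [he] at he2 hed
  have h88 : 88704 = H * e * n := Nat.eq_of_mul_eq_mul_left (show 0 < 5 by norm_num) (by linarith)
  have he24 : e = 2 ∨ e = 4 := by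
    have := Nat.le_of_dvd (by norm_num) hed
    interval_cases e <;> omega
  obtain ⟨x, hx, hx1⟩ := CfsgLib.SmallSylow.exists_mem_ne P hP
  have hxo := CfsgLib.SmallSylow.orderOf_mem P hP hx hx1
  have hcx : cc x = 5 * H := by
    show Nat.card (Subgroup.centralizer ({x} : Set G)) = _
    rw [CfsgLib.SmallSylow.centralizer_eq P hP hx hx1, hH]
  have h11 : ¬ 11 ∣ H := fun h => not_eleven_dvd hG hx1 (by rw [hxo]; norm_num) (hcx ▸ h.mul_left 5)
  have h7 : ¬ 7 ∣ H := fun h =>
    not_seven_dvd hG F hD hFt hx1 (by rw [hxo]; norm_num) (hcx ▸ h.mul_left 5)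
  have hHd : H ∣ 1152 := by
    refine (((Nat.Prime.coprime_iff_not_dvd (by norm_num : Nat.Prime 7)).2 h7).mul_left
      ((Nat.Prime.coprime_iff_not_dvd (by norm_num : Nat.Prime 11)).2 h11)).symm.dvd_of_dvd_mul_left ?_
    exact ⟨e * n, by rw [← mul_assoc, ← h88]⟩
  have hHmem : H ∈ divs1152 := by
    have key : ((List.range 1153).all fun k => (1152 % k != 0) || divs1152.contains k) = true := by decide +kernel
    have := List.all_eq_true.1 key H (List.mem_range.2 (Nat.lt_succ_of_le (Nat.le_of_dvd (by norm_num) hHd)))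
    simpa [Nat.mod_eq_zero_of_dvd hHd] using this
  have h := List.all_eq_true.1 (List.all_eq_true.1 (List.all_eq_true.1 fiveList_aux _
    (mem_J5 hG F hD hFt S hS hSt)) H hHmem) e (by rcases he24 with rfl | rfl <;> simp)
  have hH0 : 0 < H * e := Nat.pos_of_ne_zero fun h0 => by rw [h0] at h88; simp at h88
  have hdiv : 88704 / (H * e) = n := by rw [h88, Nat.mul_div_cancel_left _ hH0]
  have hm0 : 88704 % (H * e) = 0 := by rw [h88]; exact Nat.mul_mod_right _ _
  simp only [hm0, hdiv, hmod, bne_self_eq_false, Bool.false_or] at h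
  -- the list of degrees of the block is one of the options
  obtain ⟨hok, habs⟩ := B.degree hG
  rw [he, hn] at hok
  set av := avail77 F.D S.D with hav
  have hlys : B.ys.length = 4 / e :=
    he ▸ (Nat.div_eq_of_eq_mul_left (inIdx_pos P) (B.len_ys).symm).symm
  have hav' : av = (lun F S).map fun χ : IrrCharacter G => dg χ := (map_lun F S hG hFt hSt).symm
  have hcand : ∀ d ∈ B.xs.map (fun χ : IrrCharacter G => dg χ), d ∈ cand5 e n av := by
    intro d hd
    obtain ⟨χ, hχ, rfl⟩ := List.mem_map.1 hd
    simp only [cand5, List.mem_filter, Bool.and_eq_true, Bool.or_eq_true, beq_iff_eq, List.contains_iff_mem]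
    have h1 := B.dvdX χ hχ
    rw [he, hn] at h1
    refine ⟨dg_mem hG (B.xs_ne_triv hχ), ⟨B.modX χ hχ, Nat.mod_eq_zero_of_dvd h1⟩, ?_⟩
    by_cases h77 : 77 ∣ dg χ
    · exact Or.inr (Nat.mod_eq_zero_of_dvd h77)
    · exact Or.inl (hav' ▸ List.mem_map_of_mem (mem_lun_of F S (B.xs_ne_triv hχ) h77))
  obtain ⟨D', hD', hperm⟩ := exists_mem_multis hcand
  rw [List.length_map, show B.xs.length = e - 1 by have := B.len_xs; omega] at hD'
  have hf : fOf 5 D' = B.f := by rw [fOf, sumX_perm 5 hperm]; exact habs
  have hBperm : (B.L.map fun χ : IrrCharacter G => dg χ).Perm (D' ++ List.replicate (4 / e) (fOf 5 D')) := by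
    rw [B.map_L hlys, hf]
    exact (hperm.symm).append_right _
  have hok5 : okFive av (D' ++ List.replicate (4 / e) (fOf 5 D')) H = true := by
    have hcnt : ∀ d, (D' ++ List.replicate (4 / e) (fOf 5 D')).count d =
        (B.L.map fun χ : IrrCharacter G => dg χ).count d := fun d => (hBperm.count_eq d).symm
    simp only [okFive, Bool.and_eq_true, Bool.or_eq_true, List.all_eq_true, beq_iff_eq, decide_eq_true_eq, hcnt]
    refine ⟨⟨fun d _ => ?_, ?_⟩, ?_⟩
    · by_cases hd : 77 ∣ d
      · exact Or.inl (Nat.mod_eq_zero_of_dvd hd)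
      · right
        refine (count_good F S B (fun _ => true) (fun _ _ => rfl) hd).trans (le_of_eq ?_)
        rw [hav', List.count_eq_countP, List.countP_map, List.countP_eq_length_filter]
        exact congrArg List.length (List.filter_congr fun χ _ => by simp)
    · rw [((hBperm.symm.filter _).map fun d => d * d).sum_eq, List.filter_map, List.map_map, hav', List.map_map,
        ← sum_dg_sq hG]
      set M := B.L.filter ((fun d => d % 77 == 0) ∘ fun χ : IrrCharacter G => dg χ) with hM
      have hnd : (triv G :: (lun F S ++ M)).Nodup := by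
        obtain ⟨l1, l2⟩ := List.nodup_cons.1 (nodup_lun F S)
        obtain ⟨b1, b2⟩ := List.nodup_cons.1 B.nodup
        rw [List.nodup_cons, List.nodup_append]
        refine ⟨fun h => ?_, l2, b2.filter _, fun a ha b hb e => ?_⟩
        · rcases List.mem_append.1 h with h | h
          · exact l1 h
          · exact b1 (List.mem_of_mem_filter h)
        · subst e
          obtain ⟨-, hb⟩ := List.mem_filter.1 hb
          simp only [Function.comp_apply, beq_iff_eq] at hb
          have h77 := Nat.dvd_of_mod_eq_zero hb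
          rcases List.mem_append.1 ha with ha | ha
          · exact not_eleven_L F ha ((show 11 ∣ 77 by norm_num).trans h77)
          · exact not_seven_L S (List.mem_of_mem_filter ha) ((show 7 ∣ 77 by norm_num).trans h77)
      have hs := Finset.sum_le_sum_of_subset_of_nonneg (f := fun χ : IrrCharacter G => dg χ ^ 2)
        (Finset.subset_univ (triv G :: (lun F S ++ M)).toFinset) (fun _ _ _ => Nat.zero_le _)
      rw [List.sum_toFinset _ hnd, List.map_cons, List.sum_cons, List.map_append, List.sum_append, dg_triv] at hs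
      refine le_of_eq_of_le ?_ hs
      simp only [Function.comp_def, pow_two]
      ring
    · by_cases hH1 : H = 1
      · right
        intro d _
        by_cases h5 : 5 ∣ d
        · exact Or.inl (Nat.mod_eq_zero_of_dvd h5)
        right
        have hCeq : Subgroup.centralizer ((P : Subgroup G) : Set G) = (P : Subgroup G) := by
          haveI : IsCyclic (P : Subgroup G) := isCyclic_of_prime_card (p := 5) hP
          refine (Subgroup.eq_of_le_of_card_ge (Subgroup.le_centralizer (P : Subgroup G)) ?_).symm
          rw [hH, hH1, hP]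
        rw [hav', List.count_eq_countP, List.countP_map, List.countP_eq_length_filter, List.count_eq_countP,
          List.countP_map, List.countP_eq_length_filter]
        refine (List.Nodup.subperm ((List.nodup_cons.1 (nodup_lun F S)).2.filter _) ?_).length_le
        intro χ hχ
        obtain ⟨h1, h2⟩ := List.mem_filter.1 hχ
        have h3 : dg χ = d := by simpa using h2
        refine List.mem_filter.2 ⟨?_, h2⟩
        rcases List.mem_cons.1 (B.mem_of_not_dvd hCeq (h3 ▸ h5)) with e | h
        · exact absurd (e ▸ h1) (List.nodup_cons.1 (nodup_lun F S)).1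
        · exact h
      · exact Or.inl hH1
  have hmem : D' ++ List.replicate (4 / e) (fOf 5 D') ∈ opts5 av H e := by
    rw [opts5, hdiv]
    refine List.mem_filter.2 ⟨List.mem_map.2 ⟨D', List.mem_filter.2 ⟨hD', ?_⟩, rfl⟩, hok5⟩
    rw [sumX_perm 5 hperm]
    exact hok
  have h' := List.all_eq_true.1 h _ hmem
  simp only [Bool.and_eq_true, beq_iff_eq, List.contains_iff_mem, List.isPerm_iff] at h'
  exact ⟨H, B, hH, he.trans h'.1.1, h'.1.2, hBperm.trans h'.2⟩

end CfsgSimpleM22
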