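/-
Rational characters separated by an involution.
-/
import Cfsg.Agent.Lib.SimpleM22.Pair

set_option autoImplicit false
set_option linter.style.haveILetI false
set_option linter.unusedSectionVars false

namespace CfsgSimpleM22

open Cfsg CfsgLib.CharTheory CfsgLib.Blocks CfsgSimpleM11
open CfsgLib.SmallSylow (inIdx)

universe u

/-- The degrees and values separate the characters of the column. -/
def sepOk (f : ℕ) (D : List ℕ) (x : List ℤ) : Bool :=
  decide (D.zip x).Nodup && x.getLast?.all fun v => !((D.zip x).contains (f, v))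

variable {G : Type u} [Group G] [Fintype G] {p : ℕ} [Fact p.Prime] {e : ℕ}

theorem zip_row (l : List (IrrCharacter G)) (g : G) (v : ℤ) :
    (l.map fun χ : IrrCharacter G => dg χ).zip ((l.map fun χ : IrrCharacter G => ival χ g) ++ [v]) =
      l.map fun χ : IrrCharacter G => (dg χ, ival χ g) := by
  induction l with
  | nil => rfl
  | cons a r ih => simp only [List.map_cons, List.cons_append, List.zip_cons_cons, ih]

/-- Characters separated by their degrees and their values at an involution are integral at regular elements. -/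
theorem Frame.int_of_sep (hG : IsM22 G) (F : Frame G p e) (hodd : p ≠ 2) (hep : e < p) {N : ℕ}
    (hN : N * p = 443520) (hNp : N.Coprime p) {t : G} (ht : orderOf t = 2)
    (hsep : sepOk (fOf p F.D) F.D (F.row t) = true) {g : G} (hg : ¬ p ∣ orderOf g) :
    ∀ χ ∈ F.L, (χ : G → ℂ) g = (ival χ g : ℂ) := by
  intro χ hχ
  have hp := (Fact.out : p.Prime)
  have hreg : g ^ N = 1 := by
    refine orderOf_dvd_iff_pow_eq_one.mp (((hp.coprime_iff_not_dvd).2 hg).symm.dvd_of_dvd_mul_right ?_)
    rw [hN, ← card_eq hG]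
    exact orderOf_dvd_natCard g
  obtain ⟨v, hv⟩ : ∃ v : ℤ, (χ : G → ℂ) g = v := by
    refine rational_int_of_invariant (isCharacter_of_irr χ.2) g fun m hm => ?_
    rw [card_eq hG] at hm
    obtain ⟨k, hk1, hk2⟩ := Nat.chineseRemainder hNp m 1
    have hkG : k.Coprime (Nat.card G) := by
      rw [card_eq hG, ← hN]
      rw [← hN] at hm
      refine Nat.Coprime.mul_right ?_ ?_
      · rw [Nat.Coprime, Nat.gcd_comm, Nat.gcd_rec, hk1, ← Nat.gcd_rec, Nat.gcd_comm]
        exact hm.coprime_mul_right_right
      · rw [Nat.Coprime, Nat.gcd_comm, Nat.gcd_rec, hk2, ← Nat.gcd_rec]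
        exact Nat.gcd_one_right p
    have hodk : k % 2 = 1 := by
      by_contra h2
      have h2' : 2 ∣ k := Nat.dvd_of_mod_eq_zero (by omega)
      have := Nat.dvd_gcd h2' (show 2 ∣ Nat.card G by rw [card_eq hG]; norm_num)
      rw [hkG] at this
      norm_num at this
    have htk : t ^ k = t := by
      rw [pow_eq_pow_mod k (show t ^ 2 = 1 by rw [← ht, pow_orderOf_eq_one]), hodk, pow_one]
    set ψ := powIrr hkG χ with hψ
    have h1 : (ψ : G → ℂ) 1 = (χ : G → ℂ) 1 := by
      show (χ : G → ℂ) (1 ^ k) = _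
      rw [one_pow]
    rw [irr_degree, irr_degree] at h1
    have hd : dg ψ = dg χ := by exact_mod_cast h1
    have hnd : ∀ {φ}, φ ∈ F.L → ¬ p ∣ dg φ := fun h =>
      F.B.not_dvd_dg hodd (by rw [F.he]; exact hep) (List.mem_cons_of_mem _ h)
    have hψL : ψ ∈ F.L := by
      refine F.mem_L (fun e' => ?_) (hd ▸ hnd hχ)
      have h2 := two_le_dg hG (F.ne_triv hχ)
      rw [e', dg_triv] at hd
      omega
    have hvt : ival ψ t = ival χ t := by
      refine ival_eq ?_
      show (χ : G → ℂ) (t ^ k) = _
      rw [htk, ival_inv hG χ ht]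
    have hyt : ∀ η ∈ F.B.ys, ival η t = ival F.eta t := fun η hη => by
      have h := F.B.agree η hη F.eta F.eta_mem t (not_dvd_two hodd ht)
      rw [ival_inv hG η ht, ival_inv hG F.eta ht] at h
      exact_mod_cast h
    simp only [sepOk, Bool.and_eq_true, decide_eq_true_eq, Frame.row, List.getLast?_append,
      List.getLast?_singleton, Option.some_or, Option.all_some, Bool.not_eq_true',
      List.contains_eq_mem, decide_eq_false_iff_not, Frame.D, zip_row] at hsep
    have hmix : ∀ a ∈ F.B.ys, ∀ b ∈ F.B.xs, dg b = dg a → ival b t = ival a t → False := fun a ha b hb e1 e2 =>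
      hsep.2 (List.mem_map.2 ⟨b, hb, by
        rw [e1, e2, hyt a ha, F.B.degY a ha, ← F.fOf_eq hG]; rfl⟩)
    have hψg : (ψ : G → ℂ) g = (χ : G → ℂ) g := by
      rcases List.mem_append.1 hχ with hc | hc <;> rcases List.mem_append.1 hψL with hs | hs
      · rw [List.inj_on_of_nodup_map hsep.1 hs hc (by rw [hd, hvt])]
      · exact (hmix ψ hs χ hc hd.symm hvt.symm).elim
      · exact (hmix χ hc ψ hs hd hvt).elim
      · exact F.B.agree ψ hs χ hc g hg
    rw [pow_eq_pow_of_modEq hk1.symm hreg]
    exact hψg
  exact ival_spec hv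

end CfsgSimpleM22
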