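/-
An involution commuting with an element of order five: no case is left.
-/
import Cfsg.Agent.Lib.SimpleM22.FiveLists
import Cfsg.Agent.Lib.SimpleM22.Separated

set_option autoImplicit false
set_option linter.style.haveILetI false
set_option linter.unusedSectionVars false

namespace CfsgSimpleM22

open Cfsg CfsgLib.CharTheory CfsgLib.Blocks CfsgSimpleM11
open CfsgLib.SmallSylow (inIdx)

universe u

/-- The orders of centralisers of involutions commuting with an element of order five. -/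
abbrev cents10 : List ℕ := evenCents.filter fun C => C % 5 == 0 && C % 7 != 0

/-- The values at an involution fit the block at five. -/
def goodY (E : List (ℕ × ℤ)) (B : List ℕ) : Bool :=
  B.all fun d => d % 77 == 0 ||
    decide (B.count d ≤ E.countP fun a => a.1 == d && (a.2 - (d : ℤ)) % 20 == 0)

/-- The values at an element of order five fit its block. -/
def goodX (E : List (ℕ × ℤ)) (B : List ℕ) : Bool :=
  B.all fun d => d % 77 == 0 || decide (B.count d ≤ E.countP fun a => a.1 == d && a.2 == sgn 5 d)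

/-- The values at both fit together. -/
def goodXY (Ey Ex : List (ℕ × ℤ)) (B : List ℕ) : Bool :=
  B.all fun d => d % 77 == 0 || decide (B.count d ≤ (Ey.zip Ex).countP fun a =>
    a.1.1 == d && ((a.1.2 - (d : ℤ)) % 20 == 0) && (a.2.2 == sgn 5 d))

/-- A count of representations is a natural number. -/
def biOk (p e : ℕ) (D : List ℕ) (C C' : ℕ) (x y : List ℤ) : Bool :=
  let s := biSum p e (fOf p D) D x y
  decide (0 ≤ s) && (s % ((C * C' : ℕ) : ℤ) == 0)

/-- The orthogonality of a column to the degrees, in the form of an inequality. -/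
def gramDeg (C : ℕ) (E : List (ℕ × ℤ)) : Bool :=
  let s := 1 + (E.map fun a => a.2 * (a.1 : ℤ)).sum
  decide (s ^ 2 ≤ ((C : ℤ) - (1 + (E.map fun a => a.2 ^ 2).sum)) *
    (443520 - (1 + (E.map fun a => (a.1 : ℤ) ^ 2).sum)))

/-- The possible columns at an element of order five. -/
def cols5 (D D' B : List ℕ) (C : ℕ) : List (List ℤ × List ℤ) :=
  let Y := (cols 7 3 2 D' C fun d => dom 5 C d).filter fun y => biOk 7 3 D' C C y y
  ((cols 11 5 2 D C fun d => dom 5 C d).filter fun x => biOk 11 5 D C C x x).flatMap fun x =>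
    (Y.filter fun y => fit C D D' x y && goodX (m77 D D' x y) B && gramDeg C (m77 D D' x y)).map fun y => (x, y)

/-- The test of a pair of rows at an involution. -/
def killY (q : List ℕ × List ℕ) (H Cy : ℕ) (r : List ℤ × List ℤ) : Bool :=
  !(goodY (m77 q.1 q.2 r.1 r.2) (BOf q)) ||
    (sepOk (fOf 11 q.1) q.1 r.1 && sepOk (fOf 7 q.2) q.2 r.2 &&
      (cols5 q.1 q.2 (BOf q) (5 * H)).all fun c =>
        !(goodXY (m77 q.1 q.2 r.1 r.2) (m77 q.1 q.2 c.1 c.2) (BOf q) &&
          biOk 11 5 q.1 Cy (5 * H) r.1 c.1 && biOk 7 3 q.2 Cy (5 * H) r.2 c.2))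

theorem killY_aux : (fiveList.all fun qH => qH.2 == 1 || cents10.all fun C =>
    (rows2 qH.1.1 qH.1.2 C).all fun r => killY qH.1 qH.2 C r) = true := by
  decide +kernel

theorem five_facts_aux : (fiveList.all fun qH =>
    (qH.2 == 1 || (decide (qH.2 ≤ 96) && (qH.2 % 2 == 0))) &&
      ((colDegs 11 qH.1.1 ++ colDegs 7 qH.1.2).all fun d => decide (21 ≤ d))) = true := by
  decide +kernel

variable {G : Type u} [Group G] [Fintype G] (F : Frame G 11 5) (S : Frame G 7 3)

theorem countP_zip {α β γ : Type*} (f : α → β) (g : α → γ) (q : β × γ → Bool) (l : List α) :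
    ((l.map f).zip (l.map g)).countP q = (l.filter fun a => q (f a, g a)).length := by
  rw [List.zip_map', List.countP_map, List.countP_eq_length_filter]
  rfl

theorem sgE_four {f : ℕ} (h : f % 5 = 4 ∨ f % 5 = 5 - 4) : sgE 5 4 f = sgn 5 f := by
  unfold sgE sgn
  rcases h with h | h <;> rw [h] <;> rfl

theorem biOk_count {p e : ℕ} [Fact p.Prime] (hG : IsM22 G) (K : Frame G p e) (hodd : p ≠ 2) {g h : G}
    (hg : ¬ p ∣ orderOf g) (hh : ¬ p ∣ orderOf h)
    (hvg : ∀ χ ∈ K.L, (χ : G → ℂ) g = (ival χ g : ℂ)) (hvh : ∀ χ ∈ K.L, (χ : G → ℂ) h = (ival χ h : ℂ)) :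
    biOk p e K.D (cc g) (cc h) (K.row g) (K.row h) = true := by
  simp only [biOk, Bool.and_eq_true, decide_eq_true_eq, beq_iff_eq]
  rw [K.count_bi hG hodd hg hh hvg hvh]
  refine ⟨mul_nonneg (mul_nonneg (Int.natCast_nonneg _) (Int.natCast_nonneg _)) (Int.natCast_nonneg _), ?_⟩
  rw [Nat.cast_mul, mul_assoc]
  exact Int.mul_emod_left _ _

/-- The Sylow subgroups of order five are self-centralising. -/
theorem five_small (hG : IsM22 G) (hD : F.D ∈ A11) (hFt : F.t = 2) (hS : S.D ∈ B7) (hSt : S.t = 2)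
    {P : Sylow 5 G} {H : ℕ} (B : BL P) (hC : Nat.card (Subgroup.centralizer ((P : Subgroup G) : Set G)) = 5 * H)
    (he : inIdx P = 4) (hmem : ((F.D, S.D), H) ∈ fiveList)
    (hB : (B.L.map fun χ : IrrCharacter G => dg χ).Perm (BOf (F.D, S.D))) : H = 1 := by
  classical
  by_contra hH1
  have hP : Nat.card (P : Subgroup G) = 5 := card_sylow5 hG P
  have hf := List.all_eq_true.1 five_facts_aux _ hmem
  simp only [Bool.and_eq_true, Bool.or_eq_true, beq_iff_eq, decide_eq_true_eq, List.all_eq_true] at hf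
  obtain ⟨hHc, h21⟩ := hf
  obtain ⟨hH96, hHev⟩ := hHc.resolve_left hH1
  obtain ⟨y, hyC, hy⟩ := exists_involution (H := Subgroup.centralizer ((P : Subgroup G) : Set G))
    (by rw [hC]; exact (Nat.dvd_of_mod_eq_zero hHev).mul_left 5)
  obtain ⟨x, hx, hx1⟩ := CfsgLib.SmallSylow.exists_mem_ne P hP
  have hxo := CfsgLib.SmallSylow.orderOf_mem P hP hx hx1
  have hcx : cc x = 5 * H := by
    show Nat.card (Subgroup.centralizer ({x} : Set G)) = _
    rw [CfsgLib.SmallSylow.centralizer_eq P hP hx hx1, hC]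
  have hno5 : ¬ 5 ∣ orderOf y := not_dvd_two (by norm_num) hy
  have hlys : B.ys.length = 1 := by have := B.len_ys; rw [he] at this; omega
  obtain ⟨η₀, hys⟩ := List.length_eq_one_iff.1 hlys
  -- the values of the members of the block
  have hsgn : ∀ χ ∈ B.L, ((20 : ℤ) ∣ ival χ y - dg χ) ∧ (χ : G → ℂ) x = (sgn 5 (dg χ) : ℂ) := by
    intro χ hχ
    rcases List.mem_append.1 hχ with hc | hc
    · refine ⟨B.value_mod hG (by norm_num) hP hy hyC hc (ival_inv hG χ hy), ?_⟩
      have h := B.valX χ hc x hx hx1 1 (Subgroup.one_mem _) (by rw [orderOf_one]; norm_num)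
      rwa [mul_one] at h
    · have hm := B.modf
      rw [he] at hm
      have hfd : dg χ = B.f := B.degY χ hc
      have hs : ∀ z ∈ Subgroup.centralizer ((P : Subgroup G) : Set G), ¬ 5 ∣ orderOf z →
          (χ : G → ℂ) (x * z) = (sgn 5 (dg χ) : ℂ) := fun z hz hz5 => by
        have h := B.sumY x hx hx1 z hz hz5
        rw [hys] at hc
        rw [hys, List.map_singleton, List.sum_singleton, he, sgE_four hm] at h
        rw [hfd, List.mem_singleton.1 hc]
        exact h
      refine ⟨value_mod_of hG (by norm_num) hP hx hx1 hy hyC χ (hs y hyC hno5)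
        (modEq_sgn (by rw [hfd]; exact hm.symm)) (ival_inv hG χ hy), ?_⟩
      have h := hs 1 (Subgroup.one_mem _) (by rw [orderOf_one]; norm_num)
      rwa [mul_one] at h
  have hgood : ∀ (good : IrrCharacter G → Bool), (∀ χ ∈ B.L, good χ = true) →
      ∀ d ∈ BOf (F.D, S.D), d % 77 = 0 ∨ (BOf (F.D, S.D)).count d ≤
        ((lun F S).filter fun χ : IrrCharacter G => dg χ == d && good χ).length := fun good hg d _ => by
    by_cases hd : 77 ∣ d
    · exact Or.inl (Nat.mod_eq_zero_of_dvd hd)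
    · exact Or.inr (hB.count_eq d ▸ count_good F S B good hg hd)
  have hvy : ∀ χ : IrrCharacter G, (χ : G → ℂ) y = (ival χ y : ℂ) := fun χ => ival_inv hG χ hy
  have hy11 : ¬ 11 ∣ orderOf y := not_dvd_two (by norm_num) hy
  have hy7 : ¬ 7 ∣ orderOf y := not_dvd_two (by norm_num) hy
  have hx11 : ¬ 11 ∣ orderOf x := by rw [hxo]; norm_num
  have hx7 : ¬ 7 ∣ orderOf x := by rw [hxo]; norm_num
  have hEy := m77_eq F S hG hFt hSt hy11 hy7 (fun χ _ => hvy χ) (fun χ _ => hvy χ)
  -- the centraliser of the involution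
  have hCy : cc y ∈ cents10 := by
    refine List.mem_filter.2 ⟨cc_mem_even hG hy, ?_⟩
    have h5 : 5 ∣ cc y := hxo ▸ Subgroup.orderOf_dvd_natCard _ (Subgroup.mem_centralizer_singleton_iff.mpr
      (Subgroup.mem_centralizer_iff.mp hyC x hx) : x ∈ Subgroup.centralizer ({y} : Set G))
    have h7 := not_seven_dvd hG F hD hFt (cc_facts hG hy).2.2.2 hy7
    simp only [Bool.and_eq_true, beq_iff_eq, bne_iff_ne, ne_eq]
    exact ⟨Nat.mod_eq_zero_of_dvd h5, fun h => h7 (Nat.dvd_of_mod_eq_zero h)⟩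
  have hk := List.all_eq_true.1 killY_aux _ hmem
  rw [Bool.or_eq_true, beq_iff_eq] at hk
  have hk2 := List.all_eq_true.1 (List.all_eq_true.1 (hk.resolve_left hH1) _ hCy) _
    (rows2_mem F S hG hFt hSt hy)
  have hgY : goodY (m77 F.D S.D (F.row y) (S.row y)) (BOf (F.D, S.D)) = true := by
    simp only [goodY, List.all_eq_true, Bool.or_eq_true, beq_iff_eq, decide_eq_true_eq]
    intro d hd
    refine (hgood (fun χ => (ival χ y - (dg χ : ℤ)) % 20 == 0) (fun χ hχ => ?_) d hd).imp_right fun h => ?_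
    · exact beq_iff_eq.2 (Int.emod_eq_zero_of_dvd (hsgn χ hχ).1)
    · refine h.trans (le_of_eq ?_)
      rw [← hEy, List.countP_map, List.countP_eq_length_filter]
      refine congrArg List.length (List.filter_congr fun χ _ => ?_)
      rcases eq_or_ne (dg χ) d with rfl | e
      · simp
      · simp [beq_eq_false_iff_ne.2 e]
  rw [killY, hgY, Bool.not_true, Bool.false_or, Bool.and_eq_true, Bool.and_eq_true] at hk2
  obtain ⟨⟨hs11, hs7⟩, hk3⟩ := hk2
  have hvF := F.int_of_sep hG (by norm_num) (by norm_num) (N := 40320) (by norm_num) (by norm_num) hy hs11 hx11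
  have hvS := S.int_of_sep hG (by norm_num) (by norm_num) (N := 63360) (by norm_num) (by norm_num) hy hs7 hx7
  have hdom : ∀ χ : IrrCharacter G, 21 ≤ dg χ → χ ≠ triv G → (χ : G → ℂ) x = (ival χ x : ℂ) →
      ival χ x ∈ dom 5 (cc x) (dg χ) := by
    intro χ hd hne hv
    have hm := modEq_degree χ (p := 5) (k := 1) (by rw [pow_one, ← hxo, pow_orderOf_eq_one]) hv
    have hn := norm_le (s := {χ}) (g := x) (fun ψ => ival ψ x) (by simp [hv])
    simp only [Finset.sum_singleton] at hn
    refine mem_dom (by norm_num) (by rw [hcx]; omega) (Int.modEq_iff_dvd.1 hm.symm)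
      (by rw [← pow_two]; exact hn) ?_ (dg_dvd_index_mul hG χ hv)
    have hlt : (ival χ x).natAbs < 22 := by
      by_contra hc
      have : (22 : ℕ) * 22 ≤ (ival χ x).natAbs * (ival χ x).natAbs := Nat.mul_le_mul (by omega) (by omega)
      have h2 : (((ival χ x).natAbs * (ival χ x).natAbs : ℕ) : ℤ) ≤ (cc x : ℤ) := by
        rw [Int.natAbs_mul_self, ← pow_two]; exact hn
      rw [hcx] at h2
      omega
    have h1 : ival χ x ≠ (dg χ : ℤ) := fun e => faithful_value hG hne hx1 (by rw [hv, e, Int.cast_natCast])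
    have h2 : ival χ x ≠ -(dg χ : ℤ) := fun e =>
      neg_degree_ne hG hne hx1 (by rw [hv, e, Int.cast_neg, Int.cast_natCast])
    omega
  have h21' : ∀ d, d ∈ colDegs 11 F.D ∨ d ∈ colDegs 7 S.D → 21 ≤ d := fun d h =>
    h21 d (List.mem_append.2 h)
  have hdF : ∀ χ ∈ F.L, ival χ x ∈ dom 5 (cc x) (dg χ) := fun χ hχ =>
    hdom χ (h21' _ (Or.inl (F.map_L hG hFt ▸ List.mem_map_of_mem hχ))) (F.ne_triv hχ) (hvF χ hχ)
  have hdS : ∀ χ ∈ S.L, ival χ x ∈ dom 5 (cc x) (dg χ) := fun χ hχ =>
    hdom χ (h21' _ (Or.inr (S.map_L hG hSt ▸ List.mem_map_of_mem hχ))) (S.ne_triv hχ) (hvS χ hχ)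
  have hcF := F.col_mem hG hx11 hvF (fun d => dom 5 (cc x) d) hdF
  have hcS := S.col_mem hG hx7 hvS (fun d => dom 5 (cc x) d) hdS
  rw [hFt] at hcF
  rw [hSt] at hcS
  have hEx := m77_eq F S hG hFt hSt hx11 hx7 hvF hvS
  have hvx : ∀ χ ∈ B.L, ival χ x = sgn 5 (dg χ) := fun χ hχ => ival_eq (hsgn χ hχ).2
  have hgX : goodX (m77 F.D S.D (F.row x) (S.row x)) (BOf (F.D, S.D)) = true := by
    simp only [goodX, List.all_eq_true, Bool.or_eq_true, beq_iff_eq, decide_eq_true_eq]
    intro d hd
    refine (hgood (fun χ => ival χ x == sgn 5 (dg χ)) (fun χ hχ => beq_iff_eq.2 (hvx χ hχ)) d hd).imp_right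
      fun h => ?_
    refine h.trans (le_of_eq ?_)
    rw [← hEx, List.countP_map, List.countP_eq_length_filter]
    refine congrArg List.length (List.filter_congr fun χ _ => ?_)
    rcases eq_or_ne (dg χ) d with rfl | e
    · simp
    · simp [beq_eq_false_iff_ne.2 e]
  have hgXY : goodXY (m77 F.D S.D (F.row y) (S.row y)) (m77 F.D S.D (F.row x) (S.row x))
      (BOf (F.D, S.D)) = true := by
    simp only [goodXY, List.all_eq_true, Bool.or_eq_true, beq_iff_eq, decide_eq_true_eq]
    intro d hd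
    refine (hgood (fun χ => (ival χ y - (dg χ : ℤ)) % 20 == 0 && ival χ x == sgn 5 (dg χ)) (fun χ hχ => ?_)
      d hd).imp_right fun h => ?_
    · simp only [Bool.and_eq_true, beq_iff_eq]
      exact ⟨Int.emod_eq_zero_of_dvd (hsgn χ hχ).1, hvx χ hχ⟩
    · refine h.trans (le_of_eq ?_)
      rw [← hEx, ← hEy, countP_zip]
      refine congrArg List.length (List.filter_congr fun χ _ => ?_)
      rcases eq_or_ne (dg χ) d with rfl | e
      · simp
      · simp [beq_eq_false_iff_ne.2 e]
  have hgram : gramDeg (cc x) (m77 F.D S.D (F.row x) (S.row x)) = true := by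
    have hvl : ∀ χ ∈ (triv G :: lun F S).toFinset, (χ : G → ℂ) x = (ival χ x : ℂ) := fun χ hχ => by
      rcases List.mem_cons.1 (List.mem_toFinset.1 hχ) with e | h
      · rw [e, triv_apply, ival_triv, Int.cast_one]
      · rcases List.mem_append.1 h with h | h
        · exact hvF χ h
        · exact hvS χ (List.mem_of_mem_filter h)
    have hb := gram_le (s := (triv G :: lun F S).toFinset) (g := x) (h := 1)
      (fun hc => hx1 (orderOf_eq_one_iff.mp ((orderOf_of_isConj hc).symm.trans orderOf_one)))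
      (fun χ => ival χ x) (fun χ => (dg χ : ℤ)) hvl (fun χ _ => by rw [irr_degree]; push_cast; rfl)
    have hc1 : cc (1 : G) = 443520 := by
      show Nat.card (Subgroup.centralizer ({1} : Set G)) = _
      rw [show Subgroup.centralizer ({1} : Set G) = ⊤ from eq_top_iff.mpr fun g _ =>
        Subgroup.mem_centralizer_singleton_iff.mpr (by simp), Subgroup.card_top, card_eq hG]
    rw [List.sum_toFinset _ (nodup_lun F S), List.sum_toFinset _ (nodup_lun F S),
      List.sum_toFinset _ (nodup_lun F S)] at hb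
    simp only [List.map_cons, List.sum_cons, ival_triv, dg_triv, hc1, one_mul, Nat.cast_one, one_pow,
      Nat.cast_ofNat] at hb
    simp only [gramDeg, ← hEx, List.map_map, decide_eq_true_eq, Function.comp_def]
    exact hb
  have hcmem : (F.row x, S.row x) ∈ cols5 F.D S.D (BOf (F.D, S.D)) (5 * H) := by
    rw [← hcx]
    simp only [cols5, List.mem_flatMap, List.mem_map, List.mem_filter, Bool.and_eq_true]
    exact ⟨_, ⟨hcF, biOk_count hG F (by norm_num) hx11 hx11 hvF hvF⟩, _,
      ⟨⟨hcS, biOk_count hG S (by norm_num) hx7 hx7 hvS hvS⟩, ⟨fit_frames F S hG hFt hSt hx11 hx7 hvF hvS, hgX⟩, hgram⟩, rfl⟩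
  have hlast := List.all_eq_true.1 hk3 _ hcmem
  rw [hgXY, ← hcx, biOk_count hG F (by norm_num) hy11 hx11 (fun χ _ => hvy χ) hvF,
    biOk_count hG S (by norm_num) hy7 hx7 (fun χ _ => hvy χ) hvS] at hlast
  exact absurd hlast (by simp)

end CfsgSimpleM22
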