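/-
The column of an element of order five.
-/
import Cfsg.Agent.Lib.SimpleM22.FiveInv

set_option autoImplicit false
set_option linter.style.haveILetI false
set_option linter.unusedSectionVars false

namespace CfsgSimpleM22

open Cfsg CfsgLib.CharTheory CfsgLib.Blocks CfsgSimpleM11
open CfsgLib.SmallSylow (inIdx)

universe u

/-- The values at an involution available to the block at five. -/
def dmT (E : List (ℕ × ℤ)) (C d : ℕ) : List ℤ :=
  if d % 77 == 0 then dom 4 C d else (E.filter fun a => a.1 == d).map Prod.snd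

/-- The orders in which the rational characters of the block can come. -/
def orders5 (B : List ℕ) : List (List ℕ) :=
  (multis B 3).filter fun l => (l ++ [fOf 5 l]).isPerm B

theorem killD_aux : (centsT.all fun C => (rows2 [21, 120, 210, 210] [55, 120] C).all fun r =>
    (orders5 (BOf ([21, 120, 210, 210], [55, 120]))).all fun D5 =>
      (cols 5 4 1 D5 C (dmT (m77 [21, 120, 210, 210] [55, 120] r.1 r.2) C)).all fun y =>
        !(biOk 5 4 D5 C C y y)) = true := by
  decide +kernel

variable {G : Type u} [Group G] [Fintype G] (F : Frame G 11 5) (S : Frame G 7 3)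

/-- The column at five of a self-centralising Sylow subgroup. -/
theorem exists_five (hG : IsM22 G) (hD : F.D ∈ A11) (hFt : F.t = 2) (hS : S.D ∈ B7) (hSt : S.t = 2)
    (P : Sylow 5 G) : Subgroup.centralizer ((P : Subgroup G) : Set G) = (P : Subgroup G) ∧
      ∃ K : Frame G 5 4, K.t = 1 ∧ K.D ∈ orders5 (BOf (F.D, S.D)) ∧ ((F.D, S.D), 1) ∈ fiveList := by
  obtain ⟨H, B, hH, he, hmem, hB⟩ := five_cases F S hG hD hFt hS hSt P
  have hH1 := five_small F S hG hD hFt hS hSt B hH he hmem hB
  subst hH1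
  have hP : Nat.card (P : Subgroup G) = 5 := card_sylow5 hG P
  have hC : Subgroup.centralizer ((P : Subgroup G) : Set G) = (P : Subgroup G) := by
    haveI : IsCyclic (P : Subgroup G) := isCyclic_of_prime_card (p := 5) hP
    exact (Subgroup.eq_of_le_of_card_ge (Subgroup.le_centralizer (P : Subgroup G)) (by rw [hH, hP])).symm
  have hlys : B.ys.length = 1 := by have := B.len_ys; rw [he] at this; omega
  have hlxs : B.xs.length = 3 := by have := B.len_xs; omega
  obtain ⟨D', hD', hperm⟩ := exists_mem_multis (cs := BOf (F.D, S.D))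
    (l := B.xs.map fun χ : IrrCharacter G => dg χ) fun d hd =>
      hB.subset (by rw [BL.L, List.map_append]; exact List.mem_append_left _ hd)
  rw [List.length_map, hlxs] at hD'
  obtain ⟨xs', hxs', hmap⟩ := exists_map_perm (f := fun χ : IrrCharacter G => dg χ) hperm
  obtain ⟨x, hx, hx1⟩ := CfsgLib.SmallSylow.exists_mem_ne P hP
  refine ⟨hC, ⟨P, hP, hC, he, x, hx, hx1, B.permute xs' hxs'⟩, hlys, ?_, hmem⟩
  show xs'.map (fun χ : IrrCharacter G => dg χ) ∈ orders5 _
  have hf : fOf 5 D' = B.f := by rw [fOf, sumX_perm 5 hperm]; exact (B.degree hG).2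
  rw [hmap, orders5, List.mem_filter, List.isPerm_iff]
  refine ⟨hD', ?_⟩
  rw [B.map_L hlys] at hB
  rw [hf]
  exact (hperm.append_right _).trans hB

theorem Frame.map_L1 (hG : IsM22 G) {p e : ℕ} [Fact p.Prime] (K : Frame G p e) (ht : K.t = 1) :
    K.L.map (fun χ : IrrCharacter G => dg χ) = K.D ++ [fOf p K.D] := by
  rw [K.fOf_eq hG]
  exact BL.map_L K.B ht

/-- A value available in the known rows. -/
theorem mem_dmT (hG : IsM22 G) (hFt : F.t = 2) (hSt : S.t = 2) {t : G} (ht : orderOf t = 2) {χ : IrrCharacter G}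
    (hne : χ ≠ triv G) : ival χ t ∈ dmT (m77 F.D S.D (F.row t) (S.row t)) (cc t) (dg χ) := by
  unfold dmT
  split
  · refine mem_dom_involution hG hne ht (by norm_num) (ival_inv hG χ ht) ?_
    obtain ⟨v, hv, h4, -⟩ := involution_int hG χ ht
    rw [ival_eq hv]
    push_cast
    omega
  · rename_i h
    rw [← m77_eq F S hG hFt hSt (not_dvd_two (by norm_num) ht) (not_dvd_two (by norm_num) ht)
      (fun χ _ => ival_inv hG χ ht) (fun χ _ => ival_inv hG χ ht)]
    refine List.mem_map.2 ⟨(dg χ, ival χ t), List.mem_filter.2 ⟨List.mem_map.2 ⟨χ, ?_, rfl⟩, by simp⟩, rfl⟩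
    exact mem_lun_of F S hne fun h77 => h (by simp [Nat.mod_eq_zero_of_dvd h77])

/-- The column at five of an involution. -/
theorem five_col_mem (hG : IsM22 G) (hFt : F.t = 2) (hSt : S.t = 2) (K : Frame G 5 4) (hKt : K.t = 1) {t : G}
    (ht : orderOf t = 2) :
    K.row t ∈ cols 5 4 1 K.D (cc t) (dmT (m77 F.D S.D (F.row t) (S.row t)) (cc t)) := by
  have h := K.col_mem hG (not_dvd_two (by norm_num) ht) (fun χ _ => ival_inv hG χ ht)
    (dmT (m77 F.D S.D (F.row t) (S.row t)) (cc t)) fun χ hχ => mem_dmT F S hG hFt hSt ht (K.ne_triv hχ)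
  rwa [hKt] at h

/-- The lists of degrees. -/
theorem degrees_T (hG : IsM22 G) (hD : F.D ∈ A11) (hFt : F.t = 2) (hS : S.D ∈ B7) (hSt : S.t = 2) :
    F.D = [21, 45, 45, 210] ∧ S.D = [55, 99] := by
  obtain ⟨P⟩ := (inferInstance : Nonempty (Sylow 5 G))
  obtain ⟨-, K, hKt, hKD, hmem⟩ := exists_five F S hG hD hFt hS hSt P
  have key : ∀ q ∈ J5, ((q, 1) : (List ℕ × List ℕ) × ℕ) ∈ fiveList →
      q = ([21, 120, 210, 210], [55, 120]) ∨ q = ([21, 45, 45, 210], [55, 99]) := by decide +kernel
  rcases key _ (mem_J5 hG F hD hFt S hS hSt) hmem with h | h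
  · exfalso
    obtain ⟨h1, h2⟩ := Prod.mk.injEq .. ▸ h
    obtain ⟨t, ht, h128⟩ := exists_two_central hG
    have hr := rows2_mem F S hG hFt hSt ht
    have hcol := five_col_mem F S hG hFt hSt K hKt ht
    rw [h1, h2] at hr hcol hKD
    have hk := List.all_eq_true.1 (List.all_eq_true.1 (List.all_eq_true.1 (List.all_eq_true.1 killD_aux _
      (cents_two_central hG F hD hFt ht h128)) _ hr) _ hKD) _ hcol
    rw [biOk_count hG K (by norm_num) (not_dvd_two (by norm_num) ht) (not_dvd_two (by norm_num) ht)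
      (fun χ _ => ival_inv hG χ ht) (fun χ _ => ival_inv hG χ ht)] at hk
    exact absurd hk (by simp)
  · exact ⟨congrArg Prod.fst h, congrArg Prod.snd h⟩

end CfsgSimpleM22
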