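/-
The degrees of the irreducible characters and the relations between their values.
-/
import Cfsg.Agent.Lib.SimpleM22.FiveOne

set_option autoImplicit false
set_option linter.style.haveILetI false
set_option linter.unusedSectionVars false

namespace CfsgSimpleM22

open Cfsg CfsgLib.CharTheory CfsgLib.Blocks CfsgSimpleM11
open CfsgLib.SmallSylow (inIdx)

universe u

/-- The degrees. -/
def D12 : Fin 12 → ℕ := ![1, 21, 45, 45, 210, 280, 280, 55, 99, 154, 231, 385]

/-- The irreducible characters with the relations between their values. -/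
structure Tbl (G : Type u) [Group G] [Fintype G] where
  χ : Fin 12 → IrrCharacter G
  bij : Function.Bijective χ
  deg : ∀ i, dg (χ i) = D12 i
  first : χ 0 = triv G
  rel11 : ∀ g : G, ¬ 11 ∣ orderOf g →
    1 - (χ 1 : G → ℂ) g + (χ 2 : G → ℂ) g + (χ 3 : G → ℂ) g + (χ 4 : G → ℂ) g - (χ 5 : G → ℂ) g = 0
  agree11 : ∀ g : G, ¬ 11 ∣ orderOf g → (χ 6 : G → ℂ) g = (χ 5 : G → ℂ) g
  rel7 : ∀ g : G, ¬ 7 ∣ orderOf g → 1 - (χ 7 : G → ℂ) g + (χ 8 : G → ℂ) g - (χ 2 : G → ℂ) g = 0
  agree7 : ∀ g : G, ¬ 7 ∣ orderOf g → (χ 3 : G → ℂ) g = (χ 2 : G → ℂ) g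
  rel5 : ∀ g : G, ¬ 5 ∣ orderOf g →
    1 + (χ 1 : G → ℂ) g - (χ 8 : G → ℂ) g - (χ 9 : G → ℂ) g + (χ 10 : G → ℂ) g = 0
  invRow : ∀ t : G, orderOf t = 2 → cc t = 384 ∧
    [ival (χ 1) t, ival (χ 2) t, ival (χ 3) t, ival (χ 4) t, ival (χ 5) t, ival (χ 7) t, ival (χ 8) t] =
      [5, -3, -3, 2, -8, 7, 3]
  cent7 : ∀ g : G, g ≠ 1 → ¬ 7 ∣ orderOf g → ¬ 7 ∣ cc g
  cent5 : ∀ g : G, g ≠ 1 → ¬ 5 ∣ orderOf g → ¬ 5 ∣ cc g

theorem rowT_aux : ((evenCents.filter fun C => C % 7 != 0).all fun C =>
    (rows2 [21, 45, 45, 210] [55, 99] C).all fun r =>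
      C == 384 && r.1 == [5, -3, -3, 2, -8] && r.2 == [7, 3, -3]) = true := by
  decide +kernel

theorem D12_nodup_aux : ∀ i j : Fin 12, D12 i = D12 j → i = j ∨ (i.val ∈ [2, 3] ∧ j.val ∈ [2, 3]) ∨
    (i.val ∈ [5, 6] ∧ j.val ∈ [5, 6]) := by decide +kernel

variable {G : Type u} [Group G] [Fintype G]

theorem not_five_dvd (hG : IsM22 G) (F : Frame G 11 5) (S : Frame G 7 3) (hD : F.D ∈ A11) (hFt : F.t = 2)
    (hS : S.D ∈ B7) (hSt : S.t = 2) {g : G} (hg1 : g ≠ 1) (hg : ¬ 5 ∣ orderOf g) : ¬ 5 ∣ cc g := by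
  intro h
  obtain ⟨a, ha, hao⟩ := exists_order (K := Subgroup.centralizer ({g} : Set G)) (by norm_num) h
  obtain ⟨P, hP⟩ := (IsPGroup.of_card (n := 1) (show Nat.card (Subgroup.zpowers a) = 5 ^ 1 by
    rw [Nat.card_zpowers, hao, pow_one])).exists_le_sylow
  have hPc : Nat.card (P : Subgroup G) = 5 := card_sylow5 hG P
  have haP : Subgroup.zpowers a = (P : Subgroup G) :=
    Subgroup.eq_of_le_of_card_ge hP (by rw [hPc, Nat.card_zpowers, hao])
  have hm : g ∈ Subgroup.centralizer ((P : Subgroup G) : Set G) := by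
    rw [← haP]
    refine Subgroup.mem_centralizer_iff.mpr fun y hy => ?_
    obtain ⟨i, rfl⟩ := Subgroup.mem_zpowers_iff.mp hy
    exact (Commute.zpow_left (Subgroup.mem_centralizer_singleton_iff.mp ha : Commute a g) i).eq
  rw [(exists_five F S hG hD hFt hS hSt P).1] at hm
  exact hg (by rw [CfsgLib.SmallSylow.orderOf_mem P hPc hm hg1])

theorem map_four {α β : Type*} {f : α → β} {l : List α} {a b c d : β} (h : l.map f = [a, b, c, d]) :
    ∃ A B C D, l = [A, B, C, D] ∧ f A = a ∧ f B = b ∧ f C = c ∧ f D = d := by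
  rcases l with _ | ⟨A, _ | ⟨B, _ | ⟨C, _ | ⟨D, _ | ⟨E, r⟩⟩⟩⟩⟩ <;> simp at h
  exact ⟨A, B, C, D, rfl, h.1, h.2.1, h.2.2.1, h.2.2.2⟩

theorem exists_tbl (hG : IsM22 G) : Nonempty (Tbl G) := by
  classical
  obtain ⟨F, hD, hFt⟩ := exists_eleven hG
  obtain ⟨S, hS, hSt⟩ := exists_seven hG F hD hFt
  obtain ⟨eF, eS⟩ := degrees_T F S hG hD hFt hS hSt
  obtain ⟨P5⟩ := (inferInstance : Nonempty (Sylow 5 G))
  obtain ⟨-, K, hKt, hKD, -⟩ := exists_five F S hG hD hFt hS hSt P5
  rw [eF, eS] at hKD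
  obtain ⟨a, b, c, d, hxs, da, db, dc, dd⟩ := map_four (eF : F.B.xs.map (fun χ : IrrCharacter G => dg χ) = _)
  obtain ⟨e, f, hys⟩ : ∃ e f, F.B.ys = [e, f] := List.length_eq_two.1 hFt
  obtain ⟨g₁, h₁, hSx, dg₁, dh₁⟩ : ∃ A B, S.B.xs = [A, B] ∧ dg A = 55 ∧ dg B = 99 := by
    have h : S.B.xs.map (fun χ : IrrCharacter G => dg χ) = [55, 99] := eS
    rcases hx : S.B.xs with _ | ⟨A, _ | ⟨B, _ | ⟨C, r⟩⟩⟩ <;> simp [hx] at h
    exact ⟨A, B, rfl, h.1, h.2⟩
  have hf11 : F.B.f = 280 := by
    rw [← F.fOf_eq hG, eF]; decide +kernel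
  have de : dg e = 280 := hf11 ▸ F.B.degY e (by simp [hys])
  have df : dg f = 280 := hf11 ▸ F.B.degY f (by simp [hys])
  have hf7 : S.B.f = 45 := by
    rw [← S.fOf_eq hG, eS]; decide +kernel
  obtain ⟨i, j, hSy⟩ : ∃ i j, S.B.ys = [i, j] := List.length_eq_two.1 hSt
  have di : dg i = 45 := hf7 ▸ S.B.degY i (by simp [hSy])
  have dj : dg j = 45 := hf7 ▸ S.B.degY j (by simp [hSy])
  have hlun : lun F S = [a, b, c, d, e, f, g₁, h₁] := by
    simp [lun, Frame.L, hxs, hys, hSx, hSy, dg₁, dh₁, di, dj]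
  have hndl : (triv G :: [a, b, c, d, e, f, g₁, h₁]).Nodup := hlun ▸ nodup_lun F S
  have h45 : ∀ χ ∈ F.L, dg χ = 45 → χ ∈ S.B.ys := by
    intro χ hχ hd
    have h7 : ¬ 7 ∣ dg χ := by rw [hd]; norm_num
    rcases List.mem_append.1 (S.mem_L (F.ne_triv hχ) h7) with h | h
    · exfalso
      simp only [hSx, List.mem_cons, List.not_mem_nil, or_false] at h
      rcases h with rfl | rfl
      · rw [dg₁] at hd; norm_num at hd
      · rw [dh₁] at hd; norm_num at hd
    · exact h
  have hb7 : b ∈ S.B.ys := h45 b (by simp [Frame.L, hxs]) db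
  have hc7 : c ∈ S.B.ys := h45 c (by simp [Frame.L, hxs]) dc
  -- the block at five
  have hKperm : (K.L.map fun χ : IrrCharacter G => dg χ).Perm [21, 99, 154, 231] := by
    rw [K.map_L1 hG hKt]
    simp only [orders5, List.mem_filter, List.isPerm_iff] at hKD
    exact hKD.2.trans (List.Perm.of_eq (by decide +kernel))
  obtain ⟨l5, hl5, hm5⟩ := exists_map_perm (f := fun χ : IrrCharacter G => dg χ) hKperm.symm
  obtain ⟨a', h', p, q, rfl, da', dh', dp, dq⟩ := map_four hm5
  have hl5' : ∀ χ ∈ [a', h', p, q], χ ∈ lun F S ∨ 77 ∣ dg χ := fun χ hχ => by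
    by_cases h : 77 ∣ dg χ
    · exact Or.inr h
    · exact Or.inl (mem_lun_of F S (K.ne_triv (hl5.subset hχ)) h)
  have ha' : a' = a := by
    have h := (hl5' a' (by simp)).resolve_right (by rw [da']; norm_num)
    simp only [hlun, List.mem_cons, List.not_mem_nil, or_false] at h
    rcases h with e' | e' | e' | e' | e' | e' | e' | e' <;> first | exact e' | (exfalso; subst e'; omega)
  have hh' : h' = h₁ := by
    have h := (hl5' h' (by simp)).resolve_right (by rw [dh']; norm_num)
    simp only [hlun, List.mem_cons, List.not_mem_nil, or_false] at h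
    rcases h with e' | e' | e' | e' | e' | e' | e' | e' <;> first | exact e' | (exfalso; subst e'; omega)
  subst ha' hh'
  -- the remaining character
  have hp : p ∉ triv G :: lun F S := by
    intro hm
    rcases List.mem_cons.1 hm with e' | hm
    · subst e'; rw [dg_triv] at dp; norm_num at dp
    simp only [hlun, List.mem_cons, List.not_mem_nil, or_false] at hm
    rcases hm with e' | e' | e' | e' | e' | e' | e' | e' <;> subst e' <;> omega
  have hq : q ∉ triv G :: lun F S := by
    intro hm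
    rcases List.mem_cons.1 hm with e' | hm
    · subst e'; rw [dg_triv] at dq; norm_num at dq
    simp only [hlun, List.mem_cons, List.not_mem_nil, or_false] at hm
    rcases hm with e' | e' | e' | e' | e' | e' | e' | e' <;> subst e' <;> omega
  have hpq : p ≠ q := fun e' => by rw [e', dq] at dp; norm_num at dp
  set L11 : List (IrrCharacter G) := triv G :: (lun F S ++ [p, q]) with hL11
  have hnd : L11.Nodup := by
    obtain ⟨l1, l2⟩ := List.nodup_cons.1 (nodup_lun F S)
    simp only [hL11, List.nodup_cons, List.mem_append, List.mem_cons, List.not_mem_nil, or_false]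
    refine ⟨?_, List.nodup_append.2 ⟨l2, by simp [hpq], fun x hx y hy exy => ?_⟩⟩
    · rintro (h | h | h)
      · exact l1 h
      · exact hp (h ▸ List.mem_cons_self)
      · exact hq (h ▸ List.mem_cons_self)
    · subst exy
      simp only [List.mem_cons, List.not_mem_nil, or_false] at hy
      rcases hy with e' | e' <;> subst e'
      · exact hp (List.mem_cons_of_mem _ hx)
      · exact hq (List.mem_cons_of_mem _ hx)
  have h385 : ∀ χ, χ ∉ L11 → dg χ = 385 := by
    intro χ hχ
    have h1 : χ ∉ triv G :: lun F S := fun h => hχ (by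
      rcases List.mem_cons.1 h with e' | h
      · simp [hL11, e']
      · exact List.mem_cons_of_mem _ (List.mem_append_left _ h))
    have h77 := seventy_seven_dvd F S h1
    have h5 : 5 ∣ dg χ := by
      by_contra h5
      have hK := K.B.mem_of_not_dvd K.hC h5
      rcases List.mem_cons.1 hK with e' | hK
      · exact h1 (e' ▸ List.mem_cons_self)
      have := hl5.symm.subset (show χ ∈ K.L from hK)
      simp only [List.mem_cons, List.not_mem_nil, or_false] at this
      rcases this with e' | e' | e' | e'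
      · exact h1 (e' ▸ List.mem_cons_of_mem _ (by simp [hlun]))
      · exact h1 (e' ▸ List.mem_cons_of_mem _ (by simp [hlun]))
      · exact hχ (by simp [hL11, e'])
      · exact hχ (by simp [hL11, e'])
    obtain ⟨k, hk⟩ := (show Nat.Coprime 5 77 by norm_num).mul_dvd_of_dvd_of_dvd h5 h77
    have := dg_le hG χ
    have : 0 < dg χ := CfsgLib.Blocks.irr_charDegree_pos χ
    obtain rfl : k = 1 := by omega
    omega
  have hrest : (Finset.univ \ L11.toFinset).card = 1 := by
    have h := sum_dg_sq hG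
    rw [← Finset.sum_sdiff (Finset.subset_univ L11.toFinset), List.sum_toFinset _ hnd,
      Finset.sum_congr rfl (g := fun _ => 385 ^ 2) (fun χ hχ => by
        simp only [Finset.mem_sdiff, Finset.mem_univ, true_and, List.mem_toFinset] at hχ
        rw [h385 χ hχ]), Finset.sum_const, smul_eq_mul] at h
    generalize (Finset.univ \ L11.toFinset).card = N at h ⊢
    simp only [hL11, hlun, List.cons_append, List.nil_append, List.map_cons, List.map_nil, List.sum_cons,
      List.sum_nil, dg_triv, da', db, dc, dd, de, df, dg₁, dh', dp, dq] at h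
    norm_num at h
    omega
  obtain ⟨r, hr⟩ := Finset.card_eq_one.1 hrest
  have hrn : r ∉ L11 := by
    have : r ∈ Finset.univ \ L11.toFinset := by rw [hr]; simp
    simpa using this
  have dr := h385 r hrn
  set L12 : List (IrrCharacter G) := [triv G, a', b, c, d, e, f, g₁, h', p, q, r] with hL12
  have hL : L11 ++ [r] = L12 := by simp [hL11, hlun, hL12]
  have hnd12 : L12.Nodup := by
    rw [← hL]
    exact List.nodup_append.2 ⟨hnd, List.nodup_singleton r, fun x hx y hy exy =>
      hrn (by rw [← List.mem_singleton.1 hy, ← exy]; exact hx)⟩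
  have hall : ∀ χ, χ ∈ L12 := fun χ => by
    rw [← hL, List.mem_append, List.mem_singleton]
    by_cases h : χ ∈ L11
    · exact Or.inl h
    · right
      have : χ ∈ Finset.univ \ L11.toFinset := by simp [h]
      rwa [hr, Finset.mem_singleton] at this
  refine ⟨⟨fun k => L12.get k, ⟨fun x y hxy => List.nodup_iff_injective_get.1 hnd12 hxy, fun χ => ?_⟩,
    fun k => ?_, rfl, fun g hg => ?_, fun g hg => ?_, fun g hg => ?_, fun g hg => ?_, fun g hg => ?_,
    fun t ht => ?_, fun g => not_seven_dvd hG F hD hFt, fun g => not_five_dvd hG F S hD hFt hS hSt⟩⟩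
  · exact List.mem_iff_get.1 (hall χ)
  · fin_cases k <;> simp [L12, D12, dg_triv, da', db, dc, dd, de, df, dg₁, dh', dp, dq, dr]
  · have h := F.B.rel e (by simp [hys]) g hg
    simp only [hxs, List.map_cons, List.map_nil, List.sum_cons, List.sum_nil, da', db, dc, dd, hf11, F.he] at h
    norm_num [sgn, sgE] at h
    show 1 - (a' : G → ℂ) g + (b : G → ℂ) g + (c : G → ℂ) g + (d : G → ℂ) g - (e : G → ℂ) g = 0
    linear_combination h
  · exact F.B.agree f (by simp [hys]) e (by simp [hys]) g hg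
  · have h := S.B.rel b hb7 g hg
    simp only [hSx, List.map_cons, List.map_nil, List.sum_cons, List.sum_nil, dg₁, dh', hf7, S.he] at h
    norm_num [sgn, sgE] at h
    show 1 - (g₁ : G → ℂ) g + (h' : G → ℂ) g - (b : G → ℂ) g = 0
    linear_combination h
  · exact S.B.agree c hc7 b hb7 g hg
  · obtain ⟨η, hη⟩ : ∃ η, K.B.ys = [η] := List.length_eq_one_iff.1 hKt
    have h := K.B.rel η (by simp [hη]) g hg
    have hm := K.B.modf
    rw [K.he] at hm
    rw [K.he, sgE_four hm, ← K.B.degY η (by simp [hη])] at h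
    have hsum : ((K.L.map fun χ : IrrCharacter G => (sgn 5 (dg χ) : ℂ) * (χ : G → ℂ) g)).sum = -1 := by
      rw [Frame.L, hη, List.map_append, List.sum_append, List.map_singleton, List.sum_singleton]
      linear_combination h
    rw [← (hl5.map fun χ : IrrCharacter G => (sgn 5 (dg χ) : ℂ) * (χ : G → ℂ) g).sum_eq] at hsum
    simp only [List.map_cons, List.map_nil, List.sum_cons, List.sum_nil, da', dh', dp, dq] at hsum
    norm_num [sgn] at hsum
    show 1 + (a' : G → ℂ) g - (h' : G → ℂ) g - (p : G → ℂ) g + (q : G → ℂ) g = 0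
    linear_combination hsum
  · have hr := rows2_mem F S hG hFt hSt ht
    rw [eF, eS] at hr
    have hC : cc t ∈ evenCents.filter fun C => C % 7 != 0 := by
      refine List.mem_filter.2 ⟨cc_mem_even hG ht, ?_⟩
      simp only [bne_iff_ne, ne_eq]
      exact fun h => not_seven_dvd hG F hD hFt (cc_facts hG ht).2.2.2 (not_dvd_two (by norm_num) ht)
        (Nat.dvd_of_mod_eq_zero h)
    have h := List.all_eq_true.1 (List.all_eq_true.1 rowT_aux _ hC) _ hr
    simp only [Bool.and_eq_true, beq_iff_eq] at h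
    refine ⟨h.1.1, ?_⟩
    have h1 := h.1.2
    have h2 := h.2
    simp only [Frame.row, hxs, hSx, List.map_cons, List.map_nil, List.cons_append, List.nil_append,
      List.cons.injEq, and_true] at h1 h2
    have he2 : ival e t = ival F.eta t := by
      have h := F.B.agree e (by simp [hys]) F.eta F.eta_mem t (not_dvd_two (by norm_num) ht)
      rw [ival_inv hG e ht, ival_inv hG F.eta ht] at h
      exact_mod_cast h
    show [ival a' t, ival b t, ival c t, ival d t, ival e t, ival g₁ t, ival h' t] = _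
    rw [he2, h1.1, h1.2.1, h1.2.2.1, h1.2.2.2.1, h1.2.2.2.2, h2.1, h2.2.1]

namespace Tbl

variable (T : Tbl G)

/-- A sum over all the irreducible characters. -/
theorem sum_all {M : Type*} [AddCommMonoid M] (f : IrrCharacter G → M) :
    ∑ χ : IrrCharacter G, f χ = ∑ i : Fin 12, f (T.χ i) :=
  ((Equiv.ofBijective _ T.bij).sum_comp f).symm

/-- All characters are integral at elements of order prime to seventy-seven. -/
theorem int77 (hG : IsM22 G) {g : G} (h7 : ¬ 7 ∣ orderOf g) (h11 : ¬ 11 ∣ orderOf g) (i : Fin 12) :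
    (T.χ i : G → ℂ) g = (ival (T.χ i) g : ℂ) := by
  obtain ⟨v, hv⟩ : ∃ v : ℤ, (T.χ i : G → ℂ) g = v := by
    refine rational_int_of_invariant (isCharacter_of_irr (T.χ i).2) g fun m hm => ?_
    obtain ⟨j, hj⟩ := T.bij.2 (powIrr hm (T.χ i))
    have h1 : ((T.χ j : IrrCharacter G) : G → ℂ) 1 = (T.χ i : G → ℂ) 1 := by
      rw [hj]
      show (T.χ i : G → ℂ) (1 ^ m) = _
      rw [one_pow]
    rw [irr_degree, irr_degree] at h1
    have hd : D12 j = D12 i := by rw [← T.deg, ← T.deg]; exact_mod_cast h1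
    show (powIrr hm (T.χ i) : G → ℂ) g = _
    rw [← hj]
    rcases D12_nodup_aux j i hd with e | ⟨h1, h2⟩ | ⟨h1, h2⟩
    · rw [e]
    · have : ∀ k : Fin 12, k.val ∈ [2, 3] → (T.χ k : G → ℂ) g = (T.χ 2 : G → ℂ) g := fun k hk => by
        rcases (show k = 2 ∨ k = 3 by simp at hk; omega) with rfl | rfl
        · rfl
        · exact T.agree7 g h7
      rw [this j h1, this i h2]
    · have : ∀ k : Fin 12, k.val ∈ [5, 6] → (T.χ k : G → ℂ) g = (T.χ 5 : G → ℂ) g := fun k hk => by
        rcases (show k = 5 ∨ k = 6 by simp at hk; omega) with rfl | rfl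
        · rfl
        · exact T.agree11 g h11
      rw [this j h1, this i h2]
  exact ival_spec hv

end Tbl

end CfsgSimpleM22
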