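/-
The columns at elements of order a power of two or three.
-/
import Cfsg.Agent.Lib.SimpleM22.Table

set_option autoImplicit false
set_option linter.style.haveILetI false
set_option linter.unusedSectionVars false

namespace CfsgSimpleM22

open Cfsg CfsgLib.CharTheory CfsgLib.Blocks CfsgSimpleM11
open scoped ComplexConjugate

universe u

/-- The possible columns with values congruent to the degrees modulo `q`. -/
def col12 (q C : ℕ) : List (List ℤ) :=
  (dom q C 21).flatMap fun v1 => (dom q C 45).flatMap fun v2 => (dom q C 210).flatMap fun v4 =>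
    let v5 := 1 - v1 + 2 * v2 + v4
    if (dom q C 280).contains v5 && decide (1 + v1 * v1 + 2 * (v2 * v2) + v4 * v4 + 2 * (v5 * v5) ≤ (C : ℤ)) then
      (dom q C 55).flatMap fun v7 =>
        let v8 := v7 + v2 - 1
        if (dom q C 99).contains v8 &&
            decide (1 + v1 * v1 + 2 * (v2 * v2) + v4 * v4 + 2 * (v5 * v5) + v7 * v7 + v8 * v8 ≤ (C : ℤ)) then
          (dom q C 154).flatMap fun v9 =>
            let v10 := v9 - 1 - v1 + v8
            let s := 1 + 21 * v1 + 90 * v2 + 210 * v4 + 560 * v5 + 55 * v7 + 99 * v8 + 154 * v9 + 231 * v10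
            let v11 := -s / 385
            if (dom q C 231).contains v10 && (s % 385 == 0) && (dom q C 385).contains v11 &&
                (1 + v1 * v1 + 2 * (v2 * v2) + v4 * v4 + 2 * (v5 * v5) + v7 * v7 + v8 * v8 + v9 * v9 +
                  v10 * v10 + v11 * v11 == (C : ℤ)) then
              [[1, v1, v2, v2, v4, v5, v5, v7, v8, v9, v10, v11]]
            else []
        else []
    else []

/-- The column of an involution. -/
def colT : List ℤ := [1, 5, -3, -3, 2, -8, -8, 7, 3, 10, 7, 1]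

/-- The column of an element of order three. -/
def colZ : List ℤ := [1, 3, 0, 0, 3, 1, 1, 1, 0, 1, -3, -2]

/-- The other columns possible at elements of order a power of three. -/
def colsZ : List (ℕ × List ℤ) :=
  [(9, [1, 0, 0, 0, 0, 1, 1, 1, 0, 1, 0, -2]), (36, [1, -3, 0, 0, -3, 1, 1, 1, 0, 1, 3, -2]), (36, colZ)]

/-- Orthogonality to the column of an involution. -/
def orthT (w : List ℤ) : Bool := (List.zipWith (fun a b => a * b) w colT).sum == 0

theorem colT_aux : ((col12 4 384).all fun w =>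
    (([1, 2, 3, 4, 5, 7, 8] : List ℕ).map (fun i => w.getD i 0) != [5, -3, -3, 2, -8, 7, 3]) || w == colT) = true := by
  decide +kernel

theorem colZ_aux : (divs1152.all fun C => (C % 9 != 0) ||
    ((col12 3 C).filter orthT).all fun w => colsZ.contains (C, w)) = true := by
  decide +kernel

theorem col2_aux : (divs1152.all fun C => (C % 12 != 0) || decide (384 % C ≠ 0) ||
    ((col12 2 C).filter orthT).isEmpty) = true := by
  decide +kernel

variable {G : Type u} [Group G] [Fintype G]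

namespace Tbl

variable (T : Tbl G)

/-- The values of the characters. -/
noncomputable def vec (g : G) : List ℤ := List.ofFn fun i => ival (T.χ i) g

include T in
theorem cc_dvd (hG : IsM22 G) {g : G} (hg : g ≠ 1) (h5 : ¬ 5 ∣ orderOf g) (h7 : ¬ 7 ∣ orderOf g)
    (h11 : ¬ 11 ∣ orderOf g) : cc g ∈ divs1152 ∧ cc g ∣ 1152 := by
  have h : cc g ∣ 1152 * 35 := dvd_40320 (card_eq hG ▸ Subgroup.card_subgroup_dvd_card _) (not_eleven_dvd hG hg h11)
  have hd : cc g ∣ 1152 := by
    refine Nat.Coprime.dvd_of_dvd_mul_right ?_ h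
    rw [show (35 : ℕ) = 5 * 7 from rfl]
    exact (((Nat.Prime.coprime_iff_not_dvd (by norm_num : Nat.Prime 5)).2 (T.cent5 g hg h5)).mul_left
      ((Nat.Prime.coprime_iff_not_dvd (by norm_num : Nat.Prime 7)).2 (T.cent7 g hg h7))).symm
  refine ⟨?_, hd⟩
  have key : ((List.range 1153).all fun k => (1152 % k != 0) || divs1152.contains k) = true := by decide +kernel
  have := List.all_eq_true.1 key _ (List.mem_range.2 (Nat.lt_succ_of_le (Nat.le_of_dvd (by norm_num) hd)))
  simpa [Nat.mod_eq_zero_of_dvd hd] using this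

/-- Column orthogonality in terms of the values. -/
theorem orth (hG : IsM22 G) {g h : G} (hg : ¬ 7 ∣ orderOf g) (hg' : ¬ 11 ∣ orderOf g) (hh : ¬ 7 ∣ orderOf h)
    (hh' : ¬ 11 ∣ orderOf h) (hgh : ¬ IsConj g h) :
    (List.zipWith (fun a b => a * b) (T.vec g) (T.vec h)).sum = 0 := by
  classical
  have e := sum_irr_mul_conj g h
  rw [if_neg hgh, T.sum_all] at e
  simp only [T.int77 hG hg hg', T.int77 hG hh hh', map_intCast, ← Int.cast_mul, ← Int.cast_sum] at e
  have e' : ∑ i : Fin 12, ival (T.χ i) g * ival (T.χ i) h = 0 := by exact_mod_cast e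
  have hz : List.zipWith (fun a b => a * b) (T.vec g) (T.vec h) =
      List.ofFn fun i => ival (T.χ i) g * ival (T.χ i) h := by
    simp [vec, List.ofFn_succ]
  rw [hz, List.sum_ofFn]
  exact e'

theorem norm_eq (hG : IsM22 G) {g : G} (hg : ¬ 7 ∣ orderOf g) (hg' : ¬ 11 ∣ orderOf g) :
    ∑ i : Fin 12, ival (T.χ i) g ^ 2 = (cc g : ℤ) := by
  have h := cc_eq_sum g
  rw [T.sum_all] at h
  simp only [T.int77 hG hg hg', Complex.norm_intCast, sq_abs] at h
  exact_mod_cast h.symm

theorem mem_col12 (hG : IsM22 G) {g : G} (hg1 : g ≠ 1) (h5 : ¬ 5 ∣ orderOf g) (h7 : ¬ 7 ∣ orderOf g)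
    (h11 : ¬ 11 ∣ orderOf g) {q : ℕ} (hq : 0 < q)
    (hmod : ∀ i, (q : ℤ) ∣ ival (T.χ i) g - (dg (T.χ i) : ℤ)) : T.vec g ∈ col12 q (cc g) := by
  have hint := T.int77 hG h7 h11
  have hne : ∀ i : Fin 12, i ≠ 0 → T.χ i ≠ triv G := fun i hi e => hi (T.bij.1 (e.trans T.first.symm))
  have hdom : ∀ i : Fin 12, i ≠ 0 → ival (T.χ i) g ∈ dom q (cc g) (D12 i) := by
    intro i hi
    rw [← T.deg]
    have hn := norm_le (s := {T.χ i}) (g := g) (fun ψ => ival ψ g) (by simp [hint i])
    simp only [Finset.sum_singleton] at hn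
    refine mem_dom hq (cent_le hG hg1) (hmod i) (by rw [← pow_two]; exact hn) ?_ (dg_dvd_index_mul hG _ (hint i))
    have h1 : ival (T.χ i) g ≠ (dg (T.χ i) : ℤ) := fun e =>
      faithful_value hG (hne i hi) hg1 (by rw [hint i, e, Int.cast_natCast])
    have h2 : ival (T.χ i) g ≠ -(dg (T.χ i) : ℤ) := fun e =>
      neg_degree_ne hG (hne i hi) hg1 (by rw [hint i, e, Int.cast_neg, Int.cast_natCast])
    have h3 := norm_char_le (isCharacter_of_irr (T.χ i).2) g
    rw [hint i, irr_degree, Complex.norm_intCast, Complex.norm_natCast] at h3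
    have h4 : |ival (T.χ i) g| ≤ (dg (T.χ i) : ℤ) := by exact_mod_cast h3
    rw [abs_le] at h4
    omega
  set v : Fin 12 → ℤ := fun i => ival (T.χ i) g with hv
  have h0 : v 0 = 1 := by simp only [hv, T.first, ival_triv]
  have e3 : v 3 = v 2 := by
    have h := T.agree7 g h7
    rw [hint, hint] at h
    exact_mod_cast h
  have e6 : v 6 = v 5 := by
    have h := T.agree11 g h11
    rw [hint, hint] at h
    exact_mod_cast h
  have e5 : v 5 = 1 - v 1 + 2 * v 2 + v 4 := by
    have h := T.rel11 g h11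
    rw [hint, hint, hint, hint, hint] at h
    have h' : (1 : ℤ) - v 1 + v 2 + v 3 + v 4 - v 5 = 0 := by exact_mod_cast h
    linarith
  have e8 : v 8 = v 7 + v 2 - 1 := by
    have h := T.rel7 g h7
    rw [hint, hint, hint] at h
    have h' : (1 : ℤ) - v 7 + v 8 - v 2 = 0 := by exact_mod_cast h
    linarith
  have e10 : v 10 = v 9 - 1 - v 1 + v 8 := by
    have h := T.rel5 g h5
    rw [hint, hint, hint, hint] at h
    have h' : (1 : ℤ) + v 1 - v 8 - v 9 + v 10 = 0 := by exact_mod_cast h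
    linarith
  have hnorm := T.norm_eq hG h7 h11
  have hdeg : ∑ i : Fin 12, (D12 i : ℤ) * v i = 0 := by
    classical
    have e := sum_irr_mul_conj g 1
    rw [if_neg (fun hc => hg1 (orderOf_eq_one_iff.mp ((orderOf_of_isConj hc).symm.trans orderOf_one))),
      T.sum_all] at e
    simp only [hint, irr_degree, map_natCast] at e
    simp only [show ∀ i, charDegree (T.χ i : G → ℂ) = D12 i from T.deg] at e
    have e' : ∑ i : Fin 12, v i * (D12 i : ℤ) = 0 := by exact_mod_cast e
    rw [← e']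
    exact Finset.sum_congr rfl fun i _ => mul_comm _ _
  change ∑ i : Fin 12, v i ^ 2 = (cc g : ℤ) at hnorm
  rw [show T.vec g = [v 0, v 1, v 2, v 3, v 4, v 5, v 6, v 7, v 8, v 9, v 10, v 11] by
    simp [vec, List.ofFn_succ, hv], h0, e3, e6]
  have d1 := hdom 1 (by decide); have d2 := hdom 2 (by decide); have d4 := hdom 4 (by decide)
  have d5 := hdom 5 (by decide); have d7 := hdom 7 (by decide); have d8 := hdom 8 (by decide)
  have d9 := hdom 9 (by decide); have d10 := hdom 10 (by decide); have d11 := hdom 11 (by decide)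
  change v 1 ∈ dom q (cc g) 21 at d1; change v 2 ∈ dom q (cc g) 45 at d2; change v 4 ∈ dom q (cc g) 210 at d4
  change v 5 ∈ dom q (cc g) 280 at d5; change v 7 ∈ dom q (cc g) 55 at d7; change v 8 ∈ dom q (cc g) 99 at d8
  change v 9 ∈ dom q (cc g) 154 at d9; change v 10 ∈ dom q (cc g) 231 at d10; change v 11 ∈ dom q (cc g) 385 at d11
  simp only [Fin.sum_univ_succ, Fin.sum_univ_zero, add_zero, pow_two] at hnorm hdeg
  change v 0 * v 0 + (v 1 * v 1 + (v 2 * v 2 + (v 3 * v 3 + (v 4 * v 4 + (v 5 * v 5 + (v 6 * v 6 + (v 7 * v 7 +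
    (v 8 * v 8 + (v 9 * v 9 + (v 10 * v 10 + v 11 * v 11)))))))))) = (cc g : ℤ) at hnorm
  change (1 : ℤ) * v 0 + ((21 : ℤ) * v 1 + ((45 : ℤ) * v 2 + ((45 : ℤ) * v 3 + ((210 : ℤ) * v 4 + ((280 : ℤ) * v 5 +
    ((280 : ℤ) * v 6 + ((55 : ℤ) * v 7 + ((99 : ℤ) * v 8 + ((154 : ℤ) * v 9 + ((231 : ℤ) * v 10 +
      (385 : ℤ) * v 11)))))))))) = 0 at hdeg
  rw [h0, e3, e6] at hnorm hdeg
  have s7 := mul_self_nonneg (v 7); have s8 := mul_self_nonneg (v 8); have s9 := mul_self_nonneg (v 9)
  have s10 := mul_self_nonneg (v 10); have s11 := mul_self_nonneg (v 11)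
  simp only [col12, List.mem_flatMap]
  refine ⟨_, d1, _, d2, _, d4, ?_⟩
  rw [← e5, if_pos (by
    simp only [Bool.and_eq_true, List.contains_iff_mem, decide_eq_true_eq]; exact ⟨d5, by linarith⟩)]
  refine List.mem_flatMap.2 ⟨_, d7, ?_⟩
  rw [← e8, if_pos (by
    simp only [Bool.and_eq_true, List.contains_iff_mem, decide_eq_true_eq]; exact ⟨d8, by linarith⟩)]
  refine List.mem_flatMap.2 ⟨_, d9, ?_⟩
  rw [← e10]
  have hs : 1 + 21 * v 1 + 90 * v 2 + 210 * v 4 + 560 * v 5 + 55 * v 7 + 99 * v 8 + 154 * v 9 + 231 * v 10 =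
      -385 * v 11 := by linarith
  have hdiv : -(-385 * v 11) / 385 = v 11 := by
    rw [show -(-385 * v 11) = 385 * v 11 by ring]
    exact Int.mul_ediv_cancel_left _ (by norm_num)
  rw [hs, hdiv, if_pos (by
    simp only [Bool.and_eq_true, List.contains_iff_mem, beq_iff_eq]
    exact ⟨⟨⟨d10, Int.emod_eq_zero_of_dvd ⟨-v 11, by ring⟩⟩, d11⟩, by linarith⟩)]
  exact List.mem_singleton_self _

/-- The column of an involution. -/
theorem involution_col (hG : IsM22 G) {t : G} (ht : orderOf t = 2) : T.vec t = colT ∧ cc t = 384 := by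
  have ht1 : t ≠ 1 := (cc_facts hG ht).2.2.2
  have h5 : ¬ 5 ∣ orderOf t := not_dvd_two (by norm_num) ht
  have h7 : ¬ 7 ∣ orderOf t := not_dvd_two (by norm_num) ht
  have h11 : ¬ 11 ∣ orderOf t := not_dvd_two (by norm_num) ht
  have hm := T.mem_col12 hG ht1 h5 h7 h11 (q := 4) (by norm_num) fun i => by
    obtain ⟨v, hv, h4, -⟩ := involution_int hG (T.χ i) ht
    rw [ival_eq hv]
    push_cast
    omega
  obtain ⟨hcc, hrow⟩ := T.invRow t ht
  rw [hcc] at hm
  have h := List.all_eq_true.1 colT_aux _ hm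
  rw [Bool.or_eq_true, beq_iff_eq] at h
  refine ⟨h.resolve_left (fun hn => ?_), hcc⟩
  rw [bne_iff_ne] at hn
  exact hn (by rw [← hrow]; simp [vec, List.ofFn_succ])

include T in
/-- Elements with the same column are conjugate. -/
theorem isConj_of_vec (hG : IsM22 G) {g h : G} (hg : ¬ 7 ∣ orderOf g) (hg' : ¬ 11 ∣ orderOf g)
    (hh : ¬ 7 ∣ orderOf h) (hh' : ¬ 11 ∣ orderOf h)
    (hne : (List.zipWith (fun a b => a * b) (T.vec g) (T.vec h)).sum ≠ 0) : IsConj g h :=
  by_contra fun hc => hne (T.orth hG hg hg' hh hh' hc)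

include T in
theorem involutions_conj (hG : IsM22 G) {s t : G} (hs : orderOf s = 2) (ht : orderOf t = 2) : IsConj s t := by
  refine T.isConj_of_vec hG (not_dvd_two (by norm_num) hs) (not_dvd_two (by norm_num) hs)
    (not_dvd_two (by norm_num) ht) (not_dvd_two (by norm_num) ht) ?_
  rw [(T.involution_col hG hs).1, (T.involution_col hG ht).1]
  decide

end Tbl

end CfsgSimpleM22
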