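/-
Strongly regular graphs on 77 points of the possible valencies.
-/
import Mathlib

set_option autoImplicit false
set_option linter.style.haveILetI false
set_option linter.unusedSectionVars false

namespace CfsgSimpleM22

/-- The smaller suborbit lengths allowed by the order of the stabiliser. -/
def valencies : List ℕ := [4, 12, 16, 36]

theorem param77_check : (valencies.all fun k => (List.range k).all fun l => (List.range (k + 1)).all fun m =>
    !(k * (k - l - 1) == (76 - k) * m) || (List.range 78).all fun f =>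
      !(((f : ℤ) - 38) ^ 2 * (((l : ℤ) - m) ^ 2 + 4 * ((k : ℤ) - m)) == ((k : ℤ) + 38 * ((l : ℤ) - m)) ^ 2) ||
        (k == 16 && l == 0 && m == 4)) = true := by decide +kernel

theorem param77_aux {k l m f : ℕ} (hk : k ∈ valencies) (hl : l < k) (hm : m < k + 1)
    (h1 : k * (k - l - 1) = (76 - k) * m) (hf : f < 78)
    (h2 : ((f : ℤ) - 38) ^ 2 * (((l : ℤ) - m) ^ 2 + 4 * ((k : ℤ) - m)) = ((k : ℤ) + 38 * ((l : ℤ) - m)) ^ 2) :
    k = 16 ∧ l = 0 ∧ m = 4 := by
  have h := List.all_eq_true.1 (List.all_eq_true.1 (List.all_eq_true.1 param77_check k hk) l (List.mem_range.2 hl))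
    m (List.mem_range.2 hm)
  rw [beq_iff_eq.2 h1, Bool.not_true, Bool.false_or] at h
  have h' := List.all_eq_true.1 h f (List.mem_range.2 hf)
  rw [beq_iff_eq.2 h2, Bool.not_true, Bool.false_or] at h'
  simpa [and_assoc] using h'

variable {V : Type*} [Fintype V] [DecidableEq V] (Γ : SimpleGraph V) [DecidableRel Γ.Adj]

theorem params77 {k l m : ℕ} (h : Γ.IsSRGWith 77 k l m) (hk : k ∈ valencies) (hl : l < k) (hm : m ≤ k) :
    k = 16 ∧ l = 0 ∧ m = 4 := by
  classical
  have hp := h.param_eq Γ (by norm_num)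
  have hp' : k * (k - l - 1) = (76 - k) * m := by rw [hp, show 77 - k - 1 = 76 - k by omega]
  have hpc : (k : ℂ) * ((k : ℂ) - l - 1) = (76 - (k : ℂ)) * m := by
    have hk76 : k ≤ 76 := by simp [valencies] at hk; omega
    have : ((k * (k - l - 1) : ℕ) : ℂ) = (((76 - k) * m : ℕ) : ℂ) := by rw [hp']
    rw [Nat.cast_mul, Nat.cast_mul, Nat.cast_sub (by omega), Nat.cast_sub (by omega), Nat.cast_sub hk76] at this
    simpa using this
  obtain ⟨δ, hδ⟩ := IsAlgClosed.exists_eq_mul_self (((l : ℂ) - m) ^ 2 + 4 * ((k : ℂ) - m))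
  have hD0 : δ ≠ 0 := by
    intro e
    rw [e, mul_zero] at hδ
    have hz : ((((l : ℤ) - m) ^ 2 + 4 * ((k : ℤ) - m) : ℤ) : ℂ) = ((0 : ℤ) : ℂ) := by push_cast; exact hδ
    have := Int.cast_inj.mp hz
    have := sq_nonneg ((l : ℤ) - m)
    have hkm : k = m := by omega
    subst hkm
    have : ((l : ℤ) - k) ^ 2 = 0 := by omega
    have := pow_eq_zero_iff (show 2 ≠ 0 by norm_num) |>.mp this
    omega
  set s : ℂ := ((l : ℂ) - m - δ) / 2 with hs
  let J : Matrix V V ℂ := Matrix.of fun _ _ => 1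
  set A := Γ.adjMatrix ℂ with hA
  have hcard : (Fintype.card V : ℂ) = 77 := by rw [h.card]; norm_num
  have hJJ : J * J = (77 : ℂ) • J := by
    ext i j
    simp [J, Matrix.mul_apply, hcard]
  have hAJ : A * J = (k : ℂ) • J := by
    ext i j
    rw [hA, SimpleGraph.adjMatrix_mul_apply]
    simp only [J, Matrix.of_apply, Finset.sum_const, nsmul_eq_mul, mul_one, Matrix.smul_apply, smul_eq_mul,
      SimpleGraph.card_neighborFinset_eq_degree, h.regular i]
  have hJA : J * A = (k : ℂ) • J := by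
    have hs' : A.transpose = A := by rw [hA, SimpleGraph.transpose_adjMatrix]
    have := congrArg Matrix.transpose hAJ
    rwa [Matrix.transpose_mul, hs', Matrix.transpose_smul, show J.transpose = J from rfl] at this
  have hC : Γᶜ.adjMatrix ℂ = J - 1 - A := by
    ext i j
    by_cases hij : i = j
    · subst hij; simp [J, hA]
    · by_cases ha : Γ.Adj i j <;> simp [J, hA, Matrix.one_apply_ne hij, ha, hij]
  have hA2 : A * A = ((k : ℂ) - m) • (1 : Matrix V V ℂ) + ((l : ℂ) - m) • A + (m : ℂ) • J := by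
    have := h.matrix_eq (α := ℂ)
    rw [← hA, pow_two, hC] at this
    rw [this]
    simp only [← Nat.cast_smul_eq_nsmul ℂ]
    module
  set c : ℂ := ((k : ℂ) - s) / 77 with hc
  set M : Matrix V V ℂ := A - s • (1 : Matrix V V ℂ) - c • J with hM
  have hM2 : M * M = δ • M := by
    have : M * M = A * A - (2 * s) • A + (s * s) • (1 : Matrix V V ℂ) -
        (c * (2 * ((k : ℂ) - s)) - c * c * 77) • J := by
      rw [hM]
      simp only [sub_mul, mul_sub, Matrix.smul_mul, Matrix.mul_smul, Matrix.one_mul, Matrix.mul_one, hAJ, hJA, hJJ,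
        smul_sub, smul_smul]
      module
    rw [this, hA2, hM]
    have e1 : (l : ℂ) - m - 2 * s = δ := by rw [hs]; ring
    have e2 : (k : ℂ) - m + s * s = -(δ * s) := by
      rw [hs]; linear_combination (1 / 4 : ℂ) * hδ
    have e3 : (m : ℂ) - (c * (2 * ((k : ℂ) - s)) - c * c * 77) = -(δ * c) := by
      rw [hc, hs]
      linear_combination (-1 / 77 : ℂ) * hpc + (-1 / 308 : ℂ) * hδ
    rw [smul_sub, smul_sub, smul_smul, smul_smul]
    calc ((k : ℂ) - m) • (1 : Matrix V V ℂ) + ((l : ℂ) - m) • A + (m : ℂ) • J - (2 * s) • A +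
          (s * s) • (1 : Matrix V V ℂ) - (c * (2 * ((k : ℂ) - s)) - c * c * 77) • J
        = ((k : ℂ) - m + s * s) • (1 : Matrix V V ℂ) + ((l : ℂ) - m - 2 * s) • A +
          ((m : ℂ) - (c * (2 * ((k : ℂ) - s)) - c * c * 77)) • J := by module
      _ = _ := by rw [e1, e2, e3]; module
  set E : Matrix V V ℂ := δ⁻¹ • M with hE
  have hE2 : E * E = E := by
    rw [hE, Matrix.smul_mul, Matrix.mul_smul, hM2, smul_smul, smul_smul]
    congr 1
    field_simp
  have hid : IsIdempotentElem (Matrix.toLin' E) := by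
    show Matrix.toLin' E ∘ₗ Matrix.toLin' E = _
    rw [← Matrix.toLin'_mul, hE2]
  set f := Module.finrank ℂ (LinearMap.range (Matrix.toLin' E)) with hf
  have hftr : E.trace = (f : ℂ) := by
    rw [← ((LinearMap.isProj_range_iff_isIdempotentElem _).2 hid).trace, LinearMap.trace_eq_matrix_trace ℂ (Pi.basisFun ℂ V)]
    congr 1
    rw [LinearMap.toMatrix_eq_toMatrix', LinearMap.toMatrix'_toLin']
  have hf77 : f < 78 := by
    have := Submodule.finrank_le (LinearMap.range (Matrix.toLin' E))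
    rw [Module.finrank_fintype_fun_eq_card, h.card] at this
    omega
  have htr : E.trace = δ⁻¹ * (-76 * s - k) := by
    rw [hE, Matrix.trace_smul, smul_eq_mul]
    congr 1
    rw [hM, Matrix.trace_sub, Matrix.trace_sub, Matrix.trace_smul, Matrix.trace_smul, Matrix.trace_one, hA,
      SimpleGraph.trace_adjMatrix, hcard, show J.trace = (77 : ℂ) by simp [J, Matrix.trace, hcard], hc]
    simp only [smul_eq_mul]
    ring
  rw [hftr] at htr
  have h1 : ((f : ℂ) - 38) * δ = -((k : ℂ) + 38 * ((l : ℂ) - m)) := by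
    rw [htr, hs]
    field_simp
    ring
  have h2 : ((((f : ℤ) - 38) ^ 2 * (((l : ℤ) - m) ^ 2 + 4 * ((k : ℤ) - m)) : ℤ) : ℂ) =
      ((((k : ℤ) + 38 * ((l : ℤ) - m)) ^ 2 : ℤ) : ℂ) := by
    push_cast
    calc ((f : ℂ) - 38) ^ 2 * (((l : ℂ) - m) ^ 2 + 4 * ((k : ℂ) - m))
        = (((f : ℂ) - 38) * δ) ^ 2 := by rw [mul_pow, hδ]; ring
      _ = _ := by rw [h1]; ring
  exact param77_aux hk hl (by omega) hp' hf77 (by exact_mod_cast h2)

end CfsgSimpleM22
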