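/-
Elements of order three.
-/
import Cfsg.Agent.Lib.SimpleM22.Columns

set_option autoImplicit false
set_option linter.style.haveILetI false
set_option linter.unusedSectionVars false

namespace CfsgSimpleM22

open Cfsg CfsgLib.CharTheory CfsgLib.Blocks CfsgSimpleM11
open scoped ComplexConjugate

universe u

/-- The weighted sum of products of three columns. -/
def triSum (a b c : List ℤ) : ℤ :=
  (List.ofFn fun i : Fin 12 => ((443520 / D12 i : ℕ) : ℤ) * (a.getD i 0 * (b.getD i 0 * c.getD i 0))).sum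

theorem triSum_aux : triSum colT colT colT = 50 * (384 * 384) ∧ triSum colT colT colZ = 18 * (384 * 384) ∧
    triSum [1, -3, 0, 0, -3, 1, 1, 1, 0, 1, 3, -2] [1, -3, 0, 0, -3, 1, 1, 1, 0, 1, 3, -2]
      [1, -3, 0, 0, -3, 1, 1, 1, 0, 1, 3, -2] < 0 := by decide +kernel

theorem colZ_orth_aux : ∀ a ∈ colsZ.map Prod.snd, (List.zipWith (fun x y => x * y) a colZ).sum ≠ 0 := by
  decide +kernel

variable {G : Type u} [Group G] [Fintype G]

namespace Tbl

variable (T : Tbl G)

theorem vec_getD (g : G) (i : Fin 12) : (T.vec g).getD i 0 = ival (T.χ i) g := by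
  fin_cases i <;> simp [vec, List.ofFn_succ, List.getD_eq_getElem?_getD]

/-- The class multiplication coefficients. -/
theorem pairCount_vec (hG : IsM22 G) {g h k : G} (hg : ¬ 7 ∣ orderOf g ∧ ¬ 11 ∣ orderOf g)
    (hh : ¬ 7 ∣ orderOf h ∧ ¬ 11 ∣ orderOf h) (hk : ¬ 7 ∣ orderOf k ∧ ¬ 11 ∣ orderOf k) :
    (pairCount g h k : ℤ) * ((cc g : ℤ) * (cc h : ℤ)) = triSum (T.vec g) (T.vec h) (T.vec k) := by
  classical
  have H := pairCount_mul g h k
  rw [T.sum_all] at H
  simp only [clv, centralChar, irr_degree, T.int77 hG hg.1 hg.2, T.int77 hG hh.1 hh.2, T.int77 hG hk.1 hk.2,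
    map_intCast, show ∀ i, charDegree (T.χ i : G → ℂ) = D12 i from T.deg] at H
  have hm : ((Subgroup.centralizer ({g} : Set G)).index : ℂ) * (cc g : ℂ) = 443520 := by
    rw [← Nat.cast_mul, Subgroup.index_mul_card, card_eq hG]; norm_num
  have hdiv : ∀ i : Fin 12, (((443520 / D12 i : ℕ) : ℤ) : ℂ) = 443520 / (D12 i : ℂ) := fun i => by
    rw [Int.cast_natCast, Nat.cast_div (by rw [← T.deg]; exact dg_dvd' hG _)
      (by rw [← T.deg]; exact_mod_cast (irr_charDegree_pos (T.χ i)).ne')]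
    norm_num
  have key : (((pairCount g h k : ℤ) * ((cc g : ℤ) * (cc h : ℤ)) : ℤ) : ℂ) =
      ((triSum (T.vec g) (T.vec h) (T.vec k) : ℤ) : ℂ) := by
    rw [triSum, List.sum_ofFn, Int.cast_sum]
    simp only [T.vec_getD, Int.cast_mul, hdiv, Int.cast_natCast]
    calc (pairCount g h k : ℂ) * ((cc g : ℂ) * (cc h : ℂ))
        = ((pairCount g h k : ℂ) * (cc h : ℂ)) * (cc g : ℂ) := by ring
      _ = _ := by
        rw [H, Finset.sum_mul]
        refine Finset.sum_congr rfl fun i _ => ?_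
        rw [← hm]
        ring
  exact_mod_cast key

/-- The column of a nontrivial element of order a power of three. -/
theorem three_vec (hG : IsM22 G) {w : G} (hw : w ≠ 1) {k : ℕ} (hk : w ^ 3 ^ k = 1) :
    (cc w, T.vec w) ∈ colsZ := by
  haveI : Fact (Nat.Prime 3) := ⟨Nat.prime_three⟩
  obtain ⟨j, -, hj⟩ := (Nat.dvd_prime_pow Nat.prime_three).1 (orderOf_dvd_of_pow_eq_one hk)
  have hno : ∀ p : ℕ, p.Prime → p ≠ 3 → ¬ p ∣ orderOf w := fun p hp hp3 h => by
    rw [hj] at h
    exact hp3 ((Nat.prime_dvd_prime_iff_eq hp Nat.prime_three).1 (hp.dvd_of_dvd_pow h))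
  have h5 := hno 5 (by norm_num) (by norm_num)
  have h7 := hno 7 (by norm_num) (by norm_num)
  have h11 := hno 11 (by norm_num) (by norm_num)
  have hm := T.mem_col12 hG hw h5 h7 h11 (q := 3) (by norm_num) fun i =>
    Int.modEq_iff_dvd.1 (modEq_degree (T.χ i) hk (T.int77 hG h7 h11 i)).symm
  -- the centraliser contains an abelian Sylow subgroup
  obtain ⟨P, hP⟩ := (IsPGroup.of_card (n := j) (show Nat.card (Subgroup.zpowers w) = 3 ^ j by
    rw [Nat.card_zpowers, hj])).exists_le_sylow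
  have hP9 := card_sylow3 hG P
  have hcomm := IsPGroup.isMulCommutative_of_card_eq_prime_sq (p := 3) (show Nat.card (P : Subgroup G) = 3 ^ 2 by
    rw [hP9]; norm_num)
  have h9 : 9 ∣ cc w := by
    rw [← hP9]
    refine Subgroup.card_dvd_of_le fun x hx => Subgroup.mem_centralizer_singleton_iff.mpr ?_
    exact congrArg Subtype.val (hcomm.1.comm (⟨x, hx⟩ : (P : Subgroup G)) ⟨w, hP (Subgroup.mem_zpowers w)⟩)
  have h := List.all_eq_true.1 colZ_aux _ (T.cc_dvd hG hw h5 h7 h11).1
  rw [Bool.or_eq_true] at h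
  have h2 := List.all_eq_true.1 (h.resolve_left (by simp [Nat.mod_eq_zero_of_dvd h9])) _
    (List.mem_filter.2 ⟨hm, ?_⟩)
  · exact List.contains_iff_mem.1 h2
  · obtain ⟨t, ht, -⟩ := exists_two_central hG
    rw [orthT, beq_iff_eq, ← (T.involution_col hG ht).1]
    refine T.orth hG h7 h11 (not_dvd_two (by norm_num) ht) (not_dvd_two (by norm_num) ht) fun hc => ?_
    have := orderOf_of_isConj hc
    rw [ht, hj] at this
    have h23 : 2 ∣ 3 ^ j := ⟨1, by rw [mul_one, this]⟩
    exact absurd (Nat.prime_two.dvd_of_dvd_pow h23) (by norm_num)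

/-- The column and the centraliser of an element of order three. -/
theorem three_col (hG : IsM22 G) {z : G} (hz : orderOf z = 3) : T.vec z = colZ ∧ cc z = 36 := by
  have hz1 : z ≠ 1 := fun e => by rw [e, orderOf_one] at hz; norm_num at hz
  have hz37 : ∀ g : G, orderOf g = 3 → ¬ 7 ∣ orderOf g ∧ ¬ 11 ∣ orderOf g := fun g hg => by
    rw [hg]; norm_num
  have hpow : ∀ g : G, orderOf g = 3 → g ^ 3 ^ 1 = 1 := fun g hg => by rw [pow_one, ← hg, pow_orderOf_eq_one]
  have hnot : ∀ g : G, orderOf g = 3 → T.vec g = [1, -3, 0, 0, -3, 1, 1, 1, 0, 1, 3, -2] → False := fun g hg hv => by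
    have h := T.pairCount_vec hG (hz37 g hg) (hz37 g hg) (hz37 g hg)
    rw [hv] at h
    have h0 := triSum_aux.2.2
    rw [← h] at h0
    exact absurd h0 (not_lt.2 (mul_nonneg (Int.natCast_nonneg _) (mul_nonneg (Int.natCast_nonneg _)
      (Int.natCast_nonneg _))))
  -- an element of order three commuting with an involution
  obtain ⟨t, ht, -⟩ := exists_two_central hG
  obtain ⟨z₀, hz₀C, hz₀⟩ := exists_order (K := Subgroup.centralizer ({t} : Set G)) Nat.prime_three
    (show 3 ∣ cc t by rw [(T.involution_col hG ht).2]; norm_num)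
  have h2 : 2 ∣ cc z₀ := by
    have := Subgroup.orderOf_dvd_natCard (Subgroup.centralizer ({z₀} : Set G))
      (Subgroup.mem_centralizer_singleton_iff.mpr (Subgroup.mem_centralizer_singleton_iff.mp hz₀C).symm :
        t ∈ Subgroup.centralizer ({z₀} : Set G))
    rwa [ht] at this
  have hz₀v : T.vec z₀ = colZ := by
    have h := T.three_vec hG (fun e => by rw [e, orderOf_one] at hz₀; norm_num at hz₀) (hpow _ hz₀)
    simp only [colsZ, List.mem_cons, Prod.mk.injEq, List.not_mem_nil, or_false] at h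
    rcases h with ⟨h, -⟩ | ⟨-, h⟩ | ⟨-, h⟩
    · rw [h] at h2; norm_num at h2
    · exact (hnot _ hz₀ h).elim
    · exact h
  have h := T.three_vec hG hz1 (hpow _ hz)
  have hc : IsConj z z₀ := T.isConj_of_vec hG (hz37 z hz).1 (hz37 z hz).2 (hz37 z₀ hz₀).1 (hz37 z₀ hz₀).2 (by
    rw [hz₀v]
    exact colZ_orth_aux _ (List.mem_map.2 ⟨_, h, rfl⟩))
  have hv : T.vec z = colZ := by
    rw [← hz₀v]
    unfold Tbl.vec
    simp only [ival_conj _ hc]
  refine ⟨hv, ?_⟩
  rw [hv] at h
  simp only [colsZ, colZ, List.mem_cons, Prod.mk.injEq, List.not_mem_nil, or_false] at h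
  rcases h with ⟨-, h⟩ | ⟨h, -⟩ | ⟨h, -⟩
  · norm_num at h
  · exact h
  · exact h

include T in
theorem three_conj (hG : IsM22 G) {z w : G} (hz : orderOf z = 3) (hw : orderOf w = 3) : IsConj z w :=
  T.isConj_of_vec hG (by rw [hz]; norm_num) (by rw [hz]; norm_num) (by rw [hw]; norm_num) (by rw [hw]; norm_num)
    (by rw [(T.three_col hG hz).1, (T.three_col hG hw).1]; decide)

include T in
/-- There is no element of order nine. -/
theorem pow_three (hG : IsM22 G) {P : Sylow 3 G} {x : G} (hx : x ∈ (P : Subgroup G)) : x ^ 3 = 1 := by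
  have h9 : orderOf x ∣ 3 ^ 2 := by
    have := Subgroup.orderOf_dvd_natCard _ hx
    rwa [card_sylow3 hG P] at this
  obtain ⟨i, hi, ho⟩ := (Nat.dvd_prime_pow Nat.prime_three).1 h9
  by_contra hne
  have ho9 : orderOf x = 9 := by
    interval_cases i
    · rw [pow_zero, orderOf_eq_one_iff] at ho; exact absurd (by rw [ho, one_pow]) hne
    · rw [pow_one] at ho; exact absurd (ho ▸ pow_orderOf_eq_one x) hne
    · rw [ho]; norm_num
  have hz : orderOf (x ^ 3) = 3 := by rw [orderOf_pow, ho9]; norm_num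
  have hx1 : x ≠ 1 := fun e => by rw [e, orderOf_one] at ho9; norm_num at ho9
  have h := T.three_vec hG hx1 (k := 2) (by rw [show 3 ^ 2 = 9 from rfl, ← ho9, pow_orderOf_eq_one])
  have hc := T.isConj_of_vec hG (g := x) (h := x ^ 3) (by rw [ho9]; norm_num) (by rw [ho9]; norm_num)
    (by rw [hz]; norm_num) (by rw [hz]; norm_num) (by
      rw [(T.three_col hG hz).1]
      exact colZ_orth_aux _ (List.mem_map.2 ⟨_, h, rfl⟩))
  have := orderOf_of_isConj hc
  omega

end Tbl

end CfsgSimpleM22
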