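/-
The centraliser of an element of order three.
-/
import Cfsg.Agent.Lib.SimpleM22.ThreeCol
import Cfsg.Agent.Lib.CoprimeGen

set_option autoImplicit false
set_option linter.style.haveILetI false
set_option linter.unusedSectionVars false

namespace CfsgSimpleM22

open Cfsg CfsgLib.CharTheory CfsgLib.Blocks CfsgSimpleM11

universe u
variable {G : Type u} [Group G] [Fintype G]

namespace Tbl

variable (T : Tbl G)

include T in
theorem cc_two (hG : IsM22 G) {y : G} (hy : orderOf y = 2) : cc y = 384 := (T.involution_col hG hy).2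

include T in
theorem cc_three (hG : IsM22 G) {z : G} (hz : orderOf z = 3) : cc z = 36 := (T.three_col hG hz).2

include T in
/-- No element of order four commutes with an element of order three. -/
theorem sq_ne (hG : IsM22 G) {z h : G} (hz : orderOf z = 3) (hh : orderOf h = 4) (hc : Commute z h) : False := by
  haveI : Fact (Nat.Prime 2) := ⟨Nat.prime_two⟩
  have hh1 : h ≠ 1 := fun e => by rw [e, orderOf_one] at hh; norm_num at hh
  have hy : orderOf (h ^ 2) = 2 := by rw [orderOf_pow, hh]; norm_num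
  have h384 : cc h ∣ 384 := by
    rw [← T.cc_two hG hy]
    exact Subgroup.card_dvd_of_le fun g hg => Subgroup.mem_centralizer_singleton_iff.mpr
      (Commute.pow_right (Subgroup.mem_centralizer_singleton_iff.mp hg : Commute g h) 2).eq
  have h12 : 12 ∣ cc h := by
    refine Nat.Coprime.mul_dvd_of_dvd_of_dvd (by norm_num : Nat.Coprime 3 4) ?_ ?_
    · exact hz ▸ Subgroup.orderOf_dvd_natCard _ (Subgroup.mem_centralizer_singleton_iff.mpr hc.eq :
        z ∈ Subgroup.centralizer ({h} : Set G))
    · exact hh ▸ Subgroup.orderOf_dvd_natCard _ (Subgroup.mem_centralizer_singleton_iff.mpr rfl :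
        h ∈ Subgroup.centralizer ({h} : Set G))
  have h7 : ¬ 7 ∣ orderOf h := by rw [hh]; norm_num
  have h11 : ¬ 11 ∣ orderOf h := by rw [hh]; norm_num
  have h5 : ¬ 5 ∣ orderOf h := by rw [hh]; norm_num
  have hm := T.mem_col12 hG hh1 h5 h7 h11 (q := 2) (by norm_num) fun i =>
    Int.modEq_iff_dvd.1 (modEq_degree (T.χ i) (k := 2) (by rw [show 2 ^ 2 = 4 from rfl, ← hh, pow_orderOf_eq_one])
      (T.int77 hG h7 h11 i)).symm
  have hh' := List.all_eq_true.1 col2_aux _ (T.cc_dvd hG hh1 h5 h7 h11).1
  simp only [Bool.or_eq_true, bne_iff_ne, ne_eq, decide_eq_true_eq, List.isEmpty_iff] at hh'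
  rcases hh' with (e | e) | e
  · exact e (Nat.mod_eq_zero_of_dvd h12)
  · exact e (Nat.mod_eq_zero_of_dvd h384)
  · refine List.not_mem_nil (e ▸ List.mem_filter.2 ⟨hm, ?_⟩ : T.vec h ∈ [])
    rw [orthT, beq_iff_eq, ← (T.involution_col hG hy).1]
    exact T.orth hG h7 h11 (not_dvd_two (by norm_num) hy) (not_dvd_two (by norm_num) hy) fun hcj => by
      have := orderOf_of_isConj hcj
      omega

include T in
theorem le_cent_three (hG : IsM22 G) {P : Sylow 3 G} {z : G} (hz : z ∈ (P : Subgroup G)) :
    (P : Subgroup G) ≤ Subgroup.centralizer ({z} : Set G) := by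
  haveI : Fact (Nat.Prime 3) := ⟨Nat.prime_three⟩
  have hcomm := IsPGroup.isMulCommutative_of_card_eq_prime_sq (p := 3) (show Nat.card (P : Subgroup G) = 3 ^ 2 by
    rw [card_sylow3 hG P]; norm_num)
  exact fun x hx => Subgroup.mem_centralizer_singleton_iff.mpr
    (congrArg Subtype.val (hcomm.1.comm (⟨x, hx⟩ : (P : Subgroup G)) ⟨z, hz⟩))

include T in
/-- The normal four-group of the centraliser of an element of order three. -/
theorem exists_four (hG : IsM22 G) {z : G} (hz : orderOf z = 3) :
    ∃ F : Subgroup G, Nat.card F = 4 ∧ F ≤ Subgroup.centralizer ({z} : Set G) ∧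
      Subgroup.centralizer ({z} : Set G) ≤ Subgroup.normalizer (F : Set G) ∧ (∀ y ∈ F, y * y = 1) ∧
      ∀ y ∈ Subgroup.centralizer ({z} : Set G), y * y = 1 → y ∈ F := by
  classical
  haveI : Fact (Nat.Prime 3) := ⟨Nat.prime_three⟩
  haveI : Fact (Nat.Prime 2) := ⟨Nat.prime_two⟩
  set C := Subgroup.centralizer ({z} : Set G) with hC
  have hCcard : Nat.card C = 36 := T.cc_three hG hz
  obtain ⟨P, hzP⟩ := (IsPGroup.of_card (n := 1) (show Nat.card (Subgroup.zpowers z) = 3 ^ 1 by
    rw [Nat.card_zpowers, hz, pow_one])).exists_le_sylow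
  have hzP' : z ∈ (P : Subgroup G) := hzP (Subgroup.mem_zpowers z)
  have hPC := T.le_cent_three hG hzP'
  set Pc : Sylow 3 C := P.subtype hPC with hPc
  have hPcard : Nat.card (Pc : Subgroup C) = 9 := by
    rw [hPc, Sylow.coe_subtype, Nat.card_congr (Subgroup.subgroupOfEquivOfLe hPC).toEquiv, card_sylow3 hG P]
  have hexp : ∀ g ∈ C, orderOf g ≠ 4 := fun g hg h4 =>
    T.sq_ne hG hz h4 (Subgroup.mem_centralizer_singleton_iff.mp hg : Commute g z).symm
  -- the Sylow subgroup is self-normalising in the centraliser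
  have hPN : Nat.card (Subgroup.normalizer ((Pc : Subgroup C) : Set C)) = 9 := by
    have h1 := (Subgroup.normalizer ((Pc : Subgroup C) : Set C)).card_mul_index
    have hidx : Nat.card (Sylow 3 C) = (Subgroup.normalizer ((Pc : Subgroup C) : Set C)).index :=
      Pc.card_eq_index_normalizer
    rw [← hidx, hCcard] at h1
    have h2 := card_sylow_modEq_one 3 C
    have h9 : 9 ∣ Nat.card (Subgroup.normalizer ((Pc : Subgroup C) : Set C)) := by
      rw [← hPcard]; exact Subgroup.card_dvd_of_le Subgroup.le_normalizer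
    obtain ⟨k, hk⟩ := h9
    have h4 : k * Nat.card (Sylow 3 C) = 4 := by rw [hk] at h1; linarith
    have hk4 : k ∣ 4 := ⟨_, h4.symm⟩
    have hk' : k ≤ 4 := Nat.le_of_dvd (by norm_num) hk4
    change Nat.card (Sylow 3 C) % 3 = 1 % 3 at h2
    interval_cases k <;> first | omega | skip
    -- the Sylow subgroup would be normal
    exfalso
    have hn1 : Nat.card (Sylow 3 C) = 1 := by omega
    haveI hnorm : (Pc : Subgroup C).Normal :=
      Subgroup.normalizer_eq_top_iff.mp (Subgroup.eq_top_of_card_eq _ (by rw [hk, hCcard]))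
    obtain ⟨R⟩ := (inferInstance : Nonempty (Sylow 2 C))
    have hR : Nat.card (R : Subgroup C) = 4 := by
      rw [Sylow.card_eq_multiplicity, hCcard,
        CfsgLib.Order7920.fac_eq (k := 2) (by norm_num) (by norm_num) (by norm_num) (by norm_num)]
      norm_num
    haveI hRc : IsMulCommutative (R : Subgroup C) :=
      IsPGroup.isMulCommutative_of_card_eq_prime_sq (p := 2) (by rw [hR]; norm_num)
    have hRcyc : ¬ IsCyclic (R : Subgroup C) := fun h => by
      obtain ⟨g, hg⟩ := IsCyclic.exists_ofOrder_eq_natCard (α := (R : Subgroup C))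
      refine hexp _ (g : C).2 ?_
      rw [Subgroup.orderOf_coe, Subgroup.orderOf_coe, hg, hR]
    have hgen := CfsgLib.coprime_generated_by_centralizers (A := (R : Subgroup C)) (K := (Pc : Subgroup C)) hRcyc
      (by rw [Subgroup.normalizer_eq_top_iff.mpr hnorm]; exact le_top) (by rw [hR, hPcard]; norm_num)
    have hle : (Pc : Subgroup C) ≤ (Subgroup.zpowers z).subgroupOf C := by
      conv_lhs => rw [← hgen]
      refine iSup₂_le fun a ha => ?_
      intro p hp
      by_contra hpz
      obtain ⟨hp1, hp2⟩ := Subgroup.mem_inf.1 hp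
      rw [hPc, Sylow.coe_subtype, Subgroup.mem_subgroupOf] at hp1
      have hao : orderOf ((a : C) : G) = 2 := by
        have h1 : orderOf (a : C) ∣ 2 ^ 2 := by
          have := Subgroup.orderOf_dvd_natCard _ ha.1
          rwa [hR] at this
        obtain ⟨i, hi, ho⟩ := (Nat.dvd_prime_pow Nat.prime_two).1 h1
        rw [Subgroup.orderOf_coe]
        interval_cases i
        · exact absurd (orderOf_eq_one_iff.mp (by simpa using ho)) ha.2
        · simpa using ho
        · exact absurd (by rw [Subgroup.orderOf_coe, ho]; norm_num) (hexp _ (a : C).2)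
      have hca : ((p : C) : G) * a = a * p := congrArg Subtype.val (Subgroup.mem_centralizer_singleton_iff.mp hp2)
      have hsub : (P : Subgroup G) ≤ Subgroup.centralizer ({((a : C) : G)} : Set G) := by
        set A := (P : Subgroup G) ⊓ Subgroup.centralizer ({((a : C) : G)} : Set G) with hA
        have hzA : Subgroup.zpowers z ≤ A := by
          rw [Subgroup.zpowers_le]
          exact ⟨hzP', Subgroup.mem_centralizer_singleton_iff.mpr
            (Subgroup.mem_centralizer_singleton_iff.mp (a : C).2).symm⟩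
        have hd9 : Nat.card A ∣ 9 := card_sylow3 hG P ▸ Subgroup.card_dvd_of_le inf_le_left
        have h3 : Nat.card (Subgroup.zpowers z) ∣ Nat.card A := Subgroup.card_dvd_of_le hzA
        rw [Nat.card_zpowers, hz] at h3
        have h9 : Nat.card A = 9 := by
          obtain ⟨i, hi, e⟩ := (Nat.dvd_prime_pow Nat.prime_three).1 (show Nat.card A ∣ 3 ^ 2 from hd9)
          interval_cases i
          · rw [e] at h3; norm_num at h3
          · exfalso
            have hEq : Subgroup.zpowers z = A := Subgroup.eq_of_le_of_card_ge hzA (by rw [Nat.card_zpowers, hz, e]; norm_num)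
            refine hpz (Subgroup.mem_subgroupOf.mpr ?_)
            rw [hEq]
            exact ⟨hp1, Subgroup.mem_centralizer_singleton_iff.mpr hca⟩
          · rw [e]; norm_num
        exact (Subgroup.eq_of_le_of_card_ge inf_le_left (by rw [h9, card_sylow3 hG P]) : A = _) ▸ inf_le_right
      have := Subgroup.card_dvd_of_le hsub
      rw [card_sylow3 hG P, show Nat.card (Subgroup.centralizer ({((a : C) : G)} : Set G)) = 384 from
        T.cc_two hG hao] at this
      norm_num at this
    have := Subgroup.card_dvd_of_le hle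
    rw [hPcard, Nat.card_congr (Subgroup.subgroupOfEquivOfLe (by rw [Subgroup.zpowers_le]; exact hPC hzP')).toEquiv,
      Nat.card_zpowers, hz] at this
    norm_num at this
  -- transfer
  haveI : IsMulCommutative (Pc : Subgroup C) :=
    IsPGroup.isMulCommutative_of_card_eq_prime_sq (p := 3) (by rw [hPcard]; norm_num)
  have hNC : Subgroup.normalizer ((Pc : Subgroup C) : Set C) ≤ Subgroup.centralizer ((Pc : Subgroup C) : Set C) := by
    rw [← (Subgroup.eq_of_le_of_card_ge Subgroup.le_normalizer (by rw [hPN, hPcard]) :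
      (Pc : Subgroup C) = Subgroup.normalizer ((Pc : Subgroup C) : Set C))]
    exact Subgroup.le_centralizer (Pc : Subgroup C)
  haveI : (Pc : Subgroup C).FiniteIndex := ⟨Subgroup.index_ne_zero_of_finite⟩
  set f := MonoidHom.transferSylow Pc hNC with hf
  have hcompl := (MonoidHom.ker_transferSylow_isComplement' Pc hNC).card_mul
  rw [hPcard, hCcard] at hcompl
  have hK4 : Nat.card f.ker = 4 := by rw [hf]; omega
  set F := f.ker.map C.subtype with hF
  have hmem : ∀ y ∈ C, y * y = 1 → y ∈ F := by
    intro y hy hy2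
    refine ⟨⟨y, hy⟩, MonoidHom.mem_ker.mpr ?_, rfl⟩
    have h2 : f ⟨y, hy⟩ ^ 2 = 1 := by rw [← map_pow, show (⟨y, hy⟩ : C) ^ 2 = 1 from Subtype.ext (by
      rw [SubmonoidClass.coe_pow, pow_two]; exact hy2), map_one]
    have hd : orderOf (f ⟨y, hy⟩) ∣ 2 := orderOf_dvd_of_pow_eq_one h2
    have hd' : orderOf (f ⟨y, hy⟩) ∣ 9 := hPcard ▸ orderOf_dvd_natCard _
    exact orderOf_eq_one_iff.mp (Nat.eq_one_of_dvd_coprimes (by norm_num) hd hd')
  refine ⟨F, ?_, Subgroup.map_subtype_le _, ?_, ?_, hmem⟩
  · rw [hF, Subgroup.card_map_of_injective C.subtype_injective, hK4]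
  · intro c hc
    refine Subgroup.mem_normalizer_iff.mpr fun n => ⟨?_, fun hn => ?_⟩
    · rintro ⟨k, hk, rfl⟩
      exact ⟨(⟨c, hc⟩ : C) * k * (⟨c, hc⟩ : C)⁻¹, f.normal_ker.conj_mem k hk _, rfl⟩
    · obtain ⟨k, hk, hke⟩ := hn
      refine ⟨(⟨c, hc⟩ : C)⁻¹ * k * (⟨c, hc⟩ : C), by simpa using f.normal_ker.conj_mem k hk (⟨c, hc⟩ : C)⁻¹, ?_⟩
      simp only [map_mul, map_inv, Subgroup.coe_subtype] at hke ⊢
      rw [hke]
      group
  · rintro _ ⟨k, hk, rfl⟩
    have h4 : orderOf k ∣ 2 ^ 2 := by
      have := Subgroup.orderOf_dvd_natCard _ hk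
      rwa [hK4] at this
    obtain ⟨i, hi, ho⟩ := (Nat.dvd_prime_pow Nat.prime_two).1 h4
    have hi2 : i ≠ 2 := fun e => hexp _ k.2 (by rw [Subgroup.orderOf_coe, ho, e]; norm_num)
    show (k : G) * k = 1
    have hd : orderOf k ∣ 2 := by rw [ho]; exact (pow_dvd_pow 2 (show i ≤ 1 by omega)).trans (by norm_num)
    exact congrArg Subtype.val ((pow_two k).symm.trans (orderOf_dvd_iff_pow_eq_one.mp hd))

include T in
/-- Elements outside the cyclic subgroup fix no involution of the four-group. -/
theorem fixes_none (hG : IsM22 G) {P : Sylow 3 G} {z p y : G} (hz : orderOf z = 3) (hzP : z ∈ (P : Subgroup G))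
    (hp : p ∈ (P : Subgroup G)) (hpz : p ∉ Subgroup.zpowers z) (hy : orderOf y = 2) (hyz : Commute y z)
    (hyp : Commute y p) : False := by
  set A := (P : Subgroup G) ⊓ Subgroup.centralizer ({y} : Set G) with hA
  have hzA : Subgroup.zpowers z ≤ A := by
    rw [Subgroup.zpowers_le]
    exact ⟨hzP, Subgroup.mem_centralizer_singleton_iff.mpr hyz.symm.eq⟩
  have h384 : Nat.card A ∣ 384 := T.cc_two hG hy ▸ Subgroup.card_dvd_of_le inf_le_right
  have hd9 : Nat.card A ∣ 9 := card_sylow3 hG P ▸ Subgroup.card_dvd_of_le inf_le_left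
  have h3 : Nat.card A ∣ 3 := by
    have := Nat.dvd_gcd h384 hd9
    norm_num at this
    exact this
  have hEq : Subgroup.zpowers z = A := Subgroup.eq_of_le_of_card_ge hzA (by
    rw [Nat.card_zpowers, hz]
    exact Nat.le_of_dvd (by norm_num) h3)
  exact hpz (hEq ▸ ⟨hp, Subgroup.mem_centralizer_singleton_iff.mpr hyp.symm.eq⟩)

end Tbl

end CfsgSimpleM22
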