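/-
The centraliser of an involution: a normal two-subgroup of order 64.
-/
import Cfsg.Agent.Lib.SimpleM22.ThreeLocal

set_option autoImplicit false
set_option linter.style.haveILetI false
set_option linter.unusedSectionVars false

namespace CfsgSimpleM22

open Cfsg CfsgLib.CharTheory CfsgLib.Blocks CfsgSimpleM11

universe u
variable {G : Type u} [Group G] [Fintype G]

/-- An element of order three, the four-group of its centraliser and an involution in it. -/
structure Loc (G : Type u) [Group G] where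
  z : G
  t : G
  F : Subgroup G
  hz : orderOf z = 3
  ht : orderOf t = 2
  htF : t ∈ F
  card_F : Nat.card F = 4
  F_le : F ≤ Subgroup.centralizer ({z} : Set G)
  F_norm : Subgroup.centralizer ({z} : Set G) ≤ Subgroup.normalizer (F : Set G)
  F_sq : ∀ y ∈ F, y * y = 1
  F_all : ∀ y ∈ Subgroup.centralizer ({z} : Set G), y * y = 1 → y ∈ F

theorem Tbl.exists_loc (T : Tbl G) (hG : IsM22 G) : Nonempty (Loc G) := by
  obtain ⟨t, ht, -⟩ := exists_two_central hG
  obtain ⟨z, hzC, hz⟩ := exists_order (K := Subgroup.centralizer ({t} : Set G)) Nat.prime_three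
    (show 3 ∣ cc t by rw [T.cc_two hG ht]; norm_num)
  obtain ⟨F, h1, h2, h3, h4, h5⟩ := T.exists_four hG hz
  refine ⟨⟨z, t, F, hz, ht, h5 t ?_ (sq_of_order ht), h1, h2, h3, h4, h5⟩⟩
  exact Subgroup.mem_centralizer_singleton_iff.mpr (Subgroup.mem_centralizer_singleton_iff.mp hzC).symm

/-- In a finite group a subgroup is normalised by an element mapping it into itself. -/
theorem mem_normalizer_of_maps {S : Subgroup G} {g : G} (h : ∀ y ∈ S, g * y * g⁻¹ ∈ S) :
    g ∈ Subgroup.normalizer (S : Set G) := by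
  refine Subgroup.mem_normalizer_iff_map_conj_eq.mpr ?_
  refine Subgroup.eq_of_le_of_card_ge ?_ (le_of_eq (Subgroup.card_map_of_injective (MulAut.conj g).injective).symm)
  rintro _ ⟨y, hy, rfl⟩
  exact h y hy

namespace Loc

variable (L : Loc G)

/-- The same configuration at another involution of the four-group. -/
def move {y : G} (hy : orderOf y = 2) (hyF : y ∈ L.F) : Loc G :=
  ⟨L.z, y, L.F, L.hz, hy, hyF, L.card_F, L.F_le, L.F_norm, L.F_sq, L.F_all⟩

theorem F_comm {a b : G} (ha : a ∈ L.F) (hb : b ∈ L.F) : Commute a b := by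
  have h : ∀ x ∈ L.F, x⁻¹ = x := fun x hx => inv_eq_of_mul_eq_one_right (L.F_sq x hx)
  show a * b = b * a
  rw [← h _ (L.F.mul_mem ha hb), mul_inv_rev, h a ha, h b hb]

theorem z_comm {y : G} (hy : y ∈ L.F) : Commute y L.z := Subgroup.mem_centralizer_singleton_iff.mp (L.F_le hy)

theorem z_mem : L.z ∈ Subgroup.centralizer ({L.t} : Set G) :=
  Subgroup.mem_centralizer_singleton_iff.mpr (L.z_comm L.htF).symm.eq

theorem F_le_cent : L.F ≤ Subgroup.centralizer ({L.t} : Set G) := fun _ hy =>
  Subgroup.mem_centralizer_singleton_iff.mpr (L.F_comm hy L.htF).eq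

theorem orderOf_F {y : G} (hy : y ∈ L.F) (hy1 : y ≠ 1) : orderOf y = 2 := orderOf_two (L.F_sq y hy) hy1

theorem t_ne : L.t ≠ 1 := fun e => by have := L.ht; rw [e, orderOf_one] at this; norm_num at this

/-- The product of the four-group with the cyclic group of order three. -/
def M : Subgroup G := L.F ⊔ Subgroup.zpowers L.z

theorem M_cent : L.M ≤ Subgroup.centralizer (L.F : Set G) :=
  sup_le (fun a ha => Subgroup.mem_centralizer_iff.mpr fun b hb => (L.F_comm hb ha).eq)
    ((Subgroup.zpowers_le).mpr (Subgroup.mem_centralizer_iff.mpr fun b hb => (L.z_comm hb).eq))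

theorem twelve_dvd_M : 12 ∣ Nat.card L.M :=
  Nat.Coprime.mul_dvd_of_dvd_of_dvd (by norm_num : Nat.Coprime 4 3)
    (L.card_F ▸ Subgroup.card_dvd_of_le (le_sup_left : L.F ≤ L.M))
    (by
      have := Subgroup.card_dvd_of_le (le_sup_right : Subgroup.zpowers L.z ≤ L.M)
      rwa [Nat.card_zpowers, L.hz] at this)

variable (T : Tbl G) (hG : IsM22 G)
include T hG

/-- The common centraliser of the element of order three and an involution of the four-group. -/
theorem inf_cent {y : G} (hy : y ∈ L.F) (hy1 : y ≠ 1) :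
    Subgroup.centralizer ({L.z} : Set G) ⊓ Subgroup.centralizer ({y} : Set G) = L.M ∧ Nat.card L.M = 12 := by
  set I := Subgroup.centralizer ({L.z} : Set G) ⊓ Subgroup.centralizer ({y} : Set G) with hI
  have hle : L.M ≤ I := sup_le
    (fun a ha => ⟨L.F_le ha, Subgroup.mem_centralizer_singleton_iff.mpr (L.F_comm ha hy).eq⟩)
    ((Subgroup.zpowers_le).mpr ⟨Subgroup.mem_centralizer_singleton_iff.mpr rfl,
      Subgroup.mem_centralizer_singleton_iff.mpr (L.z_comm hy).symm.eq⟩)
  have h : Nat.card I ∣ Nat.gcd 36 384 := Nat.dvd_gcd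
    (T.cc_three hG L.hz ▸ Subgroup.card_dvd_of_le inf_le_left)
    (T.cc_two hG (L.orderOf_F hy hy1) ▸ Subgroup.card_dvd_of_le inf_le_right)
  norm_num at h
  have h12 : Nat.card I ≤ 12 := Nat.le_of_dvd (by norm_num) h
  have hM : 12 ≤ Nat.card L.M := Nat.le_of_dvd Nat.card_pos L.twelve_dvd_M
  have he : L.M = I := Subgroup.eq_of_le_of_card_ge hle (by omega)
  refine ⟨he.symm, ?_⟩
  have := Subgroup.card_dvd_of_le hle
  have := Nat.le_of_dvd Nat.card_pos this
  omega

/-- The Sylow subgroup at three permutes the involutions of the four-group transitively. -/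
theorem exists_move {y : G} (hy : y ∈ L.F) (hy1 : y ≠ 1) :
    ∃ c ∈ Subgroup.centralizer ({L.z} : Set G), c * L.t * c⁻¹ = y := by
  classical
  haveI : Fact (Nat.Prime 3) := ⟨Nat.prime_three⟩
  obtain ⟨P, hzP⟩ := (IsPGroup.of_card (n := 1) (show Nat.card (Subgroup.zpowers L.z) = 3 ^ 1 by
    rw [Nat.card_zpowers, L.hz, pow_one])).exists_le_sylow
  have hzP' := hzP (Subgroup.mem_zpowers L.z)
  obtain ⟨p, hp, hpz⟩ : ∃ p ∈ (P : Subgroup G), p ∉ Subgroup.zpowers L.z := by
    by_contra h
    push Not at h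
    have := Subgroup.card_dvd_of_le (show (P : Subgroup G) ≤ Subgroup.zpowers L.z from h)
    rw [card_sylow3 hG P, Nat.card_zpowers, L.hz] at this
    norm_num at this
  have hpC := T.le_cent_three hG hzP' hp
  have hp3 := T.pow_three hG hp
  have hconjF : ∀ c ∈ Subgroup.centralizer ({L.z} : Set G), c * L.t * c⁻¹ ∈ L.F := fun c hc =>
    (Subgroup.mem_normalizer_iff.mp (L.F_norm hc) L.t).mp L.htF
  have hfix : p * L.t * p⁻¹ ≠ L.t := fun e =>
    T.fixes_none hG L.hz hzP' hp hpz L.ht (L.z_comm L.htF) (show L.t * p = p * L.t by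
      conv_lhs => rw [← e]
      group)
  have hp2C : p * p ∈ Subgroup.centralizer ({L.z} : Set G) := mul_mem hpC hpC
  have hne2 : p * p * L.t * (p * p)⁻¹ ≠ L.t := fun e => hfix (by
    have hp3' : p * p * p = 1 := by rw [← hp3]; simp [pow_succ]
    have hinv : p * p = p⁻¹ := eq_inv_of_mul_eq_one_left hp3'
    rw [hinv, inv_inv] at e
    conv_lhs => rw [← e]
    group)
  have hne12 : p * p * L.t * (p * p)⁻¹ ≠ p * L.t * p⁻¹ := fun e => hfix (by
    calc p * L.t * p⁻¹ = p⁻¹ * (p * p * L.t * (p * p)⁻¹) * p := by group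
      _ = p⁻¹ * (p * L.t * p⁻¹) * p := by rw [e]
      _ = L.t := by group)
  by_contra hno
  push Not at hno
  have hy0 : y ≠ L.t := fun e => hno 1 (one_mem _) (by rw [e]; group)
  have hy1' : y ≠ p * L.t * p⁻¹ := fun e => hno p hpC e.symm
  have hy2 : y ≠ p * p * L.t * (p * p)⁻¹ := fun e => hno (p * p) hp2C e.symm
  have hne1 : ∀ c : G, c * L.t * c⁻¹ ≠ 1 := fun c e => L.t_ne (by
    rwa [mul_inv_eq_one, mul_eq_left] at e)
  have hsub : ({1, L.t, p * L.t * p⁻¹, p * p * L.t * (p * p)⁻¹, y} : Finset G) ⊆ (L.F : Set G).toFinset := by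
    intro g hg
    simp only [Finset.mem_insert, Finset.mem_singleton] at hg
    rw [Set.mem_toFinset]
    rcases hg with rfl | rfl | rfl | rfl | rfl
    exacts [one_mem L.F, L.htF, hconjF p hpC, hconjF _ hp2C, hy]
  have h5 := Finset.card_le_card hsub
  rw [Set.toFinset_card, ← Nat.card_eq_fintype_card, show Nat.card (L.F : Set G) = 4 from L.card_F] at h5
  rw [Finset.card_insert_of_notMem, Finset.card_insert_of_notMem, Finset.card_insert_of_notMem,
    Finset.card_insert_of_notMem, Finset.card_singleton] at h5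
  · omega
  · simp only [Finset.mem_singleton]; exact fun e => hy2 e.symm
  · simp only [Finset.mem_insert, Finset.mem_singleton, not_or]
    exact ⟨fun e => hne12 e.symm, fun e => hy1' e.symm⟩
  · simp only [Finset.mem_insert, Finset.mem_singleton, not_or]
    exact ⟨fun e => hfix e.symm, fun e => hne2 e.symm, fun e => hy0 e.symm⟩
  · simp only [Finset.mem_insert, Finset.mem_singleton, not_or]
    exact ⟨fun e => L.t_ne e.symm, fun e => hne1 p e.symm, fun e => hne1 _ e.symm, fun e => hy1 e.symm⟩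

/-- An element inverting `z` fixes no four-group pointwise. -/
theorem invert_not_cent {g : G} (hg : g * L.z * g⁻¹ = L.z⁻¹) : g ∉ Subgroup.centralizer (L.F : Set G) := by
  classical
  intro hgF
  have hno : ∀ x : G, orderOf x = 2 ∨ orderOf x = 3 → ¬ 7 ∣ orderOf x ∧ ¬ 11 ∣ orderOf x := fun x hx => by
    rcases hx with e | e <;> rw [e] <;> norm_num
  have h := T.pairCount_vec hG (g := L.t) (h := L.t) (k := L.z) (hno _ (Or.inl L.ht)) (hno _ (Or.inl L.ht))
    (hno _ (Or.inr L.hz))
  rw [(T.involution_col hG L.ht).1, (T.three_col hG L.hz).1, triSum_aux.2.1, T.cc_two hG L.ht] at h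
  have h18 : pairCount L.t L.t L.z = 18 := by omega
  let m : {a : G // IsConj L.t a ∧ IsConj L.t (a⁻¹ * L.z)} → L.M := fun a => ⟨g⁻¹ * a.1, by
    obtain ⟨a, ha1, ha2⟩ := a
    have ao : orderOf a = 2 := (orderOf_of_isConj ha1).trans L.ht
    have a2 := sq_of_order ao
    have ainv : a⁻¹ = a := inv_eq_of_mul_eq_one_right a2
    have hb := sq_of_order ((orderOf_of_isConj ha2).trans L.ht)
    rw [ainv] at hb
    have haz : a * L.z * a⁻¹ = L.z⁻¹ := by
      rw [ainv]
      exact eq_inv_of_mul_eq_one_left (by simpa [mul_assoc] using hb)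
    have hcz : g⁻¹ * a ∈ Subgroup.centralizer ({L.z} : Set G) := by
      refine Subgroup.mem_centralizer_singleton_iff.mpr ?_
      have e1 : g * L.z * g⁻¹ = a * L.z * a⁻¹ := hg.trans haz.symm
      calc g⁻¹ * a * L.z = g⁻¹ * (a * L.z * a⁻¹) * a := by group
        _ = g⁻¹ * (g * L.z * g⁻¹) * a := by rw [e1]
        _ = L.z * (g⁻¹ * a) := by group
    -- on the four-group `a` acts as `g⁻¹ * a` does
    have hact : ∀ y ∈ L.F, a * y * a⁻¹ = (g⁻¹ * a) * y * (g⁻¹ * a)⁻¹ := fun y hy => by
      have h1 : g⁻¹ * a * y * (g⁻¹ * a)⁻¹ ∈ L.F := (Subgroup.mem_normalizer_iff.mp (L.F_norm hcz) y).mp hy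
      have h2 := Subgroup.mem_centralizer_iff.mp hgF _ h1
      calc a * y * a⁻¹ = g * (g⁻¹ * a * y * (g⁻¹ * a)⁻¹) * g⁻¹ := by group
        _ = _ := by rw [← h2, mul_inv_cancel_right]
    obtain ⟨y, hy, hy1, hfix⟩ : ∃ y ∈ L.F, y ≠ 1 ∧ a * y * a⁻¹ = y := by
      have hmem : a * L.t * a⁻¹ ∈ L.F := hact L.t L.htF ▸ (Subgroup.mem_normalizer_iff.mp (L.F_norm hcz) _).mp L.htF
      by_cases e : a * L.t * a⁻¹ = L.t
      · exact ⟨L.t, L.htF, L.t_ne, e⟩
      refine ⟨L.t * (a * L.t * a⁻¹), L.F.mul_mem L.htF hmem, fun e1 => e ?_, ?_⟩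
      · rw [mul_eq_one_iff_inv_eq, inv_eq_of_mul_eq_one_right (L.F_sq _ L.htF)] at e1
        exact e1.symm
      · rw [(L.F_comm L.htF hmem).eq]
        calc a * (a * L.t * a⁻¹ * L.t) * a⁻¹ = (a * a) * L.t * (a * a)⁻¹ * (a * L.t * a⁻¹) := by group
          _ = a * L.t * a⁻¹ * L.t := by rw [a2, one_mul, inv_one, mul_one, (L.F_comm L.htF hmem).eq]
    rw [← (L.inf_cent T hG hy hy1).1]
    refine ⟨hcz, Subgroup.mem_centralizer_singleton_iff.mpr ?_⟩
    have h3 := (hact y hy).symm.trans hfix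
    calc g⁻¹ * a * y = (g⁻¹ * a * y * (g⁻¹ * a)⁻¹) * (g⁻¹ * a) := by group
      _ = y * (g⁻¹ * a) := by rw [h3]⟩
  have hinj : Function.Injective m := fun a b hab => Subtype.ext (mul_left_cancel (congrArg Subtype.val hab))
  have := Nat.card_le_card_of_injective m hinj
  rw [(L.inf_cent T hG L.htF L.t_ne).2] at this
  rw [pairCount] at h18
  omega

/-- An element of the centraliser inverting `z` and normalising the four-group. -/
theorem exists_invert : ∃ g ∈ Subgroup.centralizer ({L.t} : Set G), g * L.z * g⁻¹ = L.z⁻¹ ∧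
    g ∈ Subgroup.normalizer (L.F : Set G) := by
  obtain ⟨g0, hg0⟩ := isConj_iff.mp (T.three_conj hG L.hz (show orderOf L.z⁻¹ = 3 by rw [orderOf_inv, L.hz]))
  have hmap : ∀ y ∈ L.F, g0 * y * g0⁻¹ ∈ L.F := fun y hy => by
    refine L.F_all _ ?_ ?_
    · refine Subgroup.mem_centralizer_singleton_iff.mpr ?_
      have h1 : g0 * L.z⁻¹ * g0⁻¹ = L.z := by
        have e := congrArg Inv.inv hg0
        rw [inv_inv] at e
        refine Eq.trans ?_ e
        group
      calc g0 * y * g0⁻¹ * L.z = g0 * y * g0⁻¹ * (g0 * L.z⁻¹ * g0⁻¹) := by rw [h1]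
        _ = g0 * (y * L.z⁻¹) * g0⁻¹ := by group
        _ = g0 * (L.z⁻¹ * y) * g0⁻¹ := by rw [(L.z_comm hy).inv_right.eq]
        _ = g0 * L.z⁻¹ * g0⁻¹ * (g0 * y * g0⁻¹) := by group
        _ = L.z * (g0 * y * g0⁻¹) := by rw [h1]
    · calc g0 * y * g0⁻¹ * (g0 * y * g0⁻¹) = g0 * (y * y) * g0⁻¹ := by group
        _ = 1 := by rw [L.F_sq y hy, mul_one, mul_inv_cancel]
  obtain ⟨c, hc, hct⟩ := L.exists_move T hG (hmap L.t L.htF) (fun e => L.t_ne (by
    rwa [mul_inv_eq_one, mul_eq_left] at e))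
  refine ⟨c⁻¹ * g0, Subgroup.mem_centralizer_singleton_iff.mpr ?_, ?_, ?_⟩
  · calc c⁻¹ * g0 * L.t = c⁻¹ * (g0 * L.t * g0⁻¹) * g0 := by group
      _ = c⁻¹ * (c * L.t * c⁻¹) * g0 := by rw [hct]
      _ = L.t * (c⁻¹ * g0) := by group
  · have hcz : c⁻¹ * L.z⁻¹ * c = L.z⁻¹ := by
      have := (Commute.inv_right (show Commute c L.z from Subgroup.mem_centralizer_singleton_iff.mp hc)).eq
      rw [mul_assoc, ← this, inv_mul_cancel_left]
    calc c⁻¹ * g0 * L.z * (c⁻¹ * g0)⁻¹ = c⁻¹ * (g0 * L.z * g0⁻¹) * c := by group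
      _ = L.z⁻¹ := by rw [hg0, hcz]
  · refine mul_mem (inv_mem (L.F_norm hc)) ?_
    exact mem_normalizer_of_maps hmap

/-- The normal subgroup of order 64 in the centraliser of the involution. -/
theorem exists_Q : ∃ Q : Subgroup G, Nat.card Q = 64 ∧ Q ≤ Subgroup.centralizer ({L.t} : Set G) ∧
    Subgroup.centralizer ({L.t} : Set G) ≤ Subgroup.normalizer (Q : Set G) ∧ L.F ≤ Q ∧
      ∀ y ∈ Q, Commute y L.z → y ∈ L.F := by
  classical
  haveI : Fact (Nat.Prime 2) := ⟨Nat.prime_two⟩
  set C := Subgroup.centralizer ({L.t} : Set G) with hC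
  have hCcard : Nat.card C = 384 := T.cc_two hG L.ht
  set zc : C := ⟨L.z, L.z_mem⟩ with hzc
  obtain ⟨g, hgC, hg, -⟩ := L.exists_invert T hG
  have hSylcard : ∀ S : Sylow 2 C, Nat.card (S : Subgroup C) = 128 := fun S => by
    rw [Sylow.card_eq_multiplicity, hCcard,
      CfsgLib.Order7920.fac_eq (k := 7) (by norm_num) (by norm_num) (by norm_num) (by norm_num)]
    norm_num
  have hn2 : Nat.card (Sylow 2 C) = 3 := by
    obtain ⟨S⟩ := (inferInstance : Nonempty (Sylow 2 C))
    have hidx : Nat.card (Sylow 2 C) = (Subgroup.normalizer ((S : Subgroup C) : Set C)).index :=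
      S.card_eq_index_normalizer
    have hd : Nat.card (Sylow 2 C) ∣ 3 := by
      rw [hidx]
      have h1 := Subgroup.index_dvd_of_le (Subgroup.le_normalizer (H := (S : Subgroup C)))
      have h2 := (S : Subgroup C).card_mul_index
      rw [hSylcard S, hCcard] at h2
      rwa [show (S : Subgroup C).index = 3 by omega] at h1
    rcases (Nat.dvd_prime Nat.prime_three).1 hd with h | h
    · exfalso
      haveI : (S : Subgroup C).Normal := Subgroup.normalizer_eq_top_iff.mp (Subgroup.index_eq_one.mp (hidx ▸ h))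
      have hq : Nat.card (C ⧸ (S : Subgroup C)) = 3 := by
        have h2 := (S : Subgroup C).card_mul_index
        rw [hSylcard S, hCcard] at h2
        show (S : Subgroup C).index = 3
        omega
      haveI : IsCyclic (C ⧸ (S : Subgroup C)) := isCyclic_of_prime_card (p := 3) hq
      letI := IsCyclic.commGroup (α := C ⧸ (S : Subgroup C))
      set gc : C := ⟨g, hgC⟩
      have e : gc * zc * gc⁻¹ = zc⁻¹ := Subtype.ext hg
      have e2 := congrArg (QuotientGroup.mk' (S : Subgroup C)) e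
      rw [map_mul, map_mul, map_inv, map_inv, mul_comm (QuotientGroup.mk' _ gc), mul_inv_cancel_right] at e2
      have h2 : QuotientGroup.mk' (S : Subgroup C) (zc * zc) = 1 := by
        rw [map_mul]; nth_rw 2 [e2]; exact mul_inv_cancel _
      rw [QuotientGroup.mk'_apply, QuotientGroup.eq_one_iff] at h2
      have hd := Subgroup.orderOf_dvd_natCard _ h2
      rw [hSylcard S, ← Subgroup.orderOf_coe] at hd
      have hz2 : orderOf (L.z * L.z) = 3 := by rw [← pow_two, orderOf_pow, L.hz]; norm_num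
      change orderOf (L.z * L.z) ∣ 128 at hd
      rw [hz2] at hd
      norm_num at hd
    · exact h
  set φ := MulAction.toPermHom C (Sylow 2 C) with hφ
  haveI := Fintype.ofFinite (Sylow 2 C)
  have hcard3 : Fintype.card (Sylow 2 C) = 3 := by rw [← Nat.card_eq_fintype_card, hn2]
  have hzfix : ∀ S : Sylow 2 C, zc • S ≠ S := fun S h => by
    have hm : zc ∈ Subgroup.normalizer ((S : Subgroup C) : Set C) := Sylow.smul_eq_iff_mem_normalizer.mp h
    have hidx : Nat.card (Sylow 2 C) = (Subgroup.normalizer ((S : Subgroup C) : Set C)).index :=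
      S.card_eq_index_normalizer
    have hc := (Subgroup.normalizer ((S : Subgroup C) : Set C)).card_mul_index
    rw [← hidx, hn2, hCcard] at hc
    have hd := Subgroup.orderOf_dvd_natCard _ hm
    rw [← Subgroup.orderOf_coe, show ((zc : C) : G) = L.z from rfl, L.hz,
      show Nat.card (Subgroup.normalizer ((S : Subgroup C) : Set C)) = 128 by omega] at hd
    norm_num at hd
  set Q := φ.ker.map C.subtype with hQ
  have hQc : ∀ x : C, (x : G) ∈ Q ↔ ∀ S : Sylow 2 C, x • S = S := fun x => by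
    constructor
    · rintro ⟨y, hy, hyx⟩ S
      obtain rfl : y = x := Subtype.ext hyx
      exact Equiv.congr_fun (MonoidHom.mem_ker.mp hy) S
    · exact fun h => ⟨x, MonoidHom.mem_ker.mpr (Equiv.ext h), rfl⟩
  have hzQ : L.z ∉ Q := fun h => by
    obtain ⟨S⟩ := (inferInstance : Nonempty (Sylow 2 C))
    exact hzfix S ((hQc zc).1 h S)
  have hQcard : Nat.card Q = 64 := by
    rw [hQ, Subgroup.card_map_of_injective C.subtype_injective]
    have h1 : Nat.card C = Nat.card φ.ker * Nat.card φ.range := by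
      rw [← Subgroup.index_ker, Subgroup.card_mul_index]
    have h2 : Nat.card φ.range ∣ 6 := by
      have := Subgroup.card_subgroup_dvd_card φ.range
      rwa [Nat.card_eq_fintype_card (α := Equiv.Perm _), Fintype.card_perm, hcard3] at this
    have h3 : 3 ∣ Nat.card φ.range := by
      have hne : φ zc ≠ 1 := fun e => hzQ ⟨zc, MonoidHom.mem_ker.mpr e, rfl⟩
      have hd : orderOf (φ zc) ∣ 3 := by
        refine (orderOf_map_dvd φ zc).trans (dvd_of_eq ?_)
        rw [← Subgroup.orderOf_coe]; exact L.hz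
      rcases (Nat.dvd_prime Nat.prime_three).1 hd with h | h
      · exact absurd (orderOf_eq_one_iff.mp h) hne
      · rw [← h]; exact Subgroup.orderOf_dvd_natCard _ ⟨zc, rfl⟩
    rw [hCcard] at h1
    have h6 : Nat.card φ.range ≤ 6 := Nat.le_of_dvd (by norm_num) h2
    have h0 : 0 < Nat.card φ.range := Nat.card_pos
    have h36 : Nat.card φ.range = 3 ∨ Nat.card φ.range = 6 := by
      clear_value φ
      generalize Nat.card φ.range = n at h0 h3 h6 h2
      interval_cases n <;> simp_all
    rcases h36 with h | h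
    · exfalso
      rw [h] at h1
      have hk : Nat.card φ.ker = 128 := by linarith
      obtain ⟨S, hS⟩ := (IsPGroup.of_card (n := 7) (show Nat.card φ.ker = 2 ^ 7 from hk.trans (by norm_num))).exists_le_sylow
      have hSe : φ.ker = (S : Subgroup C) := Subgroup.eq_of_le_of_card_ge hS (by rw [hSylcard S, hk])
      haveI : (S : Subgroup C).Normal := hSe ▸ φ.normal_ker
      haveI : Subsingleton (Sylow 2 C) := @Unique.instSubsingleton _ (Sylow.unique_of_normal S inferInstance)
      have := Finite.card_le_one_iff_subsingleton.mpr (inferInstance : Subsingleton (Sylow 2 C))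
      omega
    · rw [h] at h1; omega
  have hFQ : L.F ≤ Q := fun y hy => by
    set yc : C := ⟨y, L.F_le_cent hy⟩
    have hcomm : ∀ S : Sylow 2 C, yc • zc • S = zc • yc • S := fun S => by
      rw [← mul_smul, ← mul_smul]
      exact congrArg (· • S) (Subtype.ext (L.z_comm hy).eq : yc * zc = zc * yc)
    have hy2 : ∀ S : Sylow 2 C, yc • yc • S = S := fun S => by
      rw [← mul_smul, show yc * yc = 1 from Subtype.ext (L.F_sq y hy), one_smul]
    refine (hQc yc).2 fun S => by_contra fun hne => ?_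
    have hne2 : zc • S ≠ S := hzfix S
    have hz3 : zc • zc • zc • S = S := by
      rw [← mul_smul, ← mul_smul, show zc * zc * zc = 1 from Subtype.ext (by
        show L.z * L.z * L.z = 1
        rw [← pow_two, ← pow_succ, show 2 + 1 = orderOf L.z from L.hz.symm, pow_orderOf_eq_one]), one_smul]
    have hall : ∀ R : Sylow 2 C, R = S ∨ R = zc • S ∨ R = zc • zc • S := fun R => by
      by_contra hR
      push Not at hR
      have hzz : zc • zc • S ≠ S := fun e => hne2 (by nth_rw 1 [← e]; exact hz3)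
      have hc : ({R, S, zc • S, zc • zc • S} : Finset (Sylow 2 C)).card = 4 := by
        rw [Finset.card_insert_of_notMem (by simp [hR.1, hR.2.1, hR.2.2]),
          Finset.card_insert_of_notMem (by simp [hne2.symm, hzz.symm]),
          Finset.card_insert_of_notMem (by rw [Finset.mem_singleton]; exact fun e => hzfix (zc • S) e.symm), Finset.card_singleton]
      have := Finset.card_le_univ ({R, S, zc • S, zc • zc • S} : Finset (Sylow 2 C))
      omega
    rcases hall (yc • S) with e | e | e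
    · exact hne e
    · have h2 := hy2 S
      rw [e, hcomm, e] at h2
      exact hne2 (by nth_rw 1 [← h2]; exact hz3)
    · have h2 := hy2 S
      rw [e, hcomm, hcomm, e, hz3] at h2
      exact hne2 h2
  refine ⟨Q, hQcard, Subgroup.map_subtype_le _, fun c hc => ?_, hFQ, fun y hy hyz => ?_⟩
  · refine mem_normalizer_of_maps ?_
    rintro _ ⟨k, hk, rfl⟩
    exact ⟨(⟨c, hc⟩ : C) * k * (⟨c, hc⟩ : C)⁻¹, φ.normal_ker.conj_mem k hk _, rfl⟩
  · have hle : L.F ≤ Q ⊓ Subgroup.centralizer ({L.z} : Set G) := le_inf hFQ L.F_le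
    have h4 : Nat.card (Q ⊓ Subgroup.centralizer ({L.z} : Set G) : Subgroup G) ∣ Nat.gcd 64 36 :=
      Nat.dvd_gcd (hQcard ▸ Subgroup.card_dvd_of_le inf_le_left)
        (T.cc_three hG L.hz ▸ Subgroup.card_dvd_of_le inf_le_right)
    rw [show Nat.gcd 64 36 = 4 by norm_num] at h4
    have hEq : L.F = Q ⊓ Subgroup.centralizer ({L.z} : Set G) :=
      Subgroup.eq_of_le_of_card_ge hle (by rw [L.card_F]; exact Nat.le_of_dvd (by norm_num) h4)
    rw [hEq]
    exact ⟨hy, Subgroup.mem_centralizer_singleton_iff.mpr hyz.eq⟩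

end Loc

end CfsgSimpleM22
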