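/-
Counting fixed points of conjugation.
-/
import Cfsg.Agent.Lib.SimpleM22.InvLocal

set_option autoImplicit false
set_option linter.style.haveILetI false
set_option linter.unusedSectionVars false

namespace CfsgSimpleM22

universe u
variable {G : Type u} [Group G] [Fintype G]

/-- A set invariant under conjugation by an element of order three has as many elements as fixed ones, modulo three. -/
theorem card_mod_three {S : Set G} {z : G} (hz : z ^ 3 = 1) (hS : ∀ s ∈ S, z * s * z⁻¹ ∈ S) :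
    Nat.card S % 3 = Nat.card {s : G | s ∈ S ∧ Commute s z} % 3 := by
  classical
  haveI : Fact (Nat.Prime 3) := ⟨Nat.prime_three⟩
  let f : Function.End S := fun s => ⟨z * s.1 * z⁻¹, hS _ s.2⟩
  have hf : f ^ 3 ^ 1 = 1 := by
    funext s
    refine Subtype.ext ?_
    show z * (z * (z * s.1 * z⁻¹) * z⁻¹) * z⁻¹ = s.1
    calc z * (z * (z * s.1 * z⁻¹) * z⁻¹) * z⁻¹ = (z * z * z) * s.1 * (z * z * z)⁻¹ := by group
      _ = s.1 := by rw [show z * z * z = 1 by rw [← hz]; simp [pow_succ]]; group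
  have h := Equiv.Perm.card_fixedPoints_modEq hf
  rw [Nat.card_eq_fintype_card, Nat.card_eq_fintype_card]
  refine h.trans (congrArg (· % 3) ?_)
  refine Fintype.card_congr
    { toFun := fun x => ⟨x.1.1, x.1.2, ?_⟩
      invFun := fun x => ⟨⟨x.1, x.2.1⟩, ?_⟩
      left_inv := fun _ => rfl
      right_inv := fun _ => rfl }
  · have h2 : z * x.1.1 * z⁻¹ = x.1.1 := congrArg Subtype.val x.2
    exact (mul_inv_eq_iff_eq_mul.mp h2).symm
  · exact Subtype.ext (mul_inv_eq_iff_eq_mul.mpr x.2.2.symm)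

/-- The same for a subgroup with known fixed subgroup. -/
theorem subgroup_mod_three {H K : Subgroup G} {z : G} (hz : z ^ 3 = 1) (hH : ∀ s ∈ H, z * s * z⁻¹ ∈ H)
    (hK : ∀ s : G, s ∈ K ↔ s ∈ H ∧ Commute s z) : Nat.card H % 3 = Nat.card K % 3 := by
  rw [show Nat.card H = Nat.card ((H : Set G)) from rfl, card_mod_three hz hH,
    show {s : G | s ∈ (H : Set G) ∧ Commute s z} = (K : Set G) from Set.ext fun s => (hK s).symm]
  rfl

/-- Burnside's lemma for a subgroup acting on a normalised subgroup by conjugation. -/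
theorem dvd_sum_inf_centralizer {P Q : Subgroup G} [Fintype P] (hPQ : P ≤ Subgroup.normalizer (Q : Set G)) :
    Nat.card P ∣ ∑ p : P, Nat.card (Q ⊓ Subgroup.centralizer ({(p : G)} : Set G) : Subgroup G) := by
  classical
  letI : MulAction P Q :=
    { smul := fun p q => ⟨p.1 * q.1 * p.1⁻¹, (Subgroup.mem_normalizer_iff.mp (hPQ p.2) q.1).mp q.2⟩
      one_smul := fun q => Subtype.ext (show (1 : G) * q.1 * (1 : G)⁻¹ = q.1 by group)
      mul_smul := fun a b q => Subtype.ext (show (a.1 * b.1) * q.1 * (a.1 * b.1)⁻¹ = a.1 * (b.1 * q.1 * b.1⁻¹) * a.1⁻¹ by group) }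
  have h := MulAction.sum_card_fixedBy_eq_card_orbits_mul_card_group P Q
  have he : ∑ p : P, Fintype.card (MulAction.fixedBy Q p) =
      ∑ p : P, Nat.card (Q ⊓ Subgroup.centralizer ({(p : G)} : Set G) : Subgroup G) := by
    refine Finset.sum_congr rfl fun p _ => ?_
    rw [← Nat.card_eq_fintype_card]
    refine Nat.card_congr
      { toFun := fun x => ⟨x.1.1, Subgroup.mem_inf.mpr ⟨x.1.2, Subgroup.mem_centralizer_singleton_iff.mpr ?_⟩⟩
        invFun := fun x => ⟨⟨x.1, x.2.1⟩, ?_⟩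
        left_inv := fun _ => rfl
        right_inv := fun _ => rfl }
    · have h2 : p.1 * x.1.1 * p.1⁻¹ = x.1.1 := congrArg Subtype.val x.2
      exact (mul_inv_eq_iff_eq_mul.mp h2).symm
    · exact Subtype.ext (mul_inv_eq_iff_eq_mul.mpr (Subgroup.mem_centralizer_singleton_iff.mp x.2.2).symm)
  rw [← he, h, Nat.card_eq_fintype_card (α := P)]
  exact Dvd.intro_left _ rfl

/-- Two subgroups meeting trivially inside a third. -/
theorem card_mul_le {A B K : Subgroup G} (hA : A ≤ K) (hB : B ≤ K) (h : ∀ a ∈ A, a ∈ B → a = 1) :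
    Nat.card A * Nat.card B ≤ Nat.card K ∧
      (Nat.card K ≤ Nat.card A * Nat.card B → ∀ k ∈ K, ∃ a ∈ A, ∃ b ∈ B, a * b = k) := by
  set m : A × B → K := fun x => ⟨x.1.1 * x.2.1, K.mul_mem (hA x.1.2) (hB x.2.2)⟩ with hm
  have hinj : Function.Injective m := fun x y hxy => by
    have e : x.1.1 * x.2.1 = y.1.1 * y.2.1 := congrArg Subtype.val hxy
    have e2 : y.1.1⁻¹ * x.1.1 = y.2.1 * x.2.1⁻¹ := by
      rw [eq_mul_inv_iff_mul_eq, mul_assoc, e, inv_mul_cancel_left]
    have h1 := h _ (A.mul_mem (A.inv_mem y.1.2) x.1.2) (e2 ▸ B.mul_mem y.2.2 (B.inv_mem x.2.2))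
    have hx1 : x.1.1 = y.1.1 := (inv_mul_eq_one.mp h1).symm
    rw [hx1] at e
    exact Prod.ext (Subtype.ext hx1) (Subtype.ext (mul_left_cancel e))
  rw [← Nat.card_prod]
  refine ⟨Nat.card_le_card_of_injective m hinj, fun hle k hk => ?_⟩
  obtain ⟨x, hx⟩ := ((Nat.bijective_iff_injective_and_card m).mpr
    ⟨hinj, le_antisymm (Nat.card_le_card_of_injective m hinj) hle⟩).2 ⟨k, hk⟩
  exact ⟨x.1.1, x.1.2, x.2.1, x.2.2, congrArg Subtype.val hx⟩

end CfsgSimpleM22
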