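/-
If the centraliser of an involution normalises the four-group, the four subgroups of order three pair up.
-/
import Cfsg.Agent.Lib.SimpleM22.Counting

set_option autoImplicit false
set_option linter.style.haveILetI false
set_option linter.unusedSectionVars false

namespace CfsgSimpleM22

open Cfsg CfsgLib.CharTheory CfsgLib.Blocks CfsgSimpleM11

universe u
variable {G : Type u} [Group G] [Fintype G]

/-- The involutions centralising two elements commute with each other. -/
def Rel (a b : G) : Prop := ∀ x : G, x * x = 1 → Commute x a → ∀ y : G, y * y = 1 → Commute y b → Commute x y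

theorem Rel.symm {a b : G} (h : Rel a b) : Rel b a := fun x hx hxb y hy hya => (h y hy hya x hx hxb).symm

theorem Rel.inv {a b : G} (h : Rel a b) : Rel a b⁻¹ := fun x hx hxa y hy hyb =>
  h x hx hxa y hy (inv_inv b ▸ Commute.inv_right hyb)

theorem Rel.of_inv {a b : G} (h : Rel a b⁻¹) : Rel a b := inv_inv b ▸ h.inv

/-- A nontrivial element of a cyclic group of order three generates it. -/
theorem zpowers_eq_of_mem {z p : G} (hz : orderOf z = 3) (hp : p ∈ Subgroup.zpowers z) (hp1 : p ≠ 1) :
    z ∈ Subgroup.zpowers p := by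
  have h : orderOf p = 3 := by
    have hd : orderOf p ∣ 3 := hz ▸ Nat.card_zpowers z ▸ Subgroup.orderOf_dvd_natCard _ hp
    rcases (Nat.dvd_prime Nat.prime_three).1 hd with e | e
    · exact absurd (orderOf_eq_one_iff.mp e) hp1
    · exact e
  rw [(Subgroup.eq_of_le_of_card_ge ((Subgroup.zpowers_le).mpr hp) (by rw [Nat.card_zpowers, Nat.card_zpowers, hz, h]) :
    Subgroup.zpowers p = Subgroup.zpowers z)]
  exact Subgroup.mem_zpowers z

theorem commute_of_mem_zpowers {y p z : G} (h : Commute y p) (hz : z ∈ Subgroup.zpowers p) : Commute y z := by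
  obtain ⟨i, rfl⟩ := Subgroup.mem_zpowers_iff.mp hz
  exact h.zpow_right i

theorem pow_of_sq {x : G} (hx : x * x = 1) (n : ℕ) : x ^ (2 * n) = 1 := by
  rw [pow_mul, pow_two, hx, one_pow]

namespace Loc

variable (L : Loc G)

/-- The centraliser of the involution normalises the four-group. -/
def Normalised : Prop := Subgroup.centralizer ({L.t} : Set G) ≤ Subgroup.normalizer (L.F : Set G)

theorem mem_F_iff {y : G} : y ∈ L.F ↔ y * y = 1 ∧ Commute y L.z :=
  ⟨fun h => ⟨L.F_sq y h, L.z_comm h⟩, fun h => L.F_all y (Subgroup.mem_centralizer_singleton_iff.mpr h.2.eq) h.1⟩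

variable (T : Tbl G) (hG : IsM22 G)
include T hG

/-- The property passes to every such configuration. -/
theorem normalised_all (h : L.Normalised) (L' : Loc G) : L'.Normalised := by
  obtain ⟨g, hg⟩ := isConj_iff.mp (T.three_conj hG L.hz L'.hz)
  set f := MulAut.conj g with hf
  have hback : ∀ x : G, x ∈ L'.F → f.symm x ∈ L.F := fun x hx => by
    refine L.mem_F_iff.mpr ⟨by rw [← map_mul, L'.F_sq x hx, map_one], ?_⟩
    have e := (L'.z_comm hx).map f.symm
    rwa [show f.symm L'.z = L.z by rw [← hg]; exact f.symm_apply_apply L.z] at e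
  obtain ⟨c, hc, hct⟩ := L.exists_move T hG (hback _ L'.htF) (fun e => L'.t_ne (by
    simpa using congrArg f e))
  set k := MulAut.conj (g * c) with hk
  have hkz : k L.z = L'.z := by
    rw [hk, map_mul, MulAut.mul_apply, MulAut.conj_apply (h := L.z) (g := c),
      Subgroup.mem_centralizer_singleton_iff.mp hc, mul_inv_cancel_right, MulAut.conj_apply, hg]
  have hkt : k L.t = L'.t := by
    rw [hk, map_mul, MulAut.mul_apply, MulAut.conj_apply (h := L.t) (g := c), hct]
    exact f.apply_symm_apply _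
  have hto : ∀ x : G, x ∈ L.F → k x ∈ L'.F := fun x hx =>
    L'.mem_F_iff.mpr ⟨by rw [← map_mul, L.F_sq x hx, map_one], hkz ▸ (L.z_comm hx).map k⟩
  have hfrom : ∀ x : G, x ∈ L'.F → k.symm x ∈ L.F := fun x hx => by
    refine L.mem_F_iff.mpr ⟨by rw [← map_mul, L'.F_sq x hx, map_one], ?_⟩
    have e := (L'.z_comm hx).map k.symm
    rwa [← hkz, k.symm_apply_apply] at e
  intro y hy
  refine mem_normalizer_of_maps fun x hx => ?_
  have hy' : k.symm y ∈ Subgroup.centralizer ({L.t} : Set G) := by
    refine Subgroup.mem_centralizer_singleton_iff.mpr ?_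
    have e := congrArg k.symm (Subgroup.mem_centralizer_singleton_iff.mp hy)
    rwa [map_mul, map_mul, ← hkt, k.symm_apply_apply] at e
  have h1 := hto _ ((Subgroup.mem_normalizer_iff.mp (h hy') _).mp (hfrom x hx))
  simpa using h1

/-- A second involution of the four-group. -/
theorem exists_other : ∃ y ∈ L.F, (y ≠ 1 ∧ y ≠ L.t) ∧ ∀ x ∈ L.F, x = 1 ∨ x = L.t ∨ x = y ∨ x = L.t * y := by
  classical
  obtain ⟨y, hy, hy'⟩ : ∃ y ∈ L.F, y ≠ 1 ∧ y ≠ L.t := by
    by_contra hne
    push Not at hne
    have hsub : (L.F : Set G).toFinset ⊆ {1, L.t} := fun x hx => by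
      rw [Set.mem_toFinset] at hx
      by_cases e : x = 1
      · simp [e]
      · simp [hne x hx e]
    have := (Finset.card_le_card hsub).trans (Finset.card_le_two)
    rw [Set.toFinset_card, ← Nat.card_eq_fintype_card, show Nat.card (L.F : Set G) = 4 from L.card_F] at this
    omega
  have hty : L.t * y ∈ L.F := L.F.mul_mem L.htF hy
  have hall : ∀ x ∈ L.F, x = 1 ∨ x = L.t ∨ x = y ∨ x = L.t * y := fun x hx => by
    by_contra hne
    simp only [not_or] at hne
    obtain ⟨h1, h2, h3, h4⟩ := hne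
    have n1 : L.t * y ≠ 1 := fun e => hy'.2 (by
      rw [mul_eq_one_iff_inv_eq, inv_eq_of_mul_eq_one_right (L.F_sq _ L.htF)] at e; exact e.symm)
    have n2 : L.t * y ≠ L.t := fun e => hy'.1 (mul_eq_left.mp e)
    have n3 : L.t * y ≠ y := fun e => L.t_ne (mul_eq_right.mp e)
    have hsub : ({x, 1, L.t, y, L.t * y} : Finset G) ⊆ (L.F : Set G).toFinset := by
      intro g hg
      simp only [Finset.mem_insert, Finset.mem_singleton] at hg
      rw [Set.mem_toFinset]
      rcases hg with rfl | rfl | rfl | rfl | rfl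
      exacts [hx, one_mem L.F, L.htF, hy, hty]
    have := Finset.card_le_card hsub
    rw [Set.toFinset_card, ← Nat.card_eq_fintype_card, show Nat.card (L.F : Set G) = 4 from L.card_F,
      Finset.card_insert_of_notMem (by simp [h1, h2, h3, h4]),
      Finset.card_insert_of_notMem (by simp [L.t_ne.symm, hy'.1.symm, n1.symm]),
      Finset.card_insert_of_notMem (by simp [hy'.2.symm, n2.symm]),
      Finset.card_insert_of_notMem (by simpa using n3.symm), Finset.card_singleton] at this
    omega
  exact ⟨y, hy, hy', hall⟩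

/-- Two elements of the centraliser moving the four-group multiply into its centraliser. -/
theorem swap_mul {a b : G} (han : a ∈ Subgroup.normalizer (L.F : Set G)) (hbn : b ∈ Subgroup.normalizer (L.F : Set G)) (ha : a ∈ Subgroup.centralizer ({L.t} : Set G))
    (hb : b ∈ Subgroup.centralizer ({L.t} : Set G)) (ha' : a ∉ Subgroup.centralizer (L.F : Set G))
    (hb' : b ∉ Subgroup.centralizer (L.F : Set G)) : a * b ∈ Subgroup.centralizer (L.F : Set G) := by
  classical
  obtain ⟨y, hy, hy', hall⟩ := L.exists_other T hG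
  -- membership in the centraliser is decided at `y`
  have hiff : ∀ g ∈ Subgroup.centralizer ({L.t} : Set G), g * y * g⁻¹ = y → g ∈ Subgroup.centralizer (L.F : Set G) :=
    fun g hg e => Subgroup.mem_centralizer_iff.mpr fun x hx => by
      have hgt : Commute g L.t := Subgroup.mem_centralizer_singleton_iff.mp hg
      have hgy : Commute g y := mul_inv_eq_iff_eq_mul.mp e
      rcases hall x hx with rfl | rfl | rfl | rfl
      exacts [(Commute.one_right g).symm.eq, hgt.symm.eq, hgy.symm.eq, (hgt.mul_right hgy).symm.eq]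
  have hswap : ∀ g ∈ Subgroup.centralizer ({L.t} : Set G), g ∈ Subgroup.normalizer (L.F : Set G) →
      g ∉ Subgroup.centralizer (L.F : Set G) → g * y * g⁻¹ = L.t * y := fun g hg hgn hg' => by
    have hgt : Commute g L.t := Subgroup.mem_centralizer_singleton_iff.mp hg
    rcases hall _ ((Subgroup.mem_normalizer_iff.mp hgn y).mp hy) with e | e | e | e
    · exact absurd (by rwa [mul_inv_eq_one, mul_eq_left] at e) hy'.1
    · refine absurd ?_ hy'.2
      rw [mul_inv_eq_iff_eq_mul, ← hgt.eq] at e
      exact mul_left_cancel e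
    · exact absurd (hiff g hg e) hg'
    · exact e
  refine hiff _ (mul_mem ha hb) ?_
  have e1 := hswap a ha han ha'
  have e2 : a * L.t * a⁻¹ = L.t := mul_inv_eq_iff_eq_mul.mpr (Subgroup.mem_centralizer_singleton_iff.mp ha)
  calc a * b * y * (a * b)⁻¹ = a * (b * y * b⁻¹) * a⁻¹ := by group
    _ = (a * L.t * a⁻¹) * (a * y * a⁻¹) := by rw [hswap b hb hbn hb']; group
    _ = y := by rw [e1, e2, ← mul_assoc, L.F_sq _ L.htF, one_mul]

/-- A subgroup of the centraliser not fixing the four-group meets its centraliser in index two. -/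
theorem card_two_mul {H : Subgroup G} (hN : H ≤ Subgroup.normalizer (L.F : Set G))
    (hH : H ≤ Subgroup.centralizer ({L.t} : Set G))
    {g : G} (hg : g ∈ H) (hg' : g ∉ Subgroup.centralizer (L.F : Set G)) :
    Nat.card H = 2 * Nat.card (H ⊓ Subgroup.centralizer (L.F : Set G) : Subgroup G) := by
  set K := Subgroup.centralizer (L.F : Set G) with hK
  have hidx : ((H ⊓ K).subgroupOf H).index = 2 := by
    refine Subgroup.index_eq_two_iff.mpr ⟨⟨g, hg⟩, fun b => ?_⟩
    simp only [Subgroup.mem_subgroupOf, Subgroup.mem_inf, Subgroup.coe_mul]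
    by_cases hb : (b : G) ∈ K
    · refine Or.inr ⟨⟨b.2, hb⟩, fun hbg => hg' ?_⟩
      have := mul_mem (inv_mem hb) hbg.2
      rwa [inv_mul_cancel_left] at this
    · exact Or.inl ⟨⟨mul_mem b.2 hg, L.swap_mul T hG (hN b.2) (hN hg) (hH b.2) (hH hg) hb hg'⟩, fun hb2 => hb hb2.2⟩
  have := ((H ⊓ K).subgroupOf H).card_mul_index
  rw [hidx, Nat.card_congr (Subgroup.subgroupOfEquivOfLe (inf_le_left : H ⊓ K ≤ H)).toEquiv] at this
  omega

/-- The normal two-subgroup fixes the four-group pointwise and holds every two-element that does. -/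
theorem exists_QK (h : L.Normalised) : ∃ Q : Subgroup G, Nat.card Q = 64 ∧
    Q ≤ Subgroup.centralizer (L.F : Set G) ∧
    Subgroup.centralizer ({L.t} : Set G) ≤ Subgroup.normalizer (Q : Set G) ∧ L.F ≤ Q ∧
    (∀ y ∈ Q, Commute y L.z → y ∈ L.F) ∧
    ∀ x ∈ Subgroup.centralizer (L.F : Set G), x ^ 64 = 1 → x ∈ Q := by
  haveI : Fact (Nat.Prime 3) := ⟨Nat.prime_three⟩
  set C := Subgroup.centralizer ({L.t} : Set G) with hC
  set K := Subgroup.centralizer (L.F : Set G) with hK
  have hKC : K ≤ C := fun x hx =>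
    Subgroup.mem_centralizer_singleton_iff.mpr (Subgroup.mem_centralizer_iff.mp hx _ L.htF).symm
  have hFK : L.F ≤ K := fun a ha => Subgroup.mem_centralizer_iff.mpr fun b hb => (L.F_comm hb ha).eq
  have hzK : L.z ∈ K := L.M_cent (le_sup_right (a := L.F) (Subgroup.mem_zpowers L.z))
  have hz3 : L.z ^ 3 = 1 := L.hz ▸ pow_orderOf_eq_one L.z
  obtain ⟨Q, hQ, hQC, hQn, hFQ, hQfix⟩ := L.exists_Q T hG
  have hQK : Q ≤ K := fun g hg => by_contra fun hg' => by
    have h32 := L.card_two_mul T hG (hQC.trans h) hQC hg hg'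
    have hm := subgroup_mod_three (H := Q ⊓ K) (K := L.F) hz3
      (fun s hs => ⟨(Subgroup.mem_normalizer_iff.mp (hQn L.z_mem) s).mp hs.1,
        K.mul_mem (K.mul_mem hzK hs.2) (K.inv_mem hzK)⟩)
      (fun s => ⟨fun hs => ⟨⟨hFQ hs, hFK hs⟩, L.z_comm hs⟩, fun hs => hQfix s hs.1.1 hs.2⟩)
    rw [hQ] at h32
    rw [L.card_F] at hm
    rw [← hK] at h32
    omega
  have hKcard : Nat.card K = 192 := by
    obtain ⟨g, hgC, hg, -⟩ := L.exists_invert T hG
    have h2 := L.card_two_mul T hG h (le_refl C) hgC (L.invert_not_cent T hG hg)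
    rw [inf_eq_right.mpr hKC, show Nat.card C = 384 from T.cc_two hG L.ht] at h2
    omega
  have hmemQ : ∀ x ∈ K, x ^ 64 = 1 → x ∈ Q := by
    intro x hx hx64
    haveI : (Q.subgroupOf K).Normal := (Subgroup.normal_subgroupOf_iff_le_normalizer hQK).mpr (hKC.trans hQn)
    have hi : (Q.subgroupOf K).index = 3 := by
      have := (Q.subgroupOf K).card_mul_index
      rw [Nat.card_congr (Subgroup.subgroupOfEquivOfLe hQK).toEquiv, hQ, hKcard] at this
      omega
    have h3 : x ^ 3 ∈ Q := by
      have := (Q.subgroupOf K).pow_index_mem (⟨x, hx⟩ : K)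
      rwa [hi, Subgroup.mem_subgroupOf] at this
    have e : x = (x ^ 3) ^ 43 := by
      conv_lhs => rw [← pow_one x]
      rw [← pow_mul, show (3 * 43 : ℕ) = 64 * 2 + 1 from rfl, pow_add, pow_mul x 64 2, hx64, one_pow, one_mul]
    rw [e]; exact Q.pow_mem h3 _
  exact ⟨Q, hQ, hQK, hQn, hFQ, hQfix, hmemQ⟩

/-- Exactly one subgroup of order three besides `z` fails to be related to it. -/
theorem bad_pair (h : L.Normalised) {P : Sylow 3 G} (hzP : L.z ∈ (P : Subgroup G)) :
    ∃ D ∈ (P : Subgroup G), D ∉ Subgroup.zpowers L.z ∧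
      ∀ p ∈ (P : Subgroup G), p ≠ 1 → (¬ Rel L.z p ↔ p = D ∨ p = D⁻¹) := by
  classical
  haveI : Fact (Nat.Prime 3) := ⟨Nat.prime_three⟩
  obtain ⟨Q, hQ, hQK, hQn, hFQ, hQfix, hmemQ⟩ := L.exists_QK T hG h
  have hz3 : L.z ^ 3 = 1 := L.hz ▸ pow_orderOf_eq_one L.z
  have hPC := T.le_cent_three hG hzP
  have hPQ : (P : Subgroup G) ≤ Subgroup.normalizer (Q : Set G) := fun p hp => by
    refine mem_normalizer_of_maps fun q hq => hmemQ _ ?_ ?_
    · refine Subgroup.mem_centralizer_iff.mpr fun y hy => ?_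
      have hy' := (Subgroup.mem_normalizer_iff''.mp (L.F_norm (hPC hp)) y).mp hy
      have e := Subgroup.mem_centralizer_iff.mp (hQK hq) _ hy'
      calc y * (p * q * p⁻¹) = p * ((p⁻¹ * y * p) * q) * p⁻¹ := by group
        _ = p * (q * (p⁻¹ * y * p)) * p⁻¹ := by rw [e]
        _ = p * q * p⁻¹ * y := by group
    · rw [← MulAut.conj_apply, ← map_pow, show q ^ 64 = 1 from hQ ▸ (by
        exact congrArg Subtype.val (pow_card_eq_one' (x := (⟨q, hq⟩ : Q)))), map_one]
  have hrelz : ∀ p ∈ Subgroup.zpowers L.z, p ≠ 1 → Rel L.z p := fun p hp hp1 x hx hxz y hy hyp =>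
    L.F_comm (L.mem_F_iff.mpr ⟨hx, hxz⟩)
      (L.mem_F_iff.mpr ⟨hy, commute_of_mem_zpowers hyp (zpowers_eq_of_mem L.hz hp hp1)⟩)
  -- fixed points of the elements of order three
  have hord : ∀ p : (P : Subgroup G), (p : G) ≠ 1 → orderOf (p : G) = 3 := fun p hp =>
    orderOf_eq_prime (T.pow_three hG p.2) hp
  have hfix : ∀ p : (P : Subgroup G), (p : G) ≠ 1 →
      Nat.card (Q ⊓ Subgroup.centralizer ({(p : G)} : Set G) : Subgroup G) = if Rel L.z p then 4 else 1 := by
    intro p hp
    obtain ⟨F', hF4, hF'le, -, hF'sq, hF'all⟩ := T.exists_four hG (hord p hp)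
    set I := Q ⊓ Subgroup.centralizer ({(p : G)} : Set G) with hI
    have hd : Nat.card I ∣ 4 := by
      have := Nat.dvd_gcd (hQ ▸ Subgroup.card_dvd_of_le (inf_le_left : I ≤ Q))
        ((show Nat.card (Subgroup.centralizer ({(p : G)} : Set G)) = 36 from T.cc_three hG (hord p hp)) ▸
          Subgroup.card_dvd_of_le (inf_le_right : I ≤ _))
      rwa [show Nat.gcd 64 36 = 4 by norm_num] at this
    split_ifs with hrel
    · have hle : F' ≤ I := fun y hy => ⟨hmemQ y (Subgroup.mem_centralizer_iff.mpr fun x hx =>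
        (hrel x (L.F_sq x hx) (L.z_comm hx) y (hF'sq y hy) (Subgroup.mem_centralizer_singleton_iff.mp (hF'le hy))).eq)
        (pow_of_sq (hF'sq y hy) 32), hF'le hy⟩
      have := Subgroup.card_le_of_le hle
      have := Nat.le_of_dvd (by norm_num) hd
      omega
    · have hpz : (p : G) ∉ Subgroup.zpowers L.z := fun hm => hrel (hrelz _ hm hp)
      have hpC := hPC p.2
      have hzp : L.z ∈ Subgroup.centralizer ({(p : G)} : Set G) :=
        Subgroup.mem_centralizer_singleton_iff.mpr (Subgroup.mem_centralizer_singleton_iff.mp hpC).symm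
      have hm := subgroup_mod_three (H := I) (K := (⊥ : Subgroup G)) hz3
        (fun s hs => ⟨(Subgroup.mem_normalizer_iff.mp (hQn L.z_mem) s).mp hs.1,
          Subgroup.mul_mem _ (Subgroup.mul_mem _ hzp hs.2) (Subgroup.inv_mem _ hzp)⟩)
        (fun s => by
          rw [Subgroup.mem_bot]
          constructor
          · rintro rfl; exact ⟨one_mem _, Commute.one_left _⟩
          · intro hs
            by_contra hs1
            have hsF := hQfix s hs.1.1 hs.2
            exact T.fixes_none hG L.hz hzP p.2 hpz (L.orderOf_F hsF hs1) hs.2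
              (Subgroup.mem_centralizer_singleton_iff.mp hs.1.2))
      rw [Subgroup.card_bot] at hm
      obtain ⟨i, hi, e⟩ := (Nat.dvd_prime_pow Nat.prime_two).1 (show Nat.card I ∣ 2 ^ 2 from hd)
      interval_cases i
      · simpa using e
      · rw [e] at hm; norm_num at hm
      · exfalso
        have hsq : ∀ y ∈ I, y * y = 1 := fun y hy => by
          have hd4 : orderOf y ∣ 2 ^ 2 := e ▸ Subgroup.orderOf_dvd_natCard I hy
          obtain ⟨j, hj, ho⟩ := (Nat.dvd_prime_pow Nat.prime_two).1 hd4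
          have hj2 : j ≠ 2 := fun ej => T.sq_ne hG (hord p hp) (by rw [ho, ej]; norm_num)
            (Subgroup.mem_centralizer_singleton_iff.mp hy.2 : Commute y p).symm
          have hd2 : orderOf y ∣ 2 := by rw [ho]; exact (pow_dvd_pow 2 (show j ≤ 1 by omega)).trans (by norm_num)
          rw [← pow_two]; exact orderOf_dvd_iff_pow_eq_one.mp hd2
        have hEq : I = F' := Subgroup.eq_of_le_of_card_ge (fun y hy => hF'all y hy.2 (hsq y hy))
          (by rw [hF4, e]; norm_num)
        refine hrel fun x hx hxz y hy hyp => Subgroup.mem_centralizer_iff.mp (hQK ?_) x (L.mem_F_iff.mpr ⟨hx, hxz⟩)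
        exact (hEq.symm ▸ hF'all y (Subgroup.mem_centralizer_singleton_iff.mpr hyp.eq) hy : y ∈ I).1
  -- Burnside
  set bad := Finset.univ.filter (fun p : (P : Subgroup G) => (p : G) ≠ 1 ∧ ¬ Rel L.z p) with hbad
  set out := Finset.univ.filter (fun p : (P : Subgroup G) => (p : G) ∉ Subgroup.zpowers L.z) with hout
  have hsub : bad ⊆ out := fun p hp => by
    simp only [hbad, hout, Finset.mem_filter, Finset.mem_univ, true_and] at hp ⊢
    exact fun hm => hp.2 (hrelz _ hm hp.1)
  have hP9 : Fintype.card (P : Subgroup G) = 9 := by rw [← Nat.card_eq_fintype_card]; exact card_sylow3 hG P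
  have hout6 : out.card = 6 := by
    have h1 := Finset.card_filter_add_card_filter_not (s := (Finset.univ : Finset (P : Subgroup G)))
      (fun p : (P : Subgroup G) => (p : G) ∈ Subgroup.zpowers L.z)
    have h2 : Nat.card ((Subgroup.zpowers L.z).subgroupOf (P : Subgroup G)) = 3 := by
      rw [Nat.card_congr (Subgroup.subgroupOfEquivOfLe (Subgroup.zpowers_le.mpr hzP)).toEquiv, Nat.card_zpowers, L.hz]
    rw [Nat.card_eq_fintype_card, Fintype.card_subtype] at h2
    simp only [Subgroup.mem_subgroupOf] at h2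
    rw [Finset.card_univ, hP9, h2] at h1
    rw [hout]
    omega
  have hdvd := dvd_sum_inf_centralizer hPQ
  rw [card_sylow3 hG P] at hdvd
  have hsum : (∑ p : (P : Subgroup G), Nat.card (Q ⊓ Subgroup.centralizer ({(p : G)} : Set G) : Subgroup G)) +
      3 * bad.card = 96 := by
    have hb : 3 * bad.card = ∑ p : (P : Subgroup G), if (p : G) ≠ 1 ∧ ¬ Rel L.z p then 3 else 0 := by
      rw [← Finset.sum_filter, ← hbad, Finset.sum_const, smul_eq_mul, mul_comm]
    rw [hb, ← Finset.sum_add_distrib]
    rw [Finset.sum_eq_add_sum_sdiff_singleton_of_mem (Finset.mem_univ (1 : (P : Subgroup G))),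
      Finset.sum_congr rfl (g := fun _ => 4)]
    · have h1 : (Q ⊓ Subgroup.centralizer ({((1 : (P : Subgroup G)) : G)} : Set G) : Subgroup G) = Q := by
        refine inf_eq_left.mpr fun x _ => Subgroup.mem_centralizer_singleton_iff.mpr ?_
        simp
      rw [h1, hQ, Finset.sum_const, smul_eq_mul, Finset.card_sdiff]
      simp [hP9]
    · intro p hp
      have hp1 : (p : G) ≠ 1 := fun e => (Finset.mem_sdiff.mp hp).2 (Finset.mem_singleton.mpr (Subtype.ext e))
      rw [hfix p hp1]
      by_cases hr : Rel L.z p <;> simp [hr, hp1]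
  have h6 := Finset.card_le_card hsub
  have hb25 : bad.card = 2 ∨ bad.card = 5 := by
    obtain ⟨k, hk⟩ := hdvd
    omega
  have hinv : ∀ p : (P : Subgroup G), p ∈ bad → p⁻¹ ∈ bad := fun p hp => by
    simp only [hbad, Finset.mem_filter, Finset.mem_univ, true_and, InvMemClass.coe_inv] at hp ⊢
    exact ⟨fun e => hp.1 (inv_eq_one.mp e), fun hr => hp.2 hr.of_inv⟩
  have hne : ∀ p : (P : Subgroup G), (p : G) ≠ 1 → p⁻¹ ≠ p := fun p hp e => hp (by
    have e2 : (p : G)⁻¹ = p := congrArg Subtype.val e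
    have h2 : (p : G) * p = 1 := by nth_rw 1 [← e2]; exact inv_mul_cancel _
    have h3 := T.pow_three hG p.2
    rwa [pow_succ, pow_two, h2, one_mul] at h3)
  have hb2 : bad.card = 2 := by
    refine hb25.resolve_right fun h5 => ?_
    obtain ⟨p, hp⟩ := Finset.card_eq_one.mp (show (out \ bad).card = 1 by
      rw [Finset.card_sdiff, Finset.inter_eq_left.mpr hsub, hout6, h5])
    have hp' : p ∈ out \ bad := hp ▸ Finset.mem_singleton_self p
    have hpi : p⁻¹ ∈ out \ bad := by
      simp only [hout, Finset.mem_sdiff, Finset.mem_filter, Finset.mem_univ, true_and, InvMemClass.coe_inv] at hp' ⊢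
      exact ⟨fun e => hp'.1 (by simpa using inv_mem e), fun e => hp'.2 (by simpa using hinv _ e)⟩
    rw [hp, Finset.mem_singleton] at hpi
    refine hne p (fun e => ?_) hpi
    simp only [hout, Finset.mem_sdiff, Finset.mem_filter, Finset.mem_univ, true_and] at hp'
    exact hp'.1 (e ▸ one_mem _)
  obtain ⟨D, hD⟩ := Finset.card_pos.mp (show 0 < bad.card by omega)
  have hD' := hD
  simp only [hbad, Finset.mem_filter, Finset.mem_univ, true_and] at hD'
  have hEq : bad = {D, D⁻¹} := by
    refine (Finset.eq_of_subset_of_card_le ?_ ?_).symm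
    · intro p hp
      rcases Finset.mem_insert.mp hp with rfl | hp
      · exact hD
      · exact Finset.mem_singleton.mp hp ▸ hinv D hD
    · rw [Finset.card_pair (hne D hD'.1).symm, hb2]
  refine ⟨D, D.2, fun hm => hD'.2 (hrelz _ hm hD'.1), fun p hp hp1 => ?_⟩
  have h1 : (⟨p, hp⟩ : (P : Subgroup G)) ∈ bad ↔ ¬ Rel L.z p := by simp [hbad, hp1]
  rw [← h1, hEq, Finset.mem_insert, Finset.mem_singleton, Subtype.ext_iff, Subtype.ext_iff]
  rfl

end Loc

end CfsgSimpleM22
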