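/-
The centraliser of an involution does not normalise the four-group.
-/
import Cfsg.Agent.Lib.SimpleM22.FourLocal

set_option autoImplicit false
set_option linter.style.haveILetI false
set_option linter.unusedSectionVars false

namespace CfsgSimpleM22

open Cfsg CfsgLib.CharTheory CfsgLib.Blocks CfsgSimpleM11

universe u
variable {G : Type u} [Group G] [Fintype G]

theorem Tbl.exists_loc_at (T : Tbl G) (hG : IsM22 G) {a : G} (ha : orderOf a = 3) : ∃ L : Loc G, L.z = a := by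
  obtain ⟨F, h1, h2, h3, h4, h5⟩ := T.exists_four hG ha
  obtain ⟨t, htF, ht⟩ := exists_order (K := F) Nat.prime_two (show 2 ∣ Nat.card F by rw [h1]; norm_num)
  exact ⟨⟨a, t, F, ha, ht, htF, h1, h2, h3, h4, h5⟩, rfl⟩

namespace Loc

variable (L : Loc G) (T : Tbl G) (hG : IsM22 G)
include T hG

theorem not_normalised : ¬ L.Normalised := by
  classical
  intro h
  haveI : Fact (Nat.Prime 3) := ⟨Nat.prime_three⟩
  obtain ⟨P, hzP⟩ := (IsPGroup.of_card (n := 1) (show Nat.card (Subgroup.zpowers L.z) = 3 ^ 1 by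
    rw [Nat.card_zpowers, L.hz, pow_one])).exists_le_sylow
  have hzP' : L.z ∈ (P : Subgroup G) := hzP (Subgroup.mem_zpowers L.z)
  have hord : ∀ a ∈ (P : Subgroup G), a ≠ 1 → orderOf a = 3 := fun a ha ha1 =>
    orderOf_eq_prime (T.pow_three hG ha) ha1
  have hloc : ∀ a ∈ (P : Subgroup G), a ≠ 1 → ∃ D ∈ (P : Subgroup G), D ∉ Subgroup.zpowers a ∧
      ∀ p ∈ (P : Subgroup G), p ≠ 1 → (¬ Rel a p ↔ p = D ∨ p = D⁻¹) := fun a ha ha1 => by
    obtain ⟨L', hL'⟩ := T.exists_loc_at hG (hord a ha ha1)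
    subst hL'
    exact L'.bad_pair T hG (L.normalised_all T hG h L') ha
  have hz1 : L.z ≠ 1 := fun e => by have := L.hz; rw [e, orderOf_one] at this; norm_num at this
  obtain ⟨D, hDP, hDz, hD⟩ := hloc L.z hzP' hz1
  have hD1 : D ≠ 1 := fun e => hDz (e ▸ one_mem _)
  -- the only element unrelated to `D` is `z`
  obtain ⟨Z, hZP, hZD, hZ⟩ := hloc D hDP hD1
  have hzD : ¬ Rel L.z D := (hD D hDP hD1).2 (Or.inl rfl)
  have hzZ : L.z = Z ∨ L.z = Z⁻¹ := (hZ L.z hzP' hz1).1 fun hr => hzD hr.symm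
  have hsix : ∃ A ∈ (P : Subgroup G), A ≠ 1 ∧ A ≠ L.z ∧ A ≠ L.z⁻¹ ∧ A ≠ D ∧ A ≠ D⁻¹ := by
    by_contra hne
    push Not at hne
    have hsub : ((P : Subgroup G) : Set G).toFinset ⊆ {1, L.z, L.z⁻¹, D, D⁻¹} := fun x hx => by
      rw [Set.mem_toFinset] at hx
      simp only [Finset.mem_insert, Finset.mem_singleton]
      by_contra hc
      simp only [not_or] at hc
      exact hc.2.2.2.2 (hne x hx hc.1 hc.2.1 hc.2.2.1 hc.2.2.2.1)
    have := (Finset.card_le_card hsub).trans Finset.card_le_five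
    rw [Set.toFinset_card, ← Nat.card_eq_fintype_card,
      show Nat.card ((P : Subgroup G) : Set G) = 9 from card_sylow3 hG P] at this
    omega
  obtain ⟨A, hAP, hA1, hAz, hAz', hAD, hAD'⟩ := hsix
  have hRzA : Rel L.z A := by_contra fun hr => ((hD A hAP hA1).1 hr).elim hAD hAD'
  have hRDA : Rel D A := by_contra fun hr => by
    have hA' := (hZ A hAP hA1).1 hr
    rcases hzZ with e | e
    · exact hA'.elim (fun e' => hAz (e'.trans e.symm)) (fun e' => hAz' (by rw [e', e]))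
    · exact hA'.elim (fun e' => hAz' (by rw [e', e, inv_inv])) (fun e' => hAz (e'.trans e.symm))
  obtain ⟨B, hBP, hBA, hB⟩ := hloc A hAP hA1
  have hB1 : B ≠ 1 := fun e => hBA (e ▸ one_mem _)
  have hAB : ¬ Rel A B := (hB B hBP hB1).2 (Or.inl rfl)
  have hRzB : Rel L.z B := by_contra fun hr => by
    rcases (hD B hBP hB1).1 hr with e | e
    · exact hAB (e ▸ hRDA.symm)
    · exact hAB (e ▸ hRDA.symm.inv)
  have hRDB : Rel D B := by_contra fun hr => by
    have hB' := (hZ B hBP hB1).1 hr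
    have hBz : B = L.z ∨ B = L.z⁻¹ := by
      rcases hzZ with e | e
      · rw [e]; exact hB'
      · rw [e, inv_inv]; exact hB'.symm
    rcases hBz with e | e
    · exact hAB (e ▸ hRzA.symm)
    · exact hAB (e ▸ hRzA.symm.inv)
  -- four-groups
  obtain ⟨FA, hA4, hAle, hAn, hAsq, hAall⟩ := T.exists_four hG (hord A hAP hA1)
  obtain ⟨FB, hB4, hBle, hBn, hBsq, hBall⟩ := T.exists_four hG (hord B hBP hB1)
  obtain ⟨FD, hD4, hDle, hDn, hDsq, hDall⟩ := T.exists_four hG (hord D hDP hD1)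
  have hrel : ∀ {a b : G} {X Y : Subgroup G}, Rel a b → X ≤ Subgroup.centralizer ({a} : Set G) →
      (∀ x ∈ X, x * x = 1) → Y ≤ Subgroup.centralizer ({b} : Set G) → (∀ y ∈ Y, y * y = 1) →
      Y ≤ Subgroup.centralizer (X : Set G) :=
    fun hr hX hX2 hY hY2 y hy => Subgroup.mem_centralizer_iff.mpr fun x hx =>
      (hr x (hX2 x hx) (Subgroup.mem_centralizer_singleton_iff.mp (hX hx)) y (hY2 y hy)
        (Subgroup.mem_centralizer_singleton_iff.mp (hY hy))).eq
  have hzFA := hrel hRzA L.F_le L.F_sq hAle hAsq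
  have hzFB := hrel hRzB L.F_le L.F_sq hBle hBsq
  have hnotAB : ¬ (FB ≤ Subgroup.centralizer (FA : Set G)) := fun hle => hAB fun x hx hxA y hy hyB =>
    Subgroup.mem_centralizer_iff.mp (hle (hBall y (Subgroup.mem_centralizer_singleton_iff.mpr hyB.eq) hy)) x
      (hAall x (Subgroup.mem_centralizer_singleton_iff.mpr hxA.eq) hx)
  set R := FA ⊔ FB with hR
  have hRK : R ≤ Subgroup.centralizer (L.F : Set G) := sup_le hzFA hzFB
  have hRD : R ≤ Subgroup.centralizer (FD : Set G) :=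
    sup_le (hrel hRDA hDle hDsq hAle hAsq) (hrel hRDB hDle hDsq hBle hBsq)
  have hPC : ∀ {a : G}, a ∈ (P : Subgroup G) → (P : Subgroup G) ≤ Subgroup.centralizer ({a} : Set G) :=
    fun ha => T.le_cent_three hG ha
  have hPR : ∀ p ∈ (P : Subgroup G), ∀ s ∈ R, p * s * p⁻¹ ∈ R := fun p hp s hs => by
    have hmap : R.map (MulAut.conj p).toMonoidHom ≤ R := by
      rw [hR, Subgroup.map_sup]
      refine sup_le_sup ?_ ?_
      · rintro _ ⟨x, hx, rfl⟩
        exact (Subgroup.mem_normalizer_iff.mp (hAn (hPC hAP hp)) x).mp hx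
      · rintro _ ⟨x, hx, rfl⟩
        exact (Subgroup.mem_normalizer_iff.mp (hBn (hPC hBP hp)) x).mp hx
    exact hmap ⟨s, hs, rfl⟩
  have hz3 : L.z ^ 3 = 1 := L.hz ▸ pow_orderOf_eq_one L.z
  have hAnz : A ∉ Subgroup.zpowers L.z := fun hm => by
    have h3 : Nat.card (Subgroup.zpowers L.z) = 3 := by rw [Nat.card_zpowers, L.hz]
    have hsub : ({A, 1, L.z, L.z⁻¹} : Finset G) ⊆ (Subgroup.zpowers L.z : Set G).toFinset := by
      intro g hg
      simp only [Finset.mem_insert, Finset.mem_singleton] at hg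
      rw [Set.mem_toFinset]
      rcases hg with rfl | rfl | rfl | rfl
      exacts [hm, one_mem (Subgroup.zpowers L.z), Subgroup.mem_zpowers L.z, Subgroup.inv_mem _ (Subgroup.mem_zpowers L.z)]
    have hzi : L.z ≠ L.z⁻¹ := fun e => by
      have h2 : L.z * L.z = 1 := by nth_rw 2 [e]; exact mul_inv_cancel _
      rw [pow_succ, pow_two, h2, one_mul] at hz3
      exact hz1 hz3
    have := Finset.card_le_card hsub
    rw [Set.toFinset_card, ← Nat.card_eq_fintype_card, show Nat.card (Subgroup.zpowers L.z : Set G) = 3 from h3,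
      Finset.card_insert_of_notMem (by simp [hA1, hAz, hAz']),
      Finset.card_insert_of_notMem (by simp [hz1, hz1.symm]),
      Finset.card_insert_of_notMem (by simpa using hzi), Finset.card_singleton] at this
    omega
  -- the group generated by the two four-groups meets the first trivially
  have hRF : ∀ y ∈ L.F, y ∈ R → y = 1 := by
    by_contra hne
    push Not at hne
    obtain ⟨y, hyF, hyR, hy1⟩ := hne
    have hA3 : A ^ 3 = 1 := T.pow_three hG hAP
    have hm := subgroup_mod_three (H := L.F ⊓ R) (K := (⊥ : Subgroup G)) hA3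
      (fun s hs => ⟨(Subgroup.mem_normalizer_iff.mp (L.F_norm (hPC hzP' hAP)) s).mp hs.1, hPR A hAP s hs.2⟩)
      (fun s => by
        rw [Subgroup.mem_bot]
        refine ⟨by rintro rfl; exact ⟨one_mem _, Commute.one_left _⟩, fun hs => by_contra fun hs1 => ?_⟩
        exact T.fixes_none hG L.hz hzP' hAP hAnz (L.orderOf_F hs.1.1 hs1) (L.z_comm hs.1.1) hs.2)
    rw [Subgroup.card_bot] at hm
    have hd : Nat.card (L.F ⊓ R : Subgroup G) ∣ 2 ^ 2 := (Subgroup.card_dvd_of_le inf_le_left).trans (dvd_of_eq L.card_F)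
    have h2 : 1 < Nat.card (L.F ⊓ R : Subgroup G) := (Subgroup.one_lt_card_iff_ne_bot _).mpr fun e =>
      hy1 (Subgroup.mem_bot.mp (e ▸ (⟨hyF, hyR⟩ : y ∈ L.F ⊓ R)))
    obtain ⟨i, hi, e⟩ := (Nat.dvd_prime_pow Nat.prime_two).1 hd
    rw [e] at hm h2
    interval_cases i <;> first | (norm_num at hm; done) | (norm_num at h2; done) | skip
    have hFR : L.F ≤ R := (Subgroup.eq_of_le_of_card_ge (inf_le_left : L.F ⊓ R ≤ L.F) (by rw [L.card_F, e]; norm_num)) ▸
      inf_le_right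
    exact hzD fun x hx hxz w hw hwD => (Subgroup.mem_centralizer_iff.mp
      (hRD (hFR (L.mem_F_iff.mpr ⟨hx, hxz⟩))) w (hDall w (Subgroup.mem_centralizer_singleton_iff.mpr hwD.eq) hw)).symm
  obtain ⟨Q, hQ, -, -, hFQ, hQfix, hmemQ⟩ := L.exists_QK T hG h
  have hinQ : ∀ {X : Subgroup G}, X ≤ Subgroup.centralizer (L.F : Set G) → (∀ x ∈ X, x * x = 1) → X ≤ Q :=
    fun hX hX2 x hx => hmemQ x (hX hx) (pow_of_sq (hX2 x hx) 32)
  have hRQ : R ≤ Q := sup_le (hinQ hzFA hAsq) (hinQ hzFB hBsq)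
  -- its order
  have hR16' : Nat.card R ≤ 16 := by
    have := (card_mul_le hFQ hRQ hRF).1
    rw [L.card_F, hQ] at this
    omega
  have hfixR : ∀ s : G, s ∈ (⊥ : Subgroup G) ↔ s ∈ R ∧ Commute s L.z := fun s => by
    rw [Subgroup.mem_bot]
    exact ⟨by rintro rfl; exact ⟨one_mem _, Commute.one_left _⟩, fun hs => hRF s (hQfix s (hRQ hs.1) hs.2) hs.1⟩
  have hmR := subgroup_mod_three (H := R) hz3 (hPR L.z hzP') hfixR
  rw [Subgroup.card_bot] at hmR
  have hdR : Nat.card R ∣ 2 ^ 6 := (Subgroup.card_dvd_of_le hRQ).trans (dvd_of_eq hQ)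
  have h4R : 4 ≤ Nat.card R := hA4 ▸ Subgroup.card_le_of_le le_sup_left
  have hR16 : Nat.card R = 16 := by
    obtain ⟨i, hi, e⟩ := (Nat.dvd_prime_pow Nat.prime_two).1 hdR
    rw [e] at hmR hR16' h4R ⊢
    interval_cases i <;> first | (norm_num at hmR; done) | (norm_num at hR16'; done) | (norm_num at h4R; done) | (norm_num; done) | skip
    -- order four would make the two four-groups equal
    have h1 : FA = R := Subgroup.eq_of_le_of_card_ge le_sup_left (by rw [hA4, e]; norm_num)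
    refine absurd ?_ hnotAB; refine (le_trans (le_trans le_sup_right h1.ge) ?_)
    exact fun a ha => Subgroup.mem_centralizer_iff.mpr fun b hb => by
      have hi : ∀ x ∈ FA, x⁻¹ = x := fun x hx => inv_eq_of_mul_eq_one_right (hAsq x hx)
      rw [← hi _ (FA.mul_mem hb ha), mul_inv_rev, hi a ha, hi b hb]
  -- its centre
  set Z := R ⊓ Subgroup.centralizer (R : Set G) with hZ
  haveI : Fact (Nat.Prime 2) := ⟨Nat.prime_two⟩
  haveI : Nontrivial R := Finite.one_lt_card_iff_nontrivial.mp (by omega)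
  haveI := (IsPGroup.of_card (n := 4) (show Nat.card R = 2 ^ 4 by rw [hR16]; norm_num)).center_nontrivial
  have hZ1 : 1 < Nat.card Z := by
    obtain ⟨⟨c, hc⟩, hc1⟩ := exists_ne (1 : Subgroup.center R)
    refine (Subgroup.one_lt_card_iff_ne_bot _).mpr fun e => hc1 ?_
    have : (c : G) ∈ Z := ⟨c.2, Subgroup.mem_centralizer_iff.mpr fun r hr =>
      congrArg Subtype.val (Subgroup.mem_center_iff.mp hc ⟨r, hr⟩)⟩
    rw [e, Subgroup.mem_bot] at this
    exact Subtype.ext (Subtype.ext this)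
  have hZz : ∀ s ∈ Z, L.z * s * L.z⁻¹ ∈ Z := fun s hs => by
    refine ⟨hPR L.z hzP' s hs.1, Subgroup.mem_centralizer_iff.mpr fun r hr => ?_⟩
    have hr' := hPR L.z⁻¹ (inv_mem hzP') r hr
    have e := Subgroup.mem_centralizer_iff.mp hs.2 _ hr'
    calc r * (L.z * s * L.z⁻¹) = L.z * ((L.z⁻¹ * r * L.z⁻¹⁻¹) * s) * L.z⁻¹ := by group
      _ = L.z * (s * (L.z⁻¹ * r * L.z⁻¹⁻¹)) * L.z⁻¹ := by rw [e]
      _ = L.z * s * L.z⁻¹ * r := by group
  have hmZ := subgroup_mod_three (H := Z) hz3 hZz (fun s => ⟨fun hs => by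
    rw [Subgroup.mem_bot] at hs; subst hs; exact ⟨one_mem _, Commute.one_left _⟩, fun hs => (hfixR s).2 ⟨hs.1.1, hs.2⟩⟩)
  rw [Subgroup.card_bot] at hmZ
  have hdZ : Nat.card Z ∣ 2 ^ 4 := by
    have := Subgroup.card_dvd_of_le (inf_le_left : Z ≤ R)
    rwa [hR16] at this
  obtain ⟨i, hi, e⟩ := (Nat.dvd_prime_pow Nat.prime_two).1 hdZ
  rw [e] at hmZ hZ1
  have hFAR : FA ≤ R := le_sup_left
  have hFBR : FB ≤ R := le_sup_right
  interval_cases i <;> first | (norm_num at hmZ; done) | (norm_num at hZ1; done) | skip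
  · -- centre of order four
    have hZA : ∀ x ∈ Z, x ∈ FA → x = 1 := by
      by_contra hne
      push Not at hne
      obtain ⟨x, hxZ, hxA, hx1⟩ := hne
      have hm := subgroup_mod_three (H := Z ⊓ FA) hz3
        (fun s hs => ⟨hZz s hs.1, (Subgroup.mem_normalizer_iff.mp (hAn (hPC hAP hzP')) s).mp hs.2⟩)
        (fun s => ⟨fun hs => by
          rw [Subgroup.mem_bot] at hs; subst hs; exact ⟨one_mem _, Commute.one_left _⟩,
          fun hs => (hfixR s).2 ⟨hs.1.1.1, hs.2⟩⟩)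
      rw [Subgroup.card_bot] at hm
      have hd : Nat.card (Z ⊓ FA : Subgroup G) ∣ 2 ^ 2 := (Subgroup.card_dvd_of_le inf_le_right).trans (dvd_of_eq hA4)
      have h2 : 1 < Nat.card (Z ⊓ FA : Subgroup G) := (Subgroup.one_lt_card_iff_ne_bot _).mpr fun e =>
        hx1 (Subgroup.mem_bot.mp (e ▸ (⟨hxZ, hxA⟩ : x ∈ Z ⊓ FA)))
      obtain ⟨j, hj, ej⟩ := (Nat.dvd_prime_pow Nat.prime_two).1 hd
      rw [ej] at hm h2
      interval_cases j <;> first | (norm_num at hm; done) | (norm_num at h2; done) | skip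
      have hAZ : FA ≤ Z := (Subgroup.eq_of_le_of_card_ge (inf_le_right : Z ⊓ FA ≤ FA) (by rw [hA4, ej]; norm_num)) ▸
        inf_le_left
      exact hnotAB fun b hb => Subgroup.mem_centralizer_iff.mpr fun a ha =>
        (Subgroup.mem_centralizer_iff.mp (hAZ ha).2 b (hFBR hb)).symm
    refine hnotAB fun b hb => Subgroup.mem_centralizer_iff.mpr fun a ha => ?_
    obtain ⟨c, hc, a', ha', rfl⟩ := (card_mul_le inf_le_left hFAR hZA).2 (by rw [e, hA4, hR16]; norm_num) b (hFBR hb)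
    have e1 : a * c = c * a := Subgroup.mem_centralizer_iff.mp hc.2 a (hFAR ha)
    have hinv : ∀ x ∈ FA, x⁻¹ = x := fun x hx => inv_eq_of_mul_eq_one_right (hAsq x hx)
    have e2 : a * a' = a' * a := by rw [← hinv _ (FA.mul_mem ha ha'), mul_inv_rev, hinv a ha, hinv a' ha']
    rw [← mul_assoc, e1, mul_assoc, e2, mul_assoc]
  · -- abelian
    have hZR : Z = R := Subgroup.eq_of_le_of_card_ge inf_le_left (by rw [hR16, e]; norm_num)
    exact hnotAB fun b hb => Subgroup.mem_centralizer_iff.mpr fun a ha =>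
      (Subgroup.mem_centralizer_iff.mp (hZR ▸ hFBR hb : b ∈ Z).2 a (hFAR ha))

end Loc

end CfsgSimpleM22
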