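/-
An elementary abelian subgroup of order 16 whose normaliser has index 77.
-/
import Cfsg.Agent.Lib.SimpleM22.NotNormalised

set_option autoImplicit false
set_option linter.style.haveILetI false
set_option linter.unusedSectionVars false

namespace CfsgSimpleM22

open Cfsg CfsgLib.CharTheory CfsgLib.Blocks CfsgSimpleM11

universe u
variable {G : Type u} [Group G] [Fintype G]

/-- A subgroup acting freely by multiplication divides the size of an invariant set. -/
theorem dvd_card_of_mul_mem {F : Subgroup G} {S : Set G} (h : ∀ f ∈ F, ∀ s ∈ S, f * s ∈ S) :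
    Nat.card F ∣ Nat.card S := by
  classical
  letI : MulAction F S :=
    { smul := fun f s => ⟨f.1 * s.1, h f.1 f.2 s.1 s.2⟩
      one_smul := fun s => Subtype.ext (one_mul s.1)
      mul_smul := fun a b s => Subtype.ext (mul_assoc a.1 b.1 s.1) }
  have hfree : ∀ s : S, MulAction.stabilizer F s = ⊥ := fun s => eq_bot_iff.mpr fun f hf => by
    have e : f.1 * s.1 = s.1 := congrArg Subtype.val hf
    exact Subgroup.mem_bot.mpr (Subtype.ext (mul_eq_right.mp e))
  rw [Nat.card_congr (MulAction.selfEquivOrbitsQuotientProd hfree), Nat.card_prod]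
  exact dvd_mul_left _ _

namespace Loc

variable (L : Loc G) (T : Tbl G) (hG : IsM22 G)
include T hG

/-- A subgroup containing the normal two-subgroup, `z` and an element inverting `z` is the whole centraliser. -/
theorem eq_cent {Q S : Subgroup G} (hQ : Nat.card Q = 64)
    (hQn : Subgroup.centralizer ({L.t} : Set G) ≤ Subgroup.normalizer (Q : Set G))
    (hS : S ≤ Subgroup.centralizer ({L.t} : Set G)) (hQS : Q ≤ S) (hzS : L.z ∈ S) {g : G} (hg : g ∈ S)
    (hgz : g * L.z * g⁻¹ = L.z⁻¹) : S = Subgroup.centralizer ({L.t} : Set G) := by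
  refine Subgroup.eq_of_le_of_card_ge hS ?_
  rw [show Nat.card (Subgroup.centralizer ({L.t} : Set G)) = 384 from T.cc_two hG L.ht]
  by_contra hlt
  have hd : Nat.card S ∣ 384 := T.cc_two hG L.ht ▸ Subgroup.card_dvd_of_le hS
  have h192 : 192 ∣ Nat.card S := by
    refine Nat.Coprime.mul_dvd_of_dvd_of_dvd (by norm_num : Nat.Coprime 64 3) (hQ ▸ Subgroup.card_dvd_of_le hQS) ?_
    exact L.hz ▸ Subgroup.orderOf_dvd_natCard _ hzS
  have hpos : 0 < Nat.card S := Nat.card_pos
  have hS192 : Nat.card S = 192 := by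
    obtain ⟨k, hk⟩ := h192
    have : k < 2 := by omega
    omega
  haveI : (Q.subgroupOf S).Normal := (Subgroup.normal_subgroupOf_iff_le_normalizer hQS).mpr (hS.trans hQn)
  have hq : Nat.card (S ⧸ Q.subgroupOf S) = 3 := by
    have h2 := (Q.subgroupOf S).card_mul_index
    rw [Nat.card_congr (Subgroup.subgroupOfEquivOfLe hQS).toEquiv, hQ, hS192] at h2
    show (Q.subgroupOf S).index = 3
    omega
  haveI : Fact (Nat.Prime 3) := ⟨Nat.prime_three⟩
  haveI : IsCyclic (S ⧸ Q.subgroupOf S) := isCyclic_of_prime_card (p := 3) hq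
  letI := IsCyclic.commGroup (α := S ⧸ Q.subgroupOf S)
  set gs : S := ⟨g, hg⟩
  set zs : S := ⟨L.z, hzS⟩
  have e2 := congrArg (QuotientGroup.mk' (Q.subgroupOf S)) (show gs * zs * gs⁻¹ = zs⁻¹ from Subtype.ext hgz)
  rw [map_mul, map_mul, map_inv, map_inv, mul_comm (QuotientGroup.mk' _ gs), mul_inv_cancel_right] at e2
  have h2 : QuotientGroup.mk' (Q.subgroupOf S) (zs * zs) = 1 := by
    rw [map_mul]; nth_rw 2 [e2]; exact mul_inv_cancel _
  rw [QuotientGroup.mk'_apply, QuotientGroup.eq_one_iff, Subgroup.mem_subgroupOf] at h2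
  have hd := Subgroup.orderOf_dvd_natCard _ h2
  rw [hQ] at hd
  change orderOf (L.z * L.z) ∣ 64 at hd
  rw [show orderOf (L.z * L.z) = 3 by rw [← pow_two, orderOf_pow, L.hz]; norm_num] at hd
  norm_num at hd

/-- The elementary abelian subgroup of order 16. -/
theorem exists_sixteen (hnot : ¬ L.Normalised) : ∃ E : Subgroup G, Nat.card E = 16 ∧ (∀ e ∈ E, e * e = 1) ∧
    L.F ≤ E ∧ Subgroup.centralizer ({L.t} : Set G) ≤ Subgroup.normalizer (E : Set G) ∧
      Subgroup.normalizer (L.F : Set G) ≤ Subgroup.normalizer (E : Set G) ∧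
        Nat.card (Subgroup.centralizer (L.F : Set G)) = 48 := by
  classical
  haveI : Fact (Nat.Prime 2) := ⟨Nat.prime_two⟩
  haveI : Fact (Nat.Prime 3) := ⟨Nat.prime_three⟩
  obtain ⟨Q, hQ, hQC, hQn, hFQ, hQfix⟩ := L.exists_Q T hG
  obtain ⟨g, hgC, hgz, hgN⟩ := L.exists_invert T hG
  set C := Subgroup.centralizer ({L.t} : Set G) with hC
  set K := Subgroup.centralizer (L.F : Set G) with hK
  have hz3 : L.z ^ 3 = 1 := L.hz ▸ pow_orderOf_eq_one L.z
  have hKC : K ≤ C := fun x hx =>
    Subgroup.mem_centralizer_singleton_iff.mpr (Subgroup.mem_centralizer_iff.mp hx _ L.htF).symm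
  have hFK : L.F ≤ K := fun a ha => Subgroup.mem_centralizer_iff.mpr fun b hb => (L.F_comm hb ha).eq
  have hzK : L.z ∈ K := L.M_cent (le_sup_right (a := L.F) (Subgroup.mem_zpowers L.z))
  have hzN : L.z ∈ Subgroup.normalizer (L.F : Set G) :=
    L.F_norm (Subgroup.mem_centralizer_singleton_iff.mpr rfl)
  have hKN : K ≤ Subgroup.normalizer (L.F : Set G) := fun x hx => mem_normalizer_of_maps fun y hy => by
    rw [← Subgroup.mem_centralizer_iff.mp hx y hy, mul_inv_cancel_right]; exact hy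
  have hNK : Subgroup.normalizer (L.F : Set G) ≤ Subgroup.normalizer (K : Set G) := fun n hn =>
    mem_normalizer_of_maps fun x hx => Subgroup.mem_centralizer_iff.mpr fun y hy => by
      have hy' := (Subgroup.mem_normalizer_iff''.mp hn y).mp hy
      have e := Subgroup.mem_centralizer_iff.mp hx _ hy'
      calc y * (n * x * n⁻¹) = n * ((n⁻¹ * y * n) * x) * n⁻¹ := by group
        _ = n * (x * (n⁻¹ * y * n)) * n⁻¹ := by rw [e]
        _ = n * x * n⁻¹ * y := by group
  set E := Q ⊓ K with hE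
  have hFE : L.F ≤ E := le_inf hFQ hFK
  have hEfix : ∀ s : G, s ∈ L.F ↔ s ∈ E ∧ Commute s L.z := fun s =>
    ⟨fun hs => ⟨hFE hs, L.z_comm hs⟩, fun hs => hQfix s hs.1.1 hs.2⟩
  have hzE : ∀ s ∈ E, L.z * s * L.z⁻¹ ∈ E := fun s hs =>
    ⟨(Subgroup.mem_normalizer_iff.mp (hQn L.z_mem) s).mp hs.1,
      Subgroup.mul_mem _ (Subgroup.mul_mem _ hzK hs.2) (Subgroup.inv_mem _ hzK)⟩
  -- order sixteen
  have hE64 : Nat.card E ≠ 64 := fun e => hnot (by
    have hQK : Q ≤ K := inf_eq_left.mp (Subgroup.eq_of_le_of_card_ge (inf_le_left : E ≤ Q) (by rw [hQ, e]))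
    have hS := L.eq_cent T hG (S := C ⊓ Subgroup.normalizer (L.F : Set G)) hQ hQn inf_le_left
      (le_inf hQC (hQK.trans hKN)) ⟨L.z_mem, hzN⟩ ⟨hgC, hgN⟩ hgz
    exact inf_eq_left.mp hS)
  have hE4 : Nat.card E ≠ 4 := fun e => by
    have hEF : E = L.F := (Subgroup.eq_of_le_of_card_ge hFE (by rw [L.card_F, e])).symm
    set N := Q ⊓ Subgroup.normalizer (L.F : Set G) with hN
    have hm := subgroup_mod_three (H := N) (K := L.F) hz3
      (fun s hs => ⟨(Subgroup.mem_normalizer_iff.mp (hQn L.z_mem) s).mp hs.1,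
        Subgroup.mul_mem _ (Subgroup.mul_mem _ hzN hs.2) (Subgroup.inv_mem _ hzN)⟩)
      (fun s => ⟨fun hs => ⟨⟨hFQ hs, hKN (hFK hs)⟩, L.z_comm hs⟩, fun hs => hQfix s hs.1.1 hs.2⟩)
    rw [L.card_F] at hm
    have hsup : N ⊓ K = E := le_antisymm (fun x hx => ⟨hx.1.1, hx.2⟩) (fun x hx => ⟨⟨hx.1, hKN hx.2⟩, hx.2⟩)
    have hle : Nat.card N = 4 := by
      by_cases hNK' : N ≤ K
      · rw [inf_eq_left.mpr hNK'] at hsup
        rw [hsup, e]
      · obtain ⟨a, ha, ha'⟩ := SetLike.not_le_iff_exists.mp hNK'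
        have := L.card_two_mul T hG (inf_le_right : N ≤ _) (inf_le_left.trans hQC) ha ha'
        rw [← hK, hsup, e] at this
        exfalso; rw [this] at hm; norm_num at hm
    -- proper subgroups of a two-group are not self-normalising
    haveI : Group.IsNilpotent Q := (IsPGroup.of_card (n := 6) (show Nat.card Q = 2 ^ 6 by rw [hQ]; norm_num)).isNilpotent
    have hlt : L.F.subgroupOf Q < ⊤ := lt_top_iff_ne_top.mpr fun h => by
      have := Subgroup.card_dvd_of_le (Subgroup.subgroupOf_eq_top.mp h)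
      rw [hQ, L.card_F] at this
      norm_num at this
    have hnc := Group.normalizerCondition_of_isNilpotent (G := Q) _ hlt
    obtain ⟨x, hx, hx'⟩ := SetLike.exists_of_lt hnc
    rw [← Subgroup.subgroupOf_normalizer_eq hFQ] at hx
    have hNF : L.F = N := Subgroup.eq_of_le_of_card_ge (le_inf hFQ (hFK.trans hKN)) (by rw [hle, L.card_F])
    exact hx' (by rw [Subgroup.mem_subgroupOf, hNF]; exact ⟨x.2, hx⟩)
  have hEcard : Nat.card E = 16 := by
    have hm := subgroup_mod_three (H := E) (K := L.F) hz3 hzE hEfix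
    rw [L.card_F] at hm
    have h4 := Subgroup.card_le_of_le hFE
    rw [L.card_F] at h4
    have hd : Nat.card E ∣ 2 ^ 6 := (Subgroup.card_dvd_of_le inf_le_left).trans (dvd_of_eq hQ)
    obtain ⟨i, hi, e⟩ := (Nat.dvd_prime_pow Nat.prime_two).1 hd
    rw [e] at hm h4 hE64 hE4 ⊢
    interval_cases i <;> first | (norm_num at hm; done) | (norm_num at h4; done) | (norm_num at hE4; done) |
      (norm_num at hE64; done) | norm_num
  -- normality in the centraliser
  have hQE : Q ≤ Subgroup.normalizer (E : Set G) := by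
    set N := Q ⊓ Subgroup.normalizer (E : Set G) with hN
    have hzNE : L.z ∈ Subgroup.normalizer (E : Set G) := mem_normalizer_of_maps hzE
    have hEN : E ≤ N := le_inf inf_le_left Subgroup.le_normalizer
    have hm := subgroup_mod_three (H := N) (K := L.F) hz3
      (fun s hs => ⟨(Subgroup.mem_normalizer_iff.mp (hQn L.z_mem) s).mp hs.1,
        Subgroup.mul_mem _ (Subgroup.mul_mem _ hzNE hs.2) (Subgroup.inv_mem _ hzNE)⟩)
      (fun s => ⟨fun hs => ⟨hEN (hFE hs), L.z_comm hs⟩, fun hs => hQfix s hs.1.1 hs.2⟩)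
    rw [L.card_F] at hm
    haveI : Group.IsNilpotent Q := (IsPGroup.of_card (n := 6) (show Nat.card Q = 2 ^ 6 by rw [hQ]; norm_num)).isNilpotent
    have hlt : E.subgroupOf Q < ⊤ := lt_top_iff_ne_top.mpr fun h => by
      have := Subgroup.card_dvd_of_le (Subgroup.subgroupOf_eq_top.mp h)
      rw [hQ, hEcard] at this
      norm_num at this
    have hnc := Group.normalizerCondition_of_isNilpotent (G := Q) _ hlt
    obtain ⟨x, hx, hx'⟩ := SetLike.exists_of_lt hnc
    rw [← Subgroup.subgroupOf_normalizer_eq (inf_le_left : E ≤ Q)] at hx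
    have hlt16 : 16 < Nat.card N := by
      rw [← hEcard]
      by_contra hge
      have hEq : E = N := Subgroup.eq_of_le_of_card_ge hEN (by omega)
      exact hx' (by rw [Subgroup.mem_subgroupOf, hEq]; exact ⟨x.2, hx⟩)
    have hd : Nat.card N ∣ 2 ^ 6 := (Subgroup.card_dvd_of_le inf_le_left).trans (dvd_of_eq hQ)
    obtain ⟨i, hi, e⟩ := (Nat.dvd_prime_pow Nat.prime_two).1 hd
    rw [e] at hm hlt16
    interval_cases i <;> first | (norm_num at hm; done) | (norm_num at hlt16; done) | skip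
    have hNQ : N = Q := Subgroup.eq_of_le_of_card_ge inf_le_left (by rw [hQ, e]; norm_num)
    exact hNQ ▸ inf_le_right
  have hgE : ∀ h ∈ C, h ∈ Subgroup.normalizer (L.F : Set G) → h ∈ Subgroup.normalizer (E : Set G) := fun h hh hn =>
    mem_normalizer_of_maps fun s hs => ⟨(Subgroup.mem_normalizer_iff.mp (hQn hh) s).mp hs.1,
      (Subgroup.mem_normalizer_iff.mp (hNK hn) s).mp hs.2⟩
  have hCE : C ≤ Subgroup.normalizer (E : Set G) := by
    have hS := L.eq_cent T hG (S := C ⊓ Subgroup.normalizer (E : Set G)) hQ hQn inf_le_left (le_inf hQC hQE)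
      ⟨L.z_mem, hgE _ L.z_mem hzN⟩ ⟨hgC, hgE _ hgC hgN⟩ hgz
    exact inf_eq_left.mp hS
  -- elementary
  have hFz : ∀ f ∈ L.F, ∀ s ∈ E, Commute f s := fun f hf s hs => Subgroup.mem_centralizer_iff.mp hs.2 f hf
  set I : Set G := {s | s ∈ E ∧ s * s = 1} with hI
  have hImod := card_mod_three (S := I) hz3 fun s hs => ⟨hzE s hs.1, by
    rw [show L.z * s * L.z⁻¹ * (L.z * s * L.z⁻¹) = L.z * (s * s) * L.z⁻¹ by group, hs.2, mul_one, mul_inv_cancel]⟩
  rw [show {s : G | s ∈ I ∧ Commute s L.z} = (L.F : Set G) from Set.ext fun s =>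
    ⟨fun hs => (hEfix s).2 ⟨hs.1.1, hs.2⟩, fun hs => ⟨⟨hFE hs, L.F_sq s hs⟩, L.z_comm hs⟩⟩,
    show Nat.card (L.F : Set G) = 4 from L.card_F] at hImod
  have h4I : 4 ∣ Nat.card I := by
    rw [← L.card_F]
    refine dvd_card_of_mul_mem fun f hf s hs => ⟨E.mul_mem (hFE hf) hs.1, ?_⟩
    rw [mul_assoc, ← mul_assoc s f s, ← (hFz f hf s hs.1).eq, mul_assoc f s s, hs.2, mul_one, L.F_sq f hf]
  have hI16 : Nat.card I ≤ 16 := hEcard ▸ Nat.card_mono (E : Set G).toFinite fun s hs => hs.1
  have hIge : 4 ≤ Nat.card I := L.card_F ▸ Nat.card_mono I.toFinite fun s hs => ⟨hFE hs, L.F_sq s hs⟩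
  have hI4 : Nat.card I ≠ 4 := fun e => hnot fun n hn => by
    have hIF : (L.F : Set G) = I := Set.Finite.eq_of_subset_of_card_le I.toFinite
      (fun s hs => ⟨hFE hs, L.F_sq s hs⟩) (by rw [e]; exact L.card_F.ge)
    refine mem_normalizer_of_maps fun s hs => ?_
    have hs' : n * s * n⁻¹ ∈ I := ⟨(Subgroup.mem_normalizer_iff.mp (hCE hn) s).mp (hFE hs), by
      rw [show n * s * n⁻¹ * (n * s * n⁻¹) = n * (s * s) * n⁻¹ by group, L.F_sq s hs, mul_one, mul_inv_cancel]⟩
    exact (hIF ▸ hs' : n * s * n⁻¹ ∈ (L.F : Set G))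
  have hsq : ∀ e ∈ E, e * e = 1 := by
    have hIE : I = (E : Set G) := Set.Finite.eq_of_subset_of_card_le (E : Set G).toFinite (fun s hs => hs.1)
      (by rw [show Nat.card (E : Set G) = 16 from hEcard]; omega)
    exact fun e he => ((hIE.symm ▸ he : e ∈ I)).2
  -- the centraliser of the four-group
  have hEK : E ≤ K := inf_le_right
  haveI hEKn : (E.subgroupOf K).Normal := (Subgroup.normal_subgroupOf_iff_le_normalizer hEK).mpr (hKC.trans hCE)
  set H := C ⊓ Subgroup.normalizer (L.F : Set G) with hH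
  have hH2 : Nat.card H = 2 * Nat.card K := by
    have h2 := L.card_two_mul T hG (inf_le_right : H ≤ _) inf_le_left (⟨hgC, hgN⟩ : g ∈ H) (L.invert_not_cent T hG hgz)
    rwa [← hK, inf_eq_right.mpr (le_inf hKC hKN)] at h2
  have h48 : 48 ∣ Nat.card K := by
    refine Nat.Coprime.mul_dvd_of_dvd_of_dvd (by norm_num : Nat.Coprime 16 3) (hEcard ▸ Subgroup.card_dvd_of_le hEK) ?_
    exact L.hz ▸ Subgroup.orderOf_dvd_natCard _ hzK
  have hKd : 2 * Nat.card K ∣ 384 := hH2 ▸ (T.cc_two hG L.ht) ▸ Subgroup.card_dvd_of_le inf_le_left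
  have hQH : Nat.card K ≤ 96 := by
    have hEd : Nat.card (Q.subgroupOf K) = 16 := by
      rw [← Subgroup.inf_subgroupOf_right Q K]
      rw [Nat.card_congr (Subgroup.subgroupOfEquivOfLe (inf_le_right : Q ⊓ K ≤ K)).toEquiv]
      exact hEcard
    have h6 : (Q.subgroupOf K).index ≤ 6 := by
      have h1 : Q.relIndex K ≤ Q.relIndex C :=
        Subgroup.relIndex_le_of_le_right hKC (Subgroup.index_ne_zero_of_finite (H := Q.subgroupOf C))
      have h2 := (Q.subgroupOf C).card_mul_index
      rw [Nat.card_congr (Subgroup.subgroupOfEquivOfLe hQC).toEquiv, hQ,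
        show Nat.card C = 384 from T.cc_two hG L.ht] at h2
      unfold Subgroup.relIndex at h1
      omega
    have h2 := (Q.subgroupOf K).card_mul_index
    rw [hEd] at h2
    omega
  have hK48 : Nat.card K = 48 := by
    obtain ⟨k, hk⟩ := h48
    have hpos : 0 < Nat.card K := Nat.card_pos
    have hk2 : k = 1 ∨ k = 2 := by omega
    rcases hk2 with rfl | rfl
    · omega
    exfalso
    -- a Sylow subgroup at three would have eight conjugates
    set W := (Subgroup.zpowers L.z).subgroupOf K with hW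
    have hW3 : Nat.card W = 3 := by
      rw [Nat.card_congr (Subgroup.subgroupOfEquivOfLe (Subgroup.zpowers_le.mpr hzK)).toEquiv, Nat.card_zpowers, L.hz]
    have hfac : (Nat.card K).factorization 3 = 1 := by
      rw [hk, CfsgLib.Order7920.fac_eq (k := 1) (by norm_num) (by norm_num) (by norm_num) (by norm_num)]
    set S : Sylow 3 K := Sylow.ofCard W (by rw [hW3, hfac]; norm_num) with hS
    have hidx : Nat.card (Sylow 3 K) = (Subgroup.normalizer (W : Set K)).index := S.card_eq_index_normalizer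
    have hmod := card_sylow_modEq_one 3 K
    change Nat.card (Sylow 3 K) % 3 = 1 % 3 at hmod
    have hnorm : (Subgroup.normalizer (W : Set K)).map K.subtype = L.M := by
      have hMK : L.M ≤ K := L.M_cent
      apply le_antisymm
      · rintro _ ⟨n, hn, rfl⟩
        rw [← (L.inf_cent T hG L.htF L.t_ne).1]
        refine ⟨Subgroup.mem_centralizer_singleton_iff.mpr ?_, hKC n.2⟩
        have hm : (⟨L.z, hzK⟩ : K) ∈ W := Subgroup.mem_subgroupOf.mpr (Subgroup.mem_zpowers L.z)
        have h3 := (Subgroup.mem_normalizer_iff.mp hn _).mp hm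
        rw [hW, Subgroup.mem_subgroupOf] at h3
        simp only [Subgroup.coe_mul, Subgroup.coe_inv] at h3
        obtain ⟨i, hi⟩ := Subgroup.mem_zpowers_iff.mp h3
        have h4 : L.z ^ (i % 3) = (n : G) * L.z * (n : G)⁻¹ := by
          rw [← hi, ← zpow_mod_orderOf L.z i, L.hz]; norm_num
        have hi0 := Int.emod_nonneg i (show (3 : ℤ) ≠ 0 by norm_num)
        have hi3 := Int.emod_lt_of_pos i (show (0 : ℤ) < 3 by norm_num)
        have hz1 : L.z ≠ 1 := fun e => by have := L.hz; rw [e, orderOf_one] at this; norm_num at this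
        rcases (show i % 3 = 0 ∨ i % 3 = 1 ∨ i % 3 = 2 by omega) with e | e | e <;> rw [e] at h4
        · rw [zpow_zero, eq_comm, mul_inv_eq_one, mul_eq_left] at h4
          exact absurd h4 hz1
        · rw [zpow_one] at h4
          exact (mul_inv_eq_iff_eq_mul.mp h4.symm)
        · refine absurd n.2 (L.invert_not_cent T hG ?_)
          rw [← h4, show (2 : ℤ) = ((2 : ℕ) : ℤ) from rfl, zpow_natCast]
          exact eq_inv_of_mul_eq_one_left (by rw [← pow_succ]; exact hz3)
      · intro m hm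
        refine ⟨⟨m, hMK hm⟩, mem_normalizer_of_maps fun w hw => ?_, rfl⟩
        rw [hW, Subgroup.mem_subgroupOf] at hw ⊢
        rw [← (L.inf_cent T hG L.htF L.t_ne).1] at hm
        simp only [Subgroup.coe_mul, Subgroup.coe_inv]
        obtain ⟨i, hi⟩ := Subgroup.mem_zpowers_iff.mp hw
        have hc : Commute m (w : G) := hi ▸ Commute.zpow_right (show Commute m L.z from Subgroup.mem_centralizer_singleton_iff.mp hm.1) i
        rw [hc.eq, mul_inv_cancel_right]
        exact hw
    have h12 : Nat.card (Subgroup.normalizer (W : Set K)) = 12 := by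
      rw [← Subgroup.card_map_of_injective K.subtype_injective, hnorm, (L.inf_cent T hG L.htF L.t_ne).2]
    have h2 := (Subgroup.normalizer (W : Set K)).card_mul_index
    rw [h12, ← hidx, hk] at h2
    omega
  refine ⟨E, hEcard, hsq, hFE, hCE, fun n hn => mem_normalizer_of_maps fun e he => ?_, hK48⟩
  -- the Sylow subgroup at two of the centraliser is unique
  have hx : n * e * n⁻¹ ∈ K := (Subgroup.mem_normalizer_iff.mp (hNK hn) e).mp he.2
  have hidx : (E.subgroupOf K).index = 3 := by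
    have := (E.subgroupOf K).card_mul_index
    rw [Nat.card_congr (Subgroup.subgroupOfEquivOfLe hEK).toEquiv, hEcard, hK48] at this
    omega
  have h3 := (E.subgroupOf K).pow_index_mem (⟨_, hx⟩ : K)
  rw [hidx, Subgroup.mem_subgroupOf] at h3
  have h1 : n * e * n⁻¹ * (n * e * n⁻¹) = 1 := by
    rw [show n * e * n⁻¹ * (n * e * n⁻¹) = n * (e * e) * n⁻¹ by group, hsq e he, mul_one, mul_inv_cancel]
  simpa only [SubmonoidClass.coe_pow, Subgroup.coe_pow, pow_succ, pow_zero, one_mul, Subgroup.coe_mul, h1] using h3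

/-- A subgroup of index 77. -/
theorem exists_index (hnot : ¬ L.Normalised) : ∃ H : Subgroup G, Nat.card H = 5760 := by
  classical
  obtain ⟨E, hE, hsq, hFE, hCN, hFN, hK⟩ := L.exists_sixteen T hG hnot
  obtain ⟨y, hy, hy', hall⟩ := L.exists_other T hG
  set N := Subgroup.normalizer (E : Set G) with hN
  set C := Subgroup.centralizer ({L.t} : Set G) with hC
  refine ⟨N, ?_⟩
  obtain ⟨c, hc, hcy⟩ := L.exists_move T hG hy hy'.1
  have hcN : c ∈ N := hFN (L.F_norm hc)
  -- the conjugates of the involution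
  let f : N ⧸ C.subgroupOf N → {e : G // e ∈ E ∧ e ≠ 1} := Quotient.lift
    (fun n : N => ⟨n.1 * L.t * n.1⁻¹, (Subgroup.mem_normalizer_iff.mp n.2 _).mp (hFE L.htF), fun e =>
      L.t_ne (by rwa [mul_inv_eq_one, mul_eq_left] at e)⟩)
    (fun a b hab => by
      replace hab := Subgroup.mem_subgroupOf.mp (QuotientGroup.leftRel_apply.mp hab)
      have e := Subgroup.mem_centralizer_singleton_iff.mp hab
      simp only [Subgroup.coe_mul, Subgroup.coe_inv] at e
      refine Subtype.ext ?_
      calc a.1 * L.t * a.1⁻¹ = a.1 * (L.t * (a.1⁻¹ * b.1)) * b.1⁻¹ := by group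
        _ = a.1 * ((a.1⁻¹ * b.1) * L.t) * b.1⁻¹ := by rw [e]
        _ = b.1 * L.t * b.1⁻¹ := by group)
  have hf : Function.Injective f := by
    rintro ⟨a⟩ ⟨b⟩ hab
    have e : a.1 * L.t * a.1⁻¹ = b.1 * L.t * b.1⁻¹ := congrArg Subtype.val hab
    refine Quotient.sound ((QuotientGroup.leftRel_apply).mpr (Subgroup.mem_subgroupOf.mpr
      (Subgroup.mem_centralizer_singleton_iff.mpr ?_)))
    simp only [Subgroup.coe_mul, Subgroup.coe_inv]
    calc a.1⁻¹ * b.1 * L.t = a.1⁻¹ * (b.1 * L.t * b.1⁻¹) * b.1 := by group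
      _ = L.t * (a.1⁻¹ * b.1) := by rw [← e]; group
  have h15 : (C.subgroupOf N).index ≤ 15 := by
    refine (Nat.card_le_card_of_injective f hf).trans ?_
    have h := Fintype.card_subtype_lt (p := fun e : E => (e : G) ≠ 1) (x := 1) (by simp)
    have h2 : Nat.card {e : G // e ∈ E ∧ e ≠ 1} = Fintype.card {e : E // (e : G) ≠ 1} := by
      rw [← Nat.card_eq_fintype_card]
      exact Nat.card_congr (Equiv.subtypeSubtypeEquivSubtypeInter (fun e => e ∈ E) (fun e => e ≠ 1)).symm
    rw [h2]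
    rw [← Nat.card_eq_fintype_card (α := E), hE] at h
    omega
  set K := Subgroup.centralizer (L.F : Set G) with hKdef
  have hcomm : ∀ x ∈ C, Commute x y → x ∈ K := fun x hx hxy => Subgroup.mem_centralizer_iff.mpr fun w hw => by
    have hxt : Commute x L.t := Subgroup.mem_centralizer_singleton_iff.mp hx
    rcases hall w hw with rfl | rfl | rfl | rfl
    exacts [(Commute.one_right x).symm.eq, hxt.symm.eq, hxy.symm.eq, (hxt.mul_right hxy).symm.eq]
  have hKC : K ≤ C := fun x hx =>
    Subgroup.mem_centralizer_singleton_iff.mpr (Subgroup.mem_centralizer_iff.mp hx _ L.htF).symm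
  let m : C ⧸ K.subgroupOf C → N ⧸ C.subgroupOf N := Quotient.lift
    (fun x : C => QuotientGroup.mk (⟨x.1 * c, N.mul_mem (hCN x.2) hcN⟩ : N))
    (fun a b hab => by
      replace hab := Subgroup.mem_subgroupOf.mp (QuotientGroup.leftRel_apply.mp hab)
      refine QuotientGroup.eq.mpr (Subgroup.mem_subgroupOf.mpr (Subgroup.mem_centralizer_singleton_iff.mpr ?_))
      have e := Subgroup.mem_centralizer_iff.mp hab y hy
      simp only [Subgroup.coe_mul, Subgroup.coe_inv] at e ⊢
      calc (a.1 * c)⁻¹ * (b.1 * c) * L.t = c⁻¹ * ((a.1⁻¹ * b.1) * (c * L.t * c⁻¹)) * c := by group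
        _ = c⁻¹ * ((c * L.t * c⁻¹) * (a.1⁻¹ * b.1)) * c := by rw [hcy, e]
        _ = L.t * ((a.1 * c)⁻¹ * (b.1 * c)) := by group)
  have hm : Function.Injective m := by
    rintro ⟨a⟩ ⟨b⟩ hab
    have e := Subgroup.mem_centralizer_singleton_iff.mp (Subgroup.mem_subgroupOf.mp (QuotientGroup.eq.mp hab))
    simp only [Subgroup.coe_mul, Subgroup.coe_inv] at e
    refine Quotient.sound ((QuotientGroup.leftRel_apply).mpr (Subgroup.mem_subgroupOf.mpr ?_))
    simp only [Subgroup.coe_mul, Subgroup.coe_inv]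
    refine hcomm _ (C.mul_mem (C.inv_mem a.2) b.2) ?_
    show a.1⁻¹ * b.1 * y = y * (a.1⁻¹ * b.1)
    rw [← hcy]
    calc a.1⁻¹ * b.1 * (c * L.t * c⁻¹) = c * ((a.1 * c)⁻¹ * (b.1 * c) * L.t) * c⁻¹ := by group
      _ = c * (L.t * ((a.1 * c)⁻¹ * (b.1 * c))) * c⁻¹ := by rw [e]
      _ = c * L.t * c⁻¹ * (a.1⁻¹ * b.1) := by group
  have h8 : 8 ≤ (C.subgroupOf N).index := by
    refine le_trans ?_ (Nat.card_le_card_of_injective m hm)
    have := (K.subgroupOf C).card_mul_index
    rw [Nat.card_congr (Subgroup.subgroupOfEquivOfLe hKC).toEquiv, hK,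
      show Nat.card C = 384 from T.cc_two hG L.ht] at this
    show 8 ≤ (K.subgroupOf C).index
    omega
  have hmul := (C.subgroupOf N).card_mul_index
  rw [Nat.card_congr (Subgroup.subgroupOfEquivOfLe hCN).toEquiv, show Nat.card C = 384 from T.cc_two hG L.ht] at hmul
  have h9 : 9 ∣ Nat.card N := by
    have h36 : Nat.card (Subgroup.centralizer ({L.z} : Set G)) ∣ Nat.card N :=
      Subgroup.card_dvd_of_le fun x hx => hFN (L.F_norm hx)
    rw [show Nat.card (Subgroup.centralizer ({L.z} : Set G)) = 36 from T.cc_three hG L.hz] at h36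
    exact (by norm_num : 9 ∣ 36).trans h36
  have hdG : Nat.card N ∣ 443520 := by
    rw [← hG.2]
    exact Subgroup.card_subgroup_dvd_card N
  generalize (C.subgroupOf N).index = k at hmul h15 h8
  rw [← hmul] at h9 hdG ⊢
  interval_cases k <;> first | (norm_num at h9; done) | (norm_num at hdG; done) | norm_num

end Loc

/-- A finite simple group of this order has a subgroup of index 77. -/
theorem Tbl.exists_index77 (T : Tbl G) (hG : IsM22 G) : ∃ H : Subgroup G, Nat.card H = 5760 ∧ H.index = 77 := by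
  obtain ⟨L⟩ := T.exists_loc hG
  obtain ⟨H, hH⟩ := L.exists_index T hG (L.not_normalised T hG)
  refine ⟨H, hH, ?_⟩
  have := H.card_mul_index
  rw [hH, hG.2] at this
  omega

end CfsgSimpleM22
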