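/-
The group acts with rank three on the cosets of a subgroup of index 77.
-/
import Cfsg.Agent.Lib.SimpleM22.Sixteen
import Cfsg.Agent.Lib.SimpleM11.RankThree

set_option autoImplicit false
set_option linter.style.haveILetI false
set_option linter.unusedSectionVars false

namespace CfsgSimpleM22

open Cfsg CfsgLib.CharTheory CfsgLib.Blocks CfsgSimpleM11
open scoped ComplexConjugate

universe u
variable {G : Type u} [Group G] [Fintype G]

/-- The number of orbits of a subgroup on its cosets is the norm of the permutation character. -/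
theorem card_orbits_cosets (H : Subgroup G) [Fintype H] (n : IrrCharacter G → ℕ)
    (hn : ∀ χ : IrrCharacter G, ∑ y : H, (χ : G → ℂ) y = (Nat.card H : ℂ) * n χ) :
    Nat.card (MulAction.orbitRel.Quotient H (G ⧸ H)) = ∑ χ : IrrCharacter G, n χ ^ 2 := by
  classical
  have hH0 : (Nat.card H : ℂ) ≠ 0 := Nat.cast_ne_zero.2 Nat.card_pos.ne'
  haveI := Fintype.ofFinite (G ⧸ H)
  haveI := Fintype.ofFinite (MulAction.orbitRel.Quotient H (G ⧸ H))
  have hB := MulAction.sum_card_fixedBy_eq_card_orbits_mul_card_group H (G ⧸ H)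
  have hfix : ∀ y : H, ((Nat.card H * Fintype.card (MulAction.fixedBy (G ⧸ H) y) : ℕ) : ℂ) =
      (Nat.card H : ℂ) * ∑ χ : IrrCharacter G, (n χ : ℂ) * conj ((χ : G → ℂ) (y : G)) := by
    intro y
    rw [mult_column H n hn, Nat.cast_inj, ← Nat.card_eq_fintype_card]
    have hiff : ∀ h : G, h⁻¹ * (y : G) * h ∈ H ↔ y • (QuotientGroup.mk h : G ⧸ H) = QuotientGroup.mk h := fun h => by
      show _ ↔ QuotientGroup.mk ((y : G) * h) = (QuotientGroup.mk h : G ⧸ H)
      rw [eq_comm, QuotientGroup.eq, mul_assoc]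
    rw [mul_comm, ← Nat.card_prod]
    symm
    refine Nat.card_congr
      { toFun := fun h => (⟨QuotientGroup.mk h.1, (hiff h.1).1 h.2⟩,
          ⟨(QuotientGroup.mk h.1 : G ⧸ H).out⁻¹ * h.1, QuotientGroup.eq.1 (QuotientGroup.out_eq' _)⟩)
        invFun := fun p => ⟨p.1.1.out * (p.2 : G), (hiff _).2 (by
          rw [QuotientGroup.mk_mul_of_mem _ p.2.2, QuotientGroup.out_eq']; exact p.1.2)⟩
        left_inv := fun h => Subtype.ext (mul_inv_cancel_left _ _)
        right_inv := fun p => ?_ }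
    have hs : (QuotientGroup.mk (p.1.1.out * (p.2 : G)) : G ⧸ H) = p.1.1 := by
      rw [QuotientGroup.mk_mul_of_mem _ p.2.2, QuotientGroup.out_eq']
    refine Prod.ext (Subtype.ext hs) (Subtype.ext ?_)
    show (QuotientGroup.mk (p.1.1.out * (p.2 : G)) : G ⧸ H).out⁻¹ * (p.1.1.out * (p.2 : G)) = (p.2 : G)
    rw [hs, inv_mul_cancel_left]
  have key : ((∑ y : H, Fintype.card (MulAction.fixedBy (G ⧸ H) y) : ℕ) : ℂ) =
      (Nat.card H : ℂ) * ((∑ χ : IrrCharacter G, n χ ^ 2 : ℕ) : ℂ) := by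
    apply mul_left_cancel₀ hH0
    rw [Nat.cast_sum, Finset.mul_sum]
    simp only [← Nat.cast_mul, hfix]
    rw [← Finset.mul_sum, Finset.sum_comm]
    push_cast
    congr 1
    rw [Finset.mul_sum]
    refine Finset.sum_congr rfl fun χ _ => ?_
    rw [← Finset.mul_sum, ← map_sum, hn χ, map_mul, map_natCast, map_natCast]
    ring
  rw [hB, Nat.cast_mul, Nat.card_eq_fintype_card (α := H), mul_comm] at key
  have := mul_left_cancel₀ (by rw [← Nat.card_eq_fintype_card]; exact hH0) key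
  rw [Nat.card_eq_fintype_card]
  exact_mod_cast this

theorem Tbl.orbit_count77 (T : Tbl G) (hG : IsM22 G) {H : Subgroup G} (hidx : H.index = 77)
    (hcard : Nat.card H = 5760) : Nat.card (MulAction.orbitRel.Quotient H (G ⧸ H)) = 3 := by
  classical
  haveI := Fintype.ofFinite H
  choose n hn using exists_fix_mult H
  rw [card_orbits_cosets H n hn]
  have hH0 : (Nat.card H : ℂ) ≠ 0 := Nat.cast_ne_zero.2 Nat.card_pos.ne'
  have htriv : n (triv G) = 1 := by
    have h := hn (triv G)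
    simp only [triv_apply] at h
    rw [Finset.sum_const, Finset.card_univ, ← Nat.card_eq_fintype_card, nsmul_eq_mul] at h
    exact_mod_cast (mul_left_cancel₀ hH0 h).symm
  have hone : ∑ χ : IrrCharacter G, (n χ : ℂ) * (dg χ : ℂ) = 77 := by
    have h := mult_column H n hn 1
    rw [Nat.card_congr (Equiv.subtypeUnivEquiv (p := fun h : G => h⁻¹ * 1 * h ∈ H) (fun h : G => by
      rw [mul_one, inv_mul_cancel]; exact one_mem H)), hG.2, hcard] at h
    simp only [irr_degree, map_natCast] at h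
    push_cast at h
    linear_combination h / 5760
  have hone' : ∑ χ : IrrCharacter G, n χ * dg χ = 77 := by exact_mod_cast hone
  rw [T.sum_all] at hone' ⊢
  simp only [T.deg, D12, Fin.sum_univ_succ, Fin.sum_univ_zero, add_zero, Matrix.cons_val_zero,
    Matrix.cons_val_succ] at hone' ⊢
  rw [T.first, htriv] at hone' ⊢
  generalize n (T.χ (Fin.succ 0)) = a at hone' ⊢
  generalize n (T.χ (Fin.succ 0).succ) = b at hone' ⊢
  generalize n (T.χ (Fin.succ 0).succ.succ) = c at hone' ⊢
  generalize n (T.χ (Fin.succ 0).succ.succ.succ) = d at hone' ⊢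
  generalize n (T.χ (Fin.succ 0).succ.succ.succ.succ) = e at hone' ⊢
  generalize n (T.χ (Fin.succ 0).succ.succ.succ.succ.succ) = e' at hone' ⊢
  generalize n (T.χ (Fin.succ 0).succ.succ.succ.succ.succ.succ) = f at hone' ⊢
  generalize n (T.χ (Fin.succ 0).succ.succ.succ.succ.succ.succ.succ) = p at hone' ⊢
  generalize n (T.χ (Fin.succ 0).succ.succ.succ.succ.succ.succ.succ.succ) = q at hone' ⊢
  generalize n (T.χ (Fin.succ 0).succ.succ.succ.succ.succ.succ.succ.succ.succ) = r at hone' ⊢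
  generalize n (T.χ (Fin.succ 0).succ.succ.succ.succ.succ.succ.succ.succ.succ.succ) = s at hone' ⊢
  obtain ⟨rfl, rfl, rfl, rfl, rfl, rfl, rfl, rfl, rfl, rfl, rfl⟩ :
      a = 1 ∧ b = 0 ∧ c = 0 ∧ d = 0 ∧ e = 0 ∧ e' = 0 ∧ f = 1 ∧ p = 0 ∧ q = 0 ∧ r = 0 ∧ s = 0 := by
    obtain ⟨ha, hb, hc, hf⟩ : a ≤ 3 ∧ b ≤ 1 ∧ c ≤ 1 ∧ f ≤ 1 := by omega
    interval_cases a <;> interval_cases b <;> interval_cases c <;> interval_cases f <;> omega
  norm_num

end CfsgSimpleM22
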