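/-
The strongly regular graph on 77 points.
-/
import Cfsg.Agent.Lib.SimpleM22.RankThree
import Cfsg.Agent.Lib.SimpleM22.Params

set_option autoImplicit false
set_option linter.style.haveILetI false
set_option linter.unusedSectionVars false

namespace CfsgSimpleM22

open Cfsg MulAction

universe u
variable {G : Type u} [Group G] [Fintype G]

theorem inter_conj {X : Type*} [MulAction G X] (g : G) (P Q : X) :
    Nat.card ↥(stabilizer G (g • P) ⊓ stabilizer G (g • Q)) = Nat.card ↥(stabilizer G P ⊓ stabilizer G Q) := by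
  symm
  refine Nat.card_congr ((MulAut.conj g).toEquiv.subtypeEquiv fun y => ?_)
  simp only [Subgroup.mem_inf, MulAction.mem_stabilizer_iff]
  show _ ↔ (g * y * g⁻¹) • g • P = g • P ∧ (g * y * g⁻¹) • g • Q = g • Q
  simp only [mul_smul, inv_smul_smul, smul_left_cancel_iff]

/-- The orbital graph of a given valency. -/
def orbGraph (H : Subgroup G) (k : ℕ) : SimpleGraph (G ⧸ H) where
  Adj P Q := Q ≠ P ∧ Nat.card ↥(stabilizer G P ⊓ stabilizer G Q) * k = Nat.card H
  symm := ⟨fun P Q h => ⟨h.1.symm, by rw [inf_comm]; exact h.2⟩⟩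
  loopless := ⟨fun P h => h.1 rfl⟩

theorem orbGraph_smul (H : Subgroup G) (k : ℕ) (g : G) (P Q : G ⧸ H) :
    (orbGraph H k).Adj (g • P) (g • Q) ↔ (orbGraph H k).Adj P Q := by
  show (_ ∧ _) ↔ (_ ∧ _)
  rw [inter_conj, ne_eq, smul_left_cancel_iff]

theorem suborbit_card (H : Subgroup G) (Q : G ⧸ H) :
    Nat.card (orbit H Q) * Nat.card ↥(stabilizer G ((1 : G) : G ⧸ H) ⊓ stabilizer G Q) = Nat.card H := by
  have h := (stabilizer H Q).card_mul_index
  rw [MulAction.index_stabilizer, ← Nat.card_coe_set_eq] at h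
  rw [stabilizer_quotient]
  have e : Nat.card (stabilizer H Q) = Nat.card ↥(H ⊓ stabilizer G Q) := by
    rw [show stabilizer H Q = (stabilizer G Q).subgroupOf H from rfl, ← Subgroup.inf_subgroupOf_left,
      Nat.card_congr (Subgroup.subgroupOfEquivOfLe inf_le_left).toEquiv]
  rw [e, mul_comm] at h
  exact h

theorem suborbit_check : ((List.range 77).all fun x => 5760 % x != 0 || 5760 % (76 - x) != 0 ||
    (x != 76 - x && (valencies.contains x || valencies.contains (76 - x)))) = true := by decide +kernel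

theorem suborbit_key (x : ℕ) (hx : x < 77) (y : ℕ) (_ : y < 77) (hxy : x + y = 76) (h1 : 5760 % x = 0)
    (h2 : 5760 % y = 0) : (x ∈ valencies ∧ x ≠ y) ∨ (y ∈ valencies ∧ x ≠ y) := by
  have h := List.all_eq_true.1 suborbit_check x (List.mem_range.2 hx)
  obtain rfl : y = 76 - x := by omega
  simp only [h1, h2, bne_self_eq_false, Bool.false_or, Bool.and_eq_true, bne_iff_ne, ne_eq, Bool.or_eq_true,
    List.contains_iff_mem] at h
  exact h.2.imp (fun e => ⟨e, h.1⟩) fun e => ⟨e, h.1⟩

theorem Tbl.exists_graph (T : Tbl G) (hG : IsM22 G) {H : Subgroup G} (hidx : H.index = 77)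
    (hcard : Nat.card H = 5760) [Fintype (G ⧸ H)] [DecidableEq (G ⧸ H)] [DecidableRel (orbGraph H 16).Adj] :
    (orbGraph H 16).IsSRGWith 77 16 0 4 := by
  classical
  set X := G ⧸ H
  set x0 : X := ((1 : G) : G ⧸ H) with hx0
  haveI := Fintype.ofFinite (orbitRel.Quotient H X)
  have hq : (Finset.univ : Finset (orbitRel.Quotient H X)).card = 3 := by
    rw [Finset.card_univ, ← Nat.card_eq_fintype_card]; exact T.orbit_count77 hG hidx hcard
  have hX : Fintype.card X = 77 := by rw [← Nat.card_eq_fintype_card]; exact hidx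
  let π : X → orbitRel.Quotient H X := fun R => Quotient.mk _ R
  have hπ : ∀ Q R, π R = π Q ↔ R ∈ orbit H Q := fun Q R =>
    ⟨fun h => orbitRel_apply.mp (Quotient.exact h), fun h => Quotient.sound (orbitRel_apply.mpr h)⟩
  have hP : ∀ R, π R = π x0 → R = x0 := by
    intro R h
    obtain ⟨g, rfl⟩ := (hπ x0 R).1 h
    show ((g : G) • x0) = x0
    refine mem_stabilizer_iff.1 ?_
    rw [hx0, stabilizer_quotient]
    exact g.2
  obtain ⟨q1, q2, hq12, hpair⟩ := Finset.card_eq_two.mp (show (Finset.univ.erase (π x0)).card = 2 by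
    rw [Finset.card_erase_of_mem (Finset.mem_univ _), hq])
  set F : orbitRel.Quotient H X → Finset X := fun q => Finset.univ.filter (fun R => π R = q) with hF
  have horb : ∀ q, ∀ Q ∈ F q, Nat.card (orbit H Q) = (F q).card := by
    intro q Q hQ
    rw [← (Finset.mem_filter.1 hQ).2, Nat.card_eq_fintype_card, ← Set.toFinset_card]
    refine congrArg Finset.card ?_
    ext R
    simp [hF, hπ]
  have hne : ∀ q ∈ Finset.univ.erase (π x0), x0 ∉ F q ∧ (F q).card ∣ 5760 := by
    intro q hq'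
    obtain ⟨Q, rfl⟩ := Quotient.exists_rep q
    refine ⟨fun h => (Finset.mem_erase.1 hq').1 (Finset.mem_filter.1 h).2.symm, ?_⟩
    have h := suborbit_card H Q
    rw [horb (π Q) Q (by simp [hF]), hcard] at h
    exact Dvd.intro _ h
  obtain ⟨c1, a1⟩ := hne q1 (by rw [hpair]; simp)
  obtain ⟨c2, a2⟩ := hne q2 (by rw [hpair]; simp)
  have hcover : ∀ R, R ≠ x0 → R ∈ F q1 ∨ R ∈ F q2 := by
    intro R hR
    have : π R ∈ Finset.univ.erase (π x0) := Finset.mem_erase.2 ⟨fun h => hR (hP R h), Finset.mem_univ _⟩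
    rw [hpair, Finset.mem_insert, Finset.mem_singleton] at this
    rcases this with h | h
    · exact Or.inl (Finset.mem_filter.2 ⟨Finset.mem_univ _, h⟩)
    · exact Or.inr (Finset.mem_filter.2 ⟨Finset.mem_univ _, h⟩)
  have hdisj : Disjoint (F q1) (F q2) := Finset.disjoint_left.2 fun R h1 h2 =>
    hq12 ((Finset.mem_filter.1 h1).2.symm.trans (Finset.mem_filter.1 h2).2)
  have hsum : (F q1).card + (F q2).card = 76 := by
    have h1 : insert x0 (F q1 ∪ F q2) = Finset.univ := Finset.eq_univ_of_forall fun R => by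
      by_cases hR : R = x0
      · simp [hR]
      · rcases hcover R hR with h | h <;> simp [h]
    have h2 := congrArg Finset.card h1
    rw [Finset.card_insert_of_notMem (by simp [c1, c2]), Finset.card_union_of_disjoint hdisj, Finset.card_univ,
      hX] at h2
    omega
  have key := suborbit_key
  obtain ⟨A, B, hA4, hAB, hAB', hxA, hxB, hcov⟩ : ∃ A B : orbitRel.Quotient H X, (F A).card ∈ valencies ∧
      (F A).card + (F B).card = 76 ∧ (F A).card ≠ (F B).card ∧ x0 ∉ F A ∧ x0 ∉ F B ∧ ∀ R, R ≠ x0 → R ∈ F A ∨ R ∈ F B := by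
    rcases key _ (by omega) _ (by omega) hsum (Nat.mod_eq_zero_of_dvd a1) (Nat.mod_eq_zero_of_dvd a2) with ⟨h, h'⟩ | ⟨h, h'⟩
    · exact ⟨q1, q2, h, hsum, h', c1, c2, hcover⟩
    · exact ⟨q2, q1, h, by omega, h'.symm, c2, c1, fun R hR => (hcover R hR).symm⟩
  set k := (F A).card with hk
  set Γ := orbGraph H k with hΓ
  have hadj : ∀ Q, Γ.Adj x0 Q ↔ Q ∈ F A := by
    intro Q
    have hs := suborbit_card H Q
    constructor
    · rintro ⟨hne, hc⟩
      refine (hcov Q hne).resolve_right fun h => ?_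
      rw [horb B Q h, ← hx0] at hs
      have hpos : 0 < Nat.card ↥(stabilizer G x0 ⊓ stabilizer G Q) := Nat.card_pos
      exact hAB' (Nat.eq_of_mul_eq_mul_left hpos (hc.trans (hs.symm.trans (mul_comm _ _))))
    · intro h
      refine ⟨fun e => hxA (e ▸ h), ?_⟩
      rw [horb A Q h, ← hx0, ← hk] at hs
      rw [mul_comm]; exact hs
  -- transitivity
  have hpre : ∀ P : X, ∃ g : G, g • x0 = P := fun P => MulAction.exists_smul_eq G x0 P
  have harc : ∀ P Q P' Q' : X, Q ≠ P → Q' ≠ P' → (Γ.Adj P Q ↔ Γ.Adj P' Q') → ∃ g : G, g • P = P' ∧ g • Q = Q' := by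
    intro P Q P' Q' hne hne' h
    obtain ⟨a, rfl⟩ := hpre P
    obtain ⟨b, rfl⟩ := hpre P'
    set Q1 := a⁻¹ • Q with hQ1
    set Q2 := b⁻¹ • Q' with hQ2
    have hn1 : Q1 ≠ x0 := fun e => hne (by rw [← e, hQ1, smul_inv_smul])
    have hn2 : Q2 ≠ x0 := fun e => hne' (by rw [← e, hQ2, smul_inv_smul])
    rw [← smul_inv_smul a Q, ← smul_inv_smul b Q', orbGraph_smul, orbGraph_smul, ← hΓ, hadj, hadj, ← hQ1, ← hQ2] at h
    have hsame : ∀ q, Q1 ∈ F q → Q2 ∈ F q → ∃ g : G, g • a • x0 = b • x0 ∧ g • Q = Q' := by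
      intro q h1 h2
      obtain ⟨c, hc⟩ := (hπ Q1 Q2).1 ((Finset.mem_filter.1 h2).2.trans (Finset.mem_filter.1 h1).2.symm)
      have hc' : (c : G) • Q1 = Q2 := hc
      refine ⟨b * c * a⁻¹, ?_, ?_⟩
      · rw [mul_smul, inv_smul_smul, mul_smul, mem_stabilizer_iff.1 (show (c : G) ∈ stabilizer G x0 by
          rw [hx0, stabilizer_quotient]; exact c.2)]
      · rw [mul_smul, mul_smul, ← hQ1, hc', hQ2, smul_inv_smul]
    by_cases hm : Q1 ∈ F A
    · exact hsame A hm (h.1 hm)
    · exact hsame B ((hcov Q1 hn1).resolve_left hm) ((hcov Q2 hn2).resolve_left fun e => hm (h.2 e))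
  have hcommon : ∀ P Q P' Q' : X, Q ≠ P → Q' ≠ P' → (Γ.Adj P Q ↔ Γ.Adj P' Q') →
      Nat.card (Γ.commonNeighbors P Q) = Nat.card (Γ.commonNeighbors P' Q') := by
    intro P Q P' Q' hne hne' h
    obtain ⟨g, rfl, rfl⟩ := harc P Q P' Q' hne hne' h
    refine Nat.card_congr ((MulAction.toPerm g).subtypeEquiv fun R => ?_)
    show R ∈ Γ.commonNeighbors P Q ↔ g • R ∈ Γ.commonNeighbors (g • P) (g • Q)
    simp only [SimpleGraph.mem_commonNeighbors, hΓ]
    exact and_congr (orbGraph_smul H k g P R).symm (orbGraph_smul H k g Q R).symm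
  have hk' : k ≤ 36 ∧ 0 < k := by
    have := hA4
    simp [valencies] at this
    omega
  obtain ⟨Q, hQ⟩ : (F A).Nonempty := Finset.card_pos.1 hk'.2
  obtain ⟨R, hR⟩ : (F B).Nonempty := Finset.card_pos.1 (by omega)
  have hRP : R ≠ x0 := fun e => hxB (e ▸ hR)
  have hPR : ¬ Γ.Adj x0 R := fun h => by
    have h1 := (Finset.mem_filter.1 ((hadj R).1 h)).2
    have h2 := (Finset.mem_filter.1 hR).2
    exact hAB' (by rw [hk]; exact congrArg (fun q => (F q).card) (h1.symm.trans h2))
  have hdeg : Γ.degree x0 = k := by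
    rw [← SimpleGraph.card_neighborFinset_eq_degree]
    exact congrArg Finset.card (Finset.ext fun R => by rw [SimpleGraph.mem_neighborFinset, hadj])
  have h : Γ.IsSRGWith 77 k (Nat.card (Γ.commonNeighbors x0 Q)) (Nat.card (Γ.commonNeighbors x0 R)) :=
    { card := hX
      regular := fun v => by
        obtain ⟨g, rfl⟩ := hpre v
        rw [← hdeg, ← SimpleGraph.card_neighborFinset_eq_degree, ← SimpleGraph.card_neighborFinset_eq_degree]
        refine (Finset.card_equiv (MulAction.toPerm g) fun R => ?_).symm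
        rw [SimpleGraph.mem_neighborFinset, SimpleGraph.mem_neighborFinset]
        exact (orbGraph_smul H k g x0 R).symm
      of_adj := fun v w hvw => by
        rw [← Nat.card_eq_fintype_card]
        exact hcommon v w x0 Q hvw.ne' ((hadj Q).2 hQ).ne' (iff_of_true hvw ((hadj Q).2 hQ))
      of_not_adj := fun v w hne hvw => by
        rw [← Nat.card_eq_fintype_card]
        exact hcommon v w x0 R hne.symm hRP (iff_of_false hvw hPR) }
  have hl : Nat.card (Γ.commonNeighbors x0 Q) < k := by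
    rw [Nat.card_eq_fintype_card, ← Set.toFinset_card]
    have hsub : (Γ.commonNeighbors x0 Q).toFinset ⊆ (F A).erase Q := fun S hS => by
      rw [Set.mem_toFinset, SimpleGraph.mem_commonNeighbors] at hS
      exact Finset.mem_erase.2 ⟨hS.2.ne', (hadj S).1 hS.1⟩
    have := Finset.card_le_card hsub
    rw [Finset.card_erase_of_mem hQ] at this
    omega
  have hm : Nat.card (Γ.commonNeighbors x0 R) ≤ k := by
    rw [Nat.card_eq_fintype_card, ← Set.toFinset_card]
    exact Finset.card_le_card fun S hS => by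
      rw [Set.mem_toFinset, SimpleGraph.mem_commonNeighbors] at hS
      exact (hadj S).1 hS.1
  obtain ⟨e1, e2, e3⟩ := params77 Γ h hA4 hl hm
  rw [e2, e3] at h
  clear_value k
  subst e1
  convert h

end CfsgSimpleM22
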