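/-
A simple group of order 443520 acts on a Steiner system S(3, 6, 22).
-/
import Cfsg.Agent.Lib.SimpleM22.Graph
import Cfsg.Agent.Lib.SRGUnique.SeventySeven
import Cfsg.Agent.Lib.GolayUnique.Model

set_option autoImplicit false
set_option linter.style.haveILetI false
set_option linter.unusedSectionVars false

namespace CfsgSimpleM22

open Cfsg Finset CfsgSRGUnique.SeventySeven

section Blocks

variable {V : Type*} [Fintype V] [DecidableEq V] {Γ : SimpleGraph V} [DecidableRel Γ.Adj]

/-- The blocks form a Steiner system. -/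
theorem block_steiner (hΓ : Γ.IsSRGWith 77 16 0 4) : IsSteinerSystem 3 6 (Set.range (block Γ)) := by
  classical
  have h6 : ∀ x, (block Γ x).card = 6 := fun x => by rw [card_block_map, card_six hΓ]
  have hdis : ((univ : Finset V) : Set V).PairwiseDisjoint fun x => (block Γ x).powersetCard 3 := by
    intro x _ y _ hne
    refine disjoint_left.mpr fun t ht ht' => ?_
    rw [mem_powersetCard] at ht ht'
    have h1 := card_le_card (subset_inter ht.1 ht'.1)
    rw [block_inter hΓ (Ne.symm hne), ht.2] at h1
    split_ifs at h1 <;> omega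
  have hall : (univ : Finset V).biUnion (fun x => (block Γ x).powersetCard 3) =
      (univ : Finset ↥(coc Γ)).powersetCard 3 := by
    refine eq_of_subset_of_card_le (biUnion_subset.mpr fun x _ => powersetCard_mono (subset_univ _)) ?_
    rw [card_powersetCard, card_univ, Fintype.card_coe, card_coc hΓ, card_biUnion hdis,
      sum_congr rfl fun x _ => by rw [card_powersetCard, h6], sum_const, card_univ, hΓ.card]
    decide
  refine ⟨?_, ?_⟩
  · rintro - ⟨x, rfl⟩; exact h6 x
  · intro s hs
    have hs' : s ∈ (univ : Finset V).biUnion (fun x => (block Γ x).powersetCard 3) := by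
      rw [hall, mem_powersetCard]; exact ⟨subset_univ _, hs⟩
    obtain ⟨x, -, hx⟩ := mem_biUnion.mp hs'
    refine ⟨block Γ x, ⟨⟨x, rfl⟩, (mem_powersetCard.mp hx).1⟩, ?_⟩
    rintro - ⟨⟨y, rfl⟩, hy⟩
    by_contra hne
    exact disjoint_left.mp (hdis (mem_coe.mpr (mem_univ y)) (mem_coe.mpr (mem_univ x)) fun e => hne (e ▸ rfl))
      (mem_powersetCard.mpr ⟨hy, hs⟩) hx

end Blocks

universe u
variable {G : Type u} [Group G] [Fintype G]

theorem exists_system (hG : IsM22 G) :
    ∃ (α : Type u) (_ : Fintype α) (_ : DecidableEq α) (B : Set (Finset α)), Fintype.card α = 22 ∧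
      IsSteinerSystem 3 6 B ∧ ∃ f : G →* setSystemAut B, Function.Injective f := by
  classical
  obtain ⟨T⟩ := exists_tbl hG
  obtain ⟨H, hcard, hidx⟩ := T.exists_index77 hG
  haveI := Fintype.ofFinite (G ⧸ H)
  set V := G ⧸ H with hV
  set Γ := orbGraph H 16 with hΓdef
  have hΓ : Γ.IsSRGWith 77 16 0 4 := T.exists_graph hG hidx hcard
  have hmem : ∀ (g : G) (s : Finset V), s ∈ coc Γ → s.image (g • ·) ∈ coc Γ := by
    intro g s hs
    obtain ⟨h21, hco⟩ := mem_coc.mp hs
    refine mem_coc.mpr ⟨by rw [card_image_of_injective _ (MulAction.injective g), h21], ?_⟩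
    intro a ha b hb
    obtain ⟨a', ha', rfl⟩ := mem_image.1 ha
    obtain ⟨b', hb', rfl⟩ := mem_image.1 hb
    rw [hΓdef, orbGraph_smul]
    exact hco a' ha' b' hb'
  letI act : MulAction G ↥(coc Γ) :=
    { smul := fun g s => ⟨s.1.image (g • ·), hmem g s.1 s.2⟩
      one_smul := fun s => Subtype.ext (by show s.1.image ((1 : G) • ·) = s.1; simp)
      mul_smul := fun g h s => Subtype.ext (by
        show s.1.image ((g * h) • ·) = (s.1.image (h • ·)).image (g • ·)
        rw [image_image]; exact image_congr fun x _ => mul_smul g h x) }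
  set φ := MulAction.toPermHom G ↥(coc Γ) with hφ
  have hblock : ∀ (g : G) (x : V), (block Γ x).image (φ g) = block Γ (g • x) := by
    intro g x
    ext s
    simp only [mem_image, mem_block]
    constructor
    · rintro ⟨t, ht, rfl⟩
      exact mem_image_of_mem (g • ·) ht
    · intro hs
      refine ⟨g⁻¹ • s, ?_, smul_inv_smul g s⟩
      show x ∈ s.1.image (g⁻¹ • ·)
      exact mem_image.2 ⟨g • x, hs, inv_smul_smul g x⟩
  have hrange : ∀ g, φ g ∈ setSystemAut (Set.range (block Γ)) := by
    intro g
    show (fun b : Finset ↥(coc Γ) => b.image (φ g)) '' Set.range (block Γ) = Set.range (block Γ)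
    ext b
    constructor
    · rintro ⟨_, ⟨x, rfl⟩, rfl⟩
      exact ⟨g • x, (hblock g x).symm⟩
    · rintro ⟨x, rfl⟩
      exact ⟨_, ⟨g⁻¹ • x, rfl⟩, by
        show (block Γ (g⁻¹ • x)).image (φ g) = _
        rw [hblock, smul_inv_smul]⟩
  refine ⟨↥(coc Γ), inferInstance, inferInstance, Set.range (block Γ), by rw [Fintype.card_coe, card_coc hΓ],
    block_steiner hΓ, φ.codRestrict _ hrange, ?_⟩
  have hinj : Function.Injective φ := by
    rw [← MonoidHom.ker_eq_bot_iff]
    haveI := hG.1
    refine (φ.normal_ker.eq_bot_or_eq_top).resolve_right fun htop => ?_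
    obtain ⟨s, hs⟩ : (coc Γ).Nonempty := card_pos.1 (by rw [card_coc hΓ]; norm_num)
    obtain ⟨h21, -⟩ := mem_coc.mp hs
    obtain ⟨x, hx⟩ := card_pos.1 (show 0 < s.card by omega)
    have hall : ∀ y, y ∈ s := fun y => by
      obtain ⟨g, hg⟩ := MulAction.exists_smul_eq G x y
      have h1 : φ g ⟨s, hs⟩ = ⟨s, hs⟩ := Equiv.ext_iff.mp (MonoidHom.mem_ker.mp (htop ▸ Subgroup.mem_top g)) _
      have h2 : s.image (g • ·) = s := congrArg Subtype.val h1
      rw [← h2, ← hg]
      exact mem_image_of_mem _ hx
    have := congrArg Finset.card (eq_univ_of_forall hall)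
    rw [h21, card_univ, hΓ.card] at this
    norm_num at this
  exact fun a b hab => hinj (congrArg Subtype.val hab)

/-- Two simple subgroups of index two coincide. -/
theorem eq_of_index_two {A : Type*} [Group A] [Finite A] (hA : Nat.card A = 887040) {H K : Subgroup A}
    (hH : Nat.card H = 443520) (hK : Nat.card K = 443520) (hs : IsSimpleGroup H) : H = K := by
  have hi : K.index = 2 := by
    have := K.card_mul_index
    rw [hA, hK] at this
    omega
  haveI := Subgroup.normal_of_index_eq_two hi
  rcases (inferInstance : (K.subgroupOf H).Normal).eq_bot_or_eq_top with h | h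
  · exfalso
    rw [Subgroup.subgroupOf_eq_bot, disjoint_iff] at h
    have hinj : Function.Injective fun x : K × H => (x.1.1 * x.2.1) :=
      Subgroup.mul_injective_of_disjoint (disjoint_iff.mpr h)
    have := Nat.card_le_card_of_injective _ hinj
    rw [Nat.card_prod, hH, hK, hA] at this
    norm_num at this
  · exact Subgroup.eq_of_le_of_card_ge (Subgroup.subgroupOf_eq_top.mp h) (by rw [hH, hK])

/-- Finite simple groups of order 443520 are isomorphic. -/
theorem unique443520 {K : Type*} [Group K] [Finite K] (hG : IsM22 G) (hK : IsM22 K) : Nonempty (G ≃* K) := by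
  classical
  haveI := Fintype.ofFinite K
  obtain ⟨α, _, _, B, hα, hB, f, hf⟩ := exists_system hG
  obtain ⟨β, _, _, B', hβ, hB', f', hf'⟩ := exists_system hK
  obtain ⟨e, he⟩ := CfsgCode.iso_22 hα hβ hB hB'
  have hmap : ∀ σ ∈ setSystemAut B, e.permCongrHom σ ∈ setSystemAut B' := by
    intro σ hσ
    show (fun b : Finset β => b.image (e.permCongrHom σ)) '' B' = B'
    have hσ' : (fun b : Finset α => b.image σ) '' B = B := hσ
    rw [← he, Set.image_image]
    conv_rhs => rw [← hσ', Set.image_image]
    refine Set.image_congr fun b _ => ?_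
    rw [Finset.image_image, Finset.image_image]
    refine Finset.image_congr fun x _ => ?_
    show e (σ (e.symm (e x))) = e (σ x)
    rw [e.symm_apply_apply]
  set ψ : setSystemAut B →* setSystemAut B' :=
    ((e.permCongrHom.toMonoidHom).comp (setSystemAut B).subtype).codRestrict _ (fun σ => hmap σ.1 σ.2) with hψ
  have hψi : Function.Injective ψ := fun a b h =>
    Subtype.ext (e.permCongrHom.injective (congrArg Subtype.val h))
  set g := ψ.comp f with hg
  have hgi : Function.Injective g := hψi.comp hf
  have hc1 : Nat.card g.range = 443520 := by rw [← Nat.card_congr (MonoidHom.ofInjective hgi).toEquiv, hG.2]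
  have hc2 : Nat.card f'.range = 443520 := by rw [← Nat.card_congr (MonoidHom.ofInjective hf').toEquiv, hK.2]
  have hs : IsSimpleGroup g.range := by
    haveI := hG.1
    exact (MonoidHom.ofInjective hgi).symm.isSimpleGroup
  have heq := eq_of_index_two (CfsgCode.aut_22 hβ hB').1 hc1 hc2 hs
  exact ⟨((MonoidHom.ofInjective hgi).trans (MulEquiv.subgroupCongr heq)).trans (MonoidHom.ofInjective hf').symm⟩

end CfsgSimpleM22
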